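import Cfsg.Agent.LThreeCo1T8.Main
import Cfsg.Agent.LThreeCo1.Ev
import Cfsg.Agent.MFive.FixN
import Cfsg.Agent.LThreeBX.NoSeven

/-!
# Explicit elements of `Co0` for the subgroups `7 × A7` and `S3 × A9` of `Co1` (helper813)

With `s, g, x` the generators of `LThreeCo1T8.Mat` (`x` of order 3, `g ^ i s g ^ -i`, `i < 7`, the Carmichael generators
of `2.A9`): `x7` has order 7, commutes with `g ^ i s g ^ -i`, `i < 5`, and has no fixed vectors;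
`t2` is an involution inverting `x` and commuting with `s` and `g`.
The lists are generated by a script and checked by the kernel.
-/

set_option autoImplicit false
set_option maxRecDepth 100000

namespace Cfsg.Agent.H813.CoSevenData

open Cfsg Cfsg.Agent.SporadicA Cfsg.Agent.SporadicStructure.Co0Matrix Cfsg.Agent.CoOneType.CoEval
open Cfsg.Agent.LThreeCo1.Ev Cfsg.Agent.MonsterU.Lam2 Cfsg.Agent.LThreeMB.Fix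
open Cfsg.Agent.LThreeMB (fr)
open Cfsg.Spor (Co1)

/-- rows of the element of order seven (times 8) -/
def rP : List (List ℤ) := [
  [0, -4, 0, 0, 0, 0, 0, 0, 0, 0, 0, 4, 0, 0, 0, 0, 4, 0, 0, 0, 0, 0, 0, 4],
  [0, 0, 4, 4, 0, 0, 0, 0, 0, 0, -4, 0, 0, 0, 0, 0, 0, 0, 0, 0, 0, 4, 0, 0],
  [0, 0, 0, 0, 0, 0, 0, 0, 0, -4, 0, 0, 4, 0, 0, 0, 0, 0, 0, 0, -4, 0, -4, 0],
  [0, -4, 0, 0, 0, 0, 0, 0, 0, 0, 0, -4, 0, 0, 0, 0, 4, 0, 0, 0, 0, 0, 0, -4],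
  [0, 0, 0, 0, -4, 4, 0, 0, 0, 0, 0, 0, 0, 0, 0, 0, 0, 4, 4, 0, 0, 0, 0, 0],
  [4, 0, 0, 0, 0, 0, -4, 0, 0, 0, 0, 0, 0, 0, -4, -4, 0, 0, 0, 0, 0, 0, 0, 0],
  [0, 0, 0, 0, 0, 0, 0, 0, 0, -4, 0, 0, 4, 0, 0, 0, 0, 0, 0, 0, 4, 0, 4, 0],
  [0, 0, 4, 4, 0, 0, 0, 0, 0, 0, 4, 0, 0, 0, 0, 0, 0, 0, 0, 0, 0, -4, 0, 0],
  [-4, 0, 0, 0, 0, 0, -4, 0, 0, 0, 0, 0, 0, 0, 4, -4, 0, 0, 0, 0, 0, 0, 0, 0],
  [0, 0, 4, -4, 0, 0, 0, 0, 0, 0, 4, 0, 0, 0, 0, 0, 0, 0, 0, 0, 0, 4, 0, 0],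
  [0, 0, 0, 0, -4, -4, 0, 0, 0, 0, 0, 0, 0, 0, 0, 0, 0, 4, -4, 0, 0, 0, 0, 0],
  [-4, 0, 0, 0, 0, 0, 4, 0, 0, 0, 0, 0, 0, 0, -4, -4, 0, 0, 0, 0, 0, 0, 0, 0],
  [0, 0, 0, 0, 0, 0, 0, 0, 0, -4, 0, 0, -4, 0, 0, 0, 0, 0, 0, 0, -4, 0, 4, 0],
  [0, 0, 0, 0, 0, 0, 0, 4, 4, 0, 0, 0, 0, -4, 0, 0, 0, 0, 0, 4, 0, 0, 0, 0],
  [0, 0, 0, 0, 0, 0, 0, -4, -4, 0, 0, 0, 0, -4, 0, 0, 0, 0, 0, 4, 0, 0, 0, 0],
  [0, 0, 0, 0, 4, 4, 0, 0, 0, 0, 0, 0, 0, 0, 0, 0, 0, 4, -4, 0, 0, 0, 0, 0],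
  [0, -4, 0, 0, 0, 0, 0, 0, 0, 0, 0, 4, 0, 0, 0, 0, -4, 0, 0, 0, 0, 0, 0, -4],
  [0, 0, 0, 0, -4, 4, 0, 0, 0, 0, 0, 0, 0, 0, 0, 0, 0, -4, -4, 0, 0, 0, 0, 0],
  [0, 0, -4, 4, 0, 0, 0, 0, 0, 0, 4, 0, 0, 0, 0, 0, 0, 0, 0, 0, 0, 4, 0, 0],
  [0, 0, 0, 0, 0, 0, 0, 4, -4, 0, 0, 0, 0, -4, 0, 0, 0, 0, 0, -4, 0, 0, 0, 0],
  [0, 0, 0, 0, 0, 0, 0, 0, 0, 4, 0, 0, 4, 0, 0, 0, 0, 0, 0, 0, -4, 0, 4, 0],
  [0, 0, 0, 0, 0, 0, 0, 4, -4, 0, 0, 0, 0, 4, 0, 0, 0, 0, 0, 4, 0, 0, 0, 0],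
  [-4, 0, 0, 0, 0, 0, -4, 0, 0, 0, 0, 0, 0, 0, -4, 4, 0, 0, 0, 0, 0, 0, 0, 0],
  [0, 4, 0, 0, 0, 0, 0, 0, 0, 0, 0, 4, 0, 0, 0, 0, 4, 0, 0, 0, 0, 0, 0, -4]]

/-- rows of the involution (times 8) -/
def rT : List (List ℤ) := [
  [8, 0, 0, 0, 0, 0, 0, 0, 0, 0, 0, 0, 0, 0, 0, 0, 0, 0, 0, 0, 0, 0, 0, 0],
  [0, 0, 0, 0, 0, 0, 0, 0, 0, 0, 0, 0, 0, 0, 0, 0, 0, 0, 0, 0, 0, 0, 0, 8],
  [0, 0, 8, 0, 0, 0, 0, 0, 0, 0, 0, 0, 0, 0, 0, 0, 0, 0, 0, 0, 0, 0, 0, 0],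
  [0, 0, 0, 8, 0, 0, 0, 0, 0, 0, 0, 0, 0, 0, 0, 0, 0, 0, 0, 0, 0, 0, 0, 0],
  [0, 0, 0, 0, 0, 0, 0, 0, 0, 0, 0, 0, 0, 0, 0, 0, 0, 0, 8, 0, 0, 0, 0, 0],
  [0, 0, 0, 0, 0, 0, 0, 0, 0, 0, 0, 0, 0, 0, 0, 0, 0, 8, 0, 0, 0, 0, 0, 0],
  [0, 0, 0, 0, 0, 0, 8, 0, 0, 0, 0, 0, 0, 0, 0, 0, 0, 0, 0, 0, 0, 0, 0, 0],
  [0, 0, 0, 0, 0, 0, 0, 0, 0, 0, 0, 0, 0, 0, 0, 0, 0, 0, 0, 8, 0, 0, 0, 0],
  [0, 0, 0, 0, 0, 0, 0, 0, 0, 0, 0, 0, 0, 8, 0, 0, 0, 0, 0, 0, 0, 0, 0, 0],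
  [0, 0, 0, 0, 0, 0, 0, 0, 0, 0, 0, 0, 0, 0, 0, 0, 0, 0, 0, 0, 8, 0, 0, 0],
  [0, 0, 0, 0, 0, 0, 0, 0, 0, 0, 8, 0, 0, 0, 0, 0, 0, 0, 0, 0, 0, 0, 0, 0],
  [0, 0, 0, 0, 0, 0, 0, 0, 0, 0, 0, 0, 0, 0, 0, 0, 8, 0, 0, 0, 0, 0, 0, 0],
  [0, 0, 0, 0, 0, 0, 0, 0, 0, 0, 0, 0, 0, 0, 0, 0, 0, 0, 0, 0, 0, 0, 8, 0],
  [0, 0, 0, 0, 0, 0, 0, 0, 8, 0, 0, 0, 0, 0, 0, 0, 0, 0, 0, 0, 0, 0, 0, 0],
  [0, 0, 0, 0, 0, 0, 0, 0, 0, 0, 0, 0, 0, 0, 8, 0, 0, 0, 0, 0, 0, 0, 0, 0],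
  [0, 0, 0, 0, 0, 0, 0, 0, 0, 0, 0, 0, 0, 0, 0, 8, 0, 0, 0, 0, 0, 0, 0, 0],
  [0, 0, 0, 0, 0, 0, 0, 0, 0, 0, 0, 8, 0, 0, 0, 0, 0, 0, 0, 0, 0, 0, 0, 0],
  [0, 0, 0, 0, 0, 8, 0, 0, 0, 0, 0, 0, 0, 0, 0, 0, 0, 0, 0, 0, 0, 0, 0, 0],
  [0, 0, 0, 0, 8, 0, 0, 0, 0, 0, 0, 0, 0, 0, 0, 0, 0, 0, 0, 0, 0, 0, 0, 0],
  [0, 0, 0, 0, 0, 0, 0, 8, 0, 0, 0, 0, 0, 0, 0, 0, 0, 0, 0, 0, 0, 0, 0, 0],
  [0, 0, 0, 0, 0, 0, 0, 0, 0, 8, 0, 0, 0, 0, 0, 0, 0, 0, 0, 0, 0, 0, 0, 0],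
  [0, 0, 0, 0, 0, 0, 0, 0, 0, 0, 0, 0, 0, 0, 0, 0, 0, 0, 0, 0, 0, 8, 0, 0],
  [0, 0, 0, 0, 0, 0, 0, 0, 0, 0, 0, 0, 8, 0, 0, 0, 0, 0, 0, 0, 0, 0, 0, 0],
  [0, 8, 0, 0, 0, 0, 0, 0, 0, 0, 0, 0, 0, 0, 0, 0, 0, 0, 0, 0, 0, 0, 0, 0]]

theorem okP : Ok rP (tr rP) := Cfsg.Agent.CoOneType.CoFast.ok_of_okZ (by decide +kernel)

theorem okT : Ok rT (tr rT) := Cfsg.Agent.CoOneType.CoFast.ok_of_okZ (by decide +kernel)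

/-- the matrices: `s g x s⁻¹ g⁻¹ x7 t2` -/
def M : ℕ → List (List ℤ)
  | 0 => LThreeCo1T8.Mat.rS
  | 1 => LThreeCo1T8.Mat.rG
  | 2 => LThreeCo1T8.Mat.rX
  | 3 => LThreeCo1T8.Mat.cS
  | 4 => LThreeCo1T8.Mat.cG
  | 5 => rP
  | _ => rT

/-- the elements -/
noncomputable def e : ℕ → Co0
  | 0 => mk LThreeCo1T8.Mat.okS
  | 1 => mk LThreeCo1T8.Mat.okG
  | 2 => mk LThreeCo1T8.Mat.okX
  | 3 => (mk LThreeCo1T8.Mat.okS)⁻¹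
  | 4 => (mk LThreeCo1T8.Mat.okG)⁻¹
  | 5 => mk okP
  | _ => mk okT

theorem rep : ∀ i, Rep (e i) (M i)
  | 0 => rep_mk LThreeCo1T8.Mat.okS
  | 1 => rep_mk LThreeCo1T8.Mat.okG
  | 2 => rep_mk LThreeCo1T8.Mat.okX
  | 3 => rep_inv LThreeCo1T8.Mat.okS
  | 4 => rep_inv LThreeCo1T8.Mat.okG
  | 5 => rep_mk okP
  | _ + 6 => rep_mk okT

/-- `s` -/
noncomputable abbrev s0 : Co0 := e 0
/-- `g` -/
noncomputable abbrev g0 : Co0 := e 1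
/-- the element of order three -/
noncomputable abbrev x0 : Co0 := e 2
/-- the element of order seven -/
noncomputable abbrev p0 : Co0 := e 5
/-- the involution -/
noncomputable abbrev t0 : Co0 := e 6

theorem e4 : e 4 = g0⁻¹ := rfl

/-- Equality of words in `Co0`. -/
theorem word_eq {w w' : List ℕ} (h : eqL (foldZ M w betaL) (foldZ M w' betaL) = true) :
    (w.map e).prod = (w'.map e).prod := by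
  rw [foldZ_eq, foldZ_eq] at h
  have h1 := (fold_spec rep w (l := betaL) (v := beta) (by decide) rfl).2
  have h2 := (fold_spec rep w' (l := betaL) (v := beta) (by decide) rfl).2
  rw [eqL_eq h, ← h2] at h1
  exact eq_of_fix (Subtype.ext h1)

theorem p0_pow : p0 ^ 7 = 1 := by
  have h := word_eq (w := List.replicate 7 5) (w' := []) (by decide +kernel)
  rwa [List.map_replicate, List.prod_replicate, List.map_nil, List.prod_nil] at h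

theorem t0_sq : t0 * t0 = 1 := by
  have h := word_eq (w := [6, 6]) (w' := []) (by decide +kernel)
  simpa only [List.map_cons, List.map_nil, List.prod_cons, List.prod_nil, mul_one] using h

theorem ts : t0 * s0 = s0 * t0 := by
  have h := word_eq (w := [6, 0]) (w' := [0, 6]) (by decide +kernel)
  simpa only [List.map_cons, List.map_nil, List.prod_cons, List.prod_nil, mul_one] using h

theorem tg : t0 * g0 = g0 * t0 := by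
  have h := word_eq (w := [6, 1]) (w' := [1, 6]) (by decide +kernel)
  simpa only [List.map_cons, List.map_nil, List.prod_cons, List.prod_nil, mul_one] using h

/-- `t` inverts `x` -/
theorem xtx : x0 * (t0 * x0) = t0 := by
  have h := word_eq (w := [2, 6, 2]) (w' := [6]) (by decide +kernel)
  simpa only [List.map_cons, List.map_nil, List.prod_cons, List.prod_nil, mul_one] using h

theorem ps0 : p0 * s0 = s0 * p0 := by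
  have h := word_eq (w := [5, 0]) (w' := [0, 5]) (by decide +kernel)
  simpa only [List.map_cons, List.map_nil, List.prod_cons, List.prod_nil, mul_one] using h

theorem ps1 : p0 * (g0 * (s0 * g0⁻¹)) = g0 * (s0 * (g0⁻¹ * p0)) := by
  have h := word_eq (w := [5, 1, 0, 4]) (w' := [1, 0, 4, 5]) (by decide +kernel)
  simpa only [List.map_cons, List.map_nil, List.prod_cons, List.prod_nil, mul_one, e4] using h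

theorem ps2 : p0 * (g0 * (g0 * (s0 * (g0⁻¹ * g0⁻¹)))) = g0 * (g0 * (s0 * (g0⁻¹ * (g0⁻¹ * p0)))) := by
  have h := word_eq (w := [5, 1, 1, 0, 4, 4]) (w' := [1, 1, 0, 4, 4, 5]) (by decide +kernel)
  simpa only [List.map_cons, List.map_nil, List.prod_cons, List.prod_nil, mul_one, e4] using h

theorem ps3 : p0 * (g0 * (g0 * (g0 * (s0 * (g0⁻¹ * (g0⁻¹ * g0⁻¹)))))) =
    g0 * (g0 * (g0 * (s0 * (g0⁻¹ * (g0⁻¹ * (g0⁻¹ * p0)))))) := by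
  have h := word_eq (w := [5, 1, 1, 1, 0, 4, 4, 4]) (w' := [1, 1, 1, 0, 4, 4, 4, 5]) (by decide +kernel)
  simpa only [List.map_cons, List.map_nil, List.prod_cons, List.prod_nil, mul_one, e4] using h

theorem ps4 : p0 * (g0 * (g0 * (g0 * (g0 * (s0 * (g0⁻¹ * (g0⁻¹ * (g0⁻¹ * g0⁻¹)))))))) =
    g0 * (g0 * (g0 * (g0 * (s0 * (g0⁻¹ * (g0⁻¹ * (g0⁻¹ * (g0⁻¹ * p0)))))))) := by
  have h := word_eq (w := [5, 1, 1, 1, 1, 0, 4, 4, 4, 4]) (w' := [1, 1, 1, 1, 0, 4, 4, 4, 4, 5]) (by decide +kernel)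
  simpa only [List.map_cons, List.map_nil, List.prod_cons, List.prod_nil, mul_one, e4] using h

theorem spanP : Cfsg.Agent.MFive.FixN.spanB 7 rP [] = true := by decide +kernel

theorem fr_p0 : fr (QuotientGroup.mk p0 : Co1) = 1 := by
  have h := Cfsg.Agent.MFive.FixN.card_fix (g := p0) (n := 7) (by decide) (rep 5) (vw := []) rfl rfl rfl spanP
  simpa using h

theorem free_p0 : ∀ v : leechLattice, p0 • v = v → v = 0 := Cfsg.Agent.LThreeBX.NoSeven.free_of_fr fr_p0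

end Cfsg.Agent.H813.CoSevenData
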