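import Cfsg.Agent.H839.Rad.Base
import Cfsg.Agent.CTwoTab.Co1
import Cfsg.Agent.CoFive.Ranks
import Cfsg.Agent.H813.CoSevenMain
import Cfsg.Agent.KFacts.Co1.CaseM
import Cfsg.Agent.S0365

/-!
# Radical elements of order 5 and 7 of `Co1` (helper813, for helper839's S3829)

* `false_of_inv` : a radical element of odd prime order does not commute with an involution;
* `exists_inv_five` : an element of order five commutes with an involution;
* `noRad_five`, `noRad_seven`.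
-/

set_option autoImplicit false
set_option maxRecDepth 20000

namespace Cfsg.Agent.H813.RadCo1

open Subgroup Cfsg Cfsg.Agent.H459.Rad Cfsg.Agent.H459.Iface Cfsg.Agent.H839.Rad
open Cfsg.Agent.SporadicA.Co0Mono
open Cfsg.Agent.SporadicA.Co1Simple (allOne exists_sign_perm mem_N_iff)
open Cfsg.Agent.SporadicA.GolayBase Cfsg.Agent.SporadicA.GolayPerm
open Cfsg.Agent.CoOneType.SignFacts (wt wt_add_allOne sign_allOne_comm)
open Cfsg.Agent.CoOneType.ClosingFacts (mk mk_mul mk_inv exists_mk mk_eq_one mk_eq)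
open Cfsg.Agent.KFacts.Co1D4
open Cfsg.Agent.CTwoTab.Co1 (E Rep exists_rep conj_sign sign_mem)

instance finite_co1 : Finite Spor.Co1 := Cfsg.Agent.CpAutBig.CoOneSeven.finite_co1

theorem center_co1 : center Spor.Co1 = ⊥ := Cfsg.Agent.CpAutBig.CoOneSeven.center_co1

section Inv

variable {p : ℕ} {x : Spor.Co1}

theorem not_sq (hp : p.Prime) (hp2 : p ≠ 2) (hx : orderOf x = p) (h : (x * x) * (x * x) = 1) : False := by
  have h1 : x ^ 4 = 1 := by
    rw [show (4 : ℕ) = 2 + 2 from rfl, pow_add, pow_two]; exact h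
  have h2 : p ∣ 2 ^ 2 := hx ▸ orderOf_dvd_of_pow_eq_one h1
  exact hp2 ((Nat.prime_dvd_prime_iff_eq hp Nat.prime_two).1 (hp.dvd_of_dvd_pow h2))

theorem ne_top_of_mem {s : Spor.Co1} (hs : s ≠ 1) : centralizer ({s} : Set Spor.Co1) ≠ ⊤ := by
  intro h
  apply hs
  rw [← mem_bot, ← center_co1, mem_center_iff]
  intro g
  exact mem_centralizer_singleton_iff.1 (h ▸ mem_top g)

theorem octad (hp : p.Prime) (hp2 : p ≠ 2) (hx : orderOf x = p) (h : RC (MulAut.conj x)) {o : golayCode} (ho : wt o = 8)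
    (hxs : x * mk (signCo0 o) = mk (signCo0 o) * x) : False := by
  have hL := KFacts.Co1.InCo1.large ho
  obtain ⟨M, hM⟩ : ∃ M, M = centralizer ({mk (signCo0 o)} : Set Spor.Co1) := ⟨_, rfl⟩
  have hMt : M ≠ ⊤ := hM ▸ ne_top_of_mem hL.z_ne
  have hxM : x ∈ M := hM ▸ mem_centralizer_singleton_iff.2 hxs
  have hxr : x ∈ radIn M := by
    have h1 := mem_rad h hMt hxM
    exact mem_radIn_coe.2 h1
  have hRM : KFacts.Co1.InCo1.RCo1 o ≤ M := fun r hr => hM ▸ mem_centralizer_singleton_iff.2 (hL.comm_z r hr)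
  have hRc : ∀ g ∈ M, ∀ n ∈ KFacts.Co1.InCo1.RCo1 o, g * n * g⁻¹ ∈ KFacts.Co1.InCo1.RCo1 o := by
    intro g hg n hn
    rw [hM] at hg
    exact hL.conj_mem g (mem_centralizer_singleton_iff.1 hg) n hn
  have hsol : Group.IsSolvable ↥(KFacts.Co1.InCo1.RCo1 o) := by
    have : Fact (Nat.Prime 2) := ⟨Nat.prime_two⟩
    have h2 := CTwoTab.Co1.isPGroup_large hL
    have := h2.isNilpotent
    infer_instance
  have hle : KFacts.Co1.InCo1.RCo1 o ≤ radIn M := le_radIn hRM hRc hsol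
  rcases KFacts.Co1.CaseM.normal ho (radIn M) (hM ▸ radIn_le M) hle (by
    intro g hg n hn
    exact radIn_conj_mem (hM ▸ hg) hn) with h1 | h1
  · rw [h1] at hxr
    rcases hL.sq x hxr with h2 | h2
    · exact not_sq hp hp2 hx (by rw [h2, one_mul])
    · exact not_sq hp hp2 hx (by rw [h2]; exact hL.z_sq)
  · have hs : Group.IsSolvable M := by
      rw [hM, ← h1]
      exact radIn_solvable M
    have hc : commutator ↥M = ⊤ := by rw [hM]; exact KFacts.Co1.InCo1.commutator_eq_top ho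
    have h3 : Subsingleton ↥M := by
      by_contra hns
      rw [not_subsingleton_iff_nontrivial] at hns
      exact (Group.IsSolvable.commutator_lt_top_of_nontrivial ↥M).ne hc
    have h4 : (⟨x, hxM⟩ : M) = 1 := Subsingleton.elim _ _
    have h5 : x = 1 := congrArg Subtype.val h4
    rw [h5, orderOf_one] at hx
    exact hp.one_lt.ne hx

/-! ### dodecads -/

theorem perm_eq_one_of_mk {σ : M24} (h : mk (permCo0 σ) = 1) : σ = 1 := by
  apply DodBal.perm_eq_one
  intro c hc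
  have h1 := conj_sign 0 c σ
  rw [signCo0_zero, one_mul, h, one_mul, inv_one, mul_one] at h1
  rcases DodBal.mk_sign_eq h1.symm with h8 | h8
  · exact h8
  · exfalso
    have hwt : wt (wordPerm σ c) = wt c := by
      unfold Cfsg.Agent.CoOneType.SignFacts.wt
      rw [Cfsg.Agent.CoOneType.CoOneE.sup_wordPerm]
      exact Finset.card_smul_finset σ _
    have h10 := wt_add_allOne c
    rw [← h8, hwt] at h10
    omega

/-- the homomorphism `M24 → Co1` -/
def pm : M24 →* Spor.Co1 := (QuotientGroup.mk' (center Co0)).comp permCo0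

theorem pm_apply (σ : M24) : pm σ = mk (permCo0 σ) := rfl

theorem pm_inj : Function.Injective pm := by
  rw [injective_iff_map_eq_one]
  intro σ hσ
  exact perm_eq_one_of_mk hσ

theorem not_solvable_M24 : ¬ Group.IsSolvable M24 := by
  intro h
  have hs : IsSimpleGroup M24 := Cfsg.Agent.S0365.result
  let _ : CommGroup M24 := { (inferInstance : Group M24) with mul_comm := IsSimpleGroup.comm_iff_isSolvable.2 h }
  have h1 : (Nat.card M24).Prime := IsSimpleGroup.prime_card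
  rw [Cfsg.Agent.S0364.result] at h1
  exact absurd h1 (by norm_num)

/-- the monomial subgroup of `Co1` -/
def EN : Subgroup Spor.Co1 := (Cfsg.Agent.SporadicA.Co1Simple.N).map (QuotientGroup.mk' (center Co0))

theorem mem_EN {k : Spor.Co1} : k ∈ EN ↔ ∃ (a : golayCode) (σ : M24), k = mk (signCo0 a * permCo0 σ) := by
  constructor
  · rintro ⟨g, hg, rfl⟩
    obtain ⟨a, σ, rfl⟩ := exists_sign_perm hg
    exact ⟨a, σ, rfl⟩
  · rintro ⟨a, σ, rfl⟩
    exact ⟨_, Subgroup.mul_mem _ (Cfsg.Agent.SporadicA.Co1Simple.sign_mem_N a)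
      (Cfsg.Agent.SporadicA.Co1Simple.perm_mem_N σ), rfl⟩

theorem E_le : E ≤ EN := by
  rintro _ ⟨c, rfl⟩
  exact mem_EN.2 ⟨c, 1, by rw [map_one, mul_one]⟩

theorem E_conj {g : Spor.Co1} (hg : g ∈ EN) {n : Spor.Co1} (hn : n ∈ E) : g * n * g⁻¹ ∈ E := by
  obtain ⟨a, σ, rfl⟩ := mem_EN.1 hg
  obtain ⟨c, rfl⟩ := hn
  rw [conj_sign]
  exact sign_mem _

theorem E_sq {n : Spor.Co1} (hn : n ∈ E) : n * n = 1 := by
  obtain ⟨c, rfl⟩ := hn
  rw [← mk_mul, signCo0_mul_self]; rfl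

theorem isPGroup_E : IsPGroup 2 ↥E := by
  rintro ⟨n, hn⟩
  refine ⟨1, Subtype.ext ?_⟩
  show n ^ (2 ^ 1) = 1
  rw [pow_one, pow_two]
  exact E_sq hn

theorem EN_ne (hE : E ≠ ⊥) : EN ≠ ⊤ := by
  intro h
  have hs : IsSimpleGroup Spor.Co1 := Cfsg.Agent.S0399.result.1
  have hn : E.Normal := ⟨fun n hn g => E_conj (h ▸ mem_top g) hn⟩
  rcases hn.eq_bot_or_eq_top with h1 | h1
  · exact hE h1
  · have h2 : IsPGroup 2 (⊤ : Subgroup Spor.Co1) := h1 ▸ isPGroup_E
    obtain ⟨n, hn⟩ := IsPGroup.iff_card.1 h2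
    rw [Subgroup.card_top, Cfsg.Agent.S0399.result.2] at hn
    have h3 : (3 : ℕ) ∣ 2 ^ n := by rw [← hn]; norm_num
    have h4 := Nat.prime_three.dvd_of_dvd_pow h3
    omega

theorem dodecad (hp : p.Prime) (hp2 : p ≠ 2) (hx : orderOf x = p) (h : RC (MulAut.conj x)) {d : golayCode} (hd : wt d = 12)
    (hxs : x * mk (signCo0 d) = mk (signCo0 d) * x) : False := by
  have hEb : E ≠ ⊥ := by
    intro hE
    have h1 : mk (signCo0 d) ∈ E := sign_mem d
    rw [hE, mem_bot] at h1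
    have h2 : mk (signCo0 d) = mk (signCo0 0) := by rw [h1, signCo0_zero]; rfl
    have h4 : wt 0 = 0 := by unfold wt; rw [Cfsg.Agent.CoOneType.CoOneE.sup_zero, Finset.card_empty]
    rcases DodBal.mk_sign_eq h2 with h3 | h3
    · rw [h3, h4] at hd
      omega
    · have h5 := wt_add_allOne 0
      rw [← h3, h4] at h5
      omega
  have hM := EN_ne hEb
  obtain ⟨g, rfl⟩ := exists_mk x
  obtain ⟨a, σ, rfl⟩ := exists_sign_perm (DodBal.mem_N hd hxs)
  have hxM : mk (signCo0 a * permCo0 σ) ∈ EN := mem_EN.2 ⟨a, σ, rfl⟩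
  have hxr : mk (signCo0 a * permCo0 σ) ∈ radIn EN := mem_radIn_coe.2 (mem_rad h hM hxM)
  have hsol : Group.IsSolvable ↥E := by
    have : Fact (Nat.Prime 2) := ⟨Nat.prime_two⟩
    have := isPGroup_E.isNilpotent
    infer_instance
  have hle : E ≤ radIn EN := le_radIn E_le (fun g hg n hn => E_conj hg hn) hsol
  have hσ : pm σ ∈ radIn EN := by
    have h1 : mk (signCo0 a) * pm σ ∈ radIn EN := by rw [pm_apply, ← mk_mul]; exact hxr
    exact (mul_mem_cancel_left (hle (sign_mem a))).1 h1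
  have hs : IsSimpleGroup M24 := Cfsg.Agent.S0365.result
  have hn : ((radIn EN).comap pm).Normal := ⟨fun τ hτ ρ => by
    show pm (ρ * τ * ρ⁻¹) ∈ radIn EN
    rw [map_mul, map_mul, map_inv]
    exact radIn_conj_mem (mem_EN.2 ⟨0, ρ, by rw [signCo0_zero, one_mul]; rfl⟩) hτ⟩
  rcases hn.eq_bot_or_eq_top with h1 | h1
  · have h2 : σ ∈ (radIn EN).comap pm := hσ
    rw [h1, mem_bot] at h2
    subst h2
    rw [map_one, mul_one] at hx
    exact not_sq hp hp2 hx (by rw [E_sq (sign_mem a), one_mul])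
  · apply not_solvable_M24
    have hr := radIn_solvable EN
    refine Group.isSolvable_of_isSolvable_injective (f := pm.codRestrict (radIn EN) fun τ => ?_) ?_
    · have : τ ∈ (radIn EN).comap pm := by rw [h1]; exact mem_top τ
      exact this
    · intro a b hab
      exact pm_inj (congrArg Subtype.val hab)

/-! ### class 2B -/

theorem twoB (hp : p.Prime) (hp2 : p ≠ 2) (hx : orderOf x = p) (h : RC (MulAut.conj x))
    (hxs : x * TwoB.w = TwoB.w * x) : False := by
  have S := Main.setup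
  have hLt : GTwo.L ≠ ⊤ := by
    intro h1
    have h2 := GTwo.card_L
    rw [h1, Subgroup.card_top, Cfsg.Agent.S0399.result.2] at h2
    norm_num at h2
  have h1 : ∀ l ∈ GTwo.L, x * l = l * x := by
    intro l hl
    have h2 := h.eq_of_quasisimple hLt (fun m hm => S.conj_L hxs hm) CTwoTab.Co1.quasisimple_L hl
    rw [MulAut.conj_apply, mul_inv_eq_iff_eq_mul] at h2
    exact h2
  have h2 : x * x = 1 := by
    rcases S.cent x hxs h1 with h3 | h3 | h3 | h3
    · rw [h3, one_mul]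
    · rw [h3]; exact S.ww
    · rw [h3]; exact S.vv
    · rw [h3, mul_assoc, ← mul_assoc TwoB.v, ← S.comm, mul_assoc, S.vv, mul_one, S.ww]
  exact not_sq hp hp2 hx (by rw [h2, one_mul])

/-- **A radical element of odd prime order does not commute with an involution.** -/
theorem false_of_inv (hp : p.Prime) (hp2 : p ≠ 2) (hx : orderOf x = p) (h : RC (MulAut.conj x)) {t : Spor.Co1}
    (ht : orderOf t = 2) (hxt : x * t = t * x) : False := by
  obtain ⟨g, s, hs, rfl⟩ := exists_rep t ht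
  have h1 : orderOf (g⁻¹ * x * g⁻¹⁻¹) = p := by rw [← MulAut.conj_apply, MulEquiv.orderOf_eq, hx]
  have h2 := rc_conj h g⁻¹
  have h3 : (g⁻¹ * x * g⁻¹⁻¹) * s = s * (g⁻¹ * x * g⁻¹⁻¹) := by
    calc (g⁻¹ * x * g⁻¹⁻¹) * s = g⁻¹ * (x * (g * s * g⁻¹)) * g := by group
      _ = g⁻¹ * ((g * s * g⁻¹) * x) * g := by rw [hxt]
      _ = s * (g⁻¹ * x * g⁻¹⁻¹) := by group
  rcases hs with ⟨o, ho, rfl⟩ | ⟨d, hd, rfl⟩ | rfl
  · exact octad hp hp2 h1 h2 ho h3
  · exact dodecad hp hp2 h1 h2 hd h3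
  · exact twoB hp hp2 h1 h2 h3

end Inv

/-! ### order five -/

section Five

open Cfsg.Agent.CoFive.Abs Cfsg.Agent.CoFive.Rel Cfsg.Agent.CoFive.Class

/-- the action of a word -/
theorem exists_word (l : List ℕ) (hl : ∀ g ∈ l, g = 4 ∨ g = 5 ∨ g = 6) :
    ∃ y : Co0, ∀ v : V, y * P v * y⁻¹ = P (l.foldl (fun w g => act g w) v) := by
  induction l with
  | nil => exact ⟨1, fun v => by simp⟩
  | cons g l ih =>
    obtain ⟨y, hy⟩ := ih fun x hx => hl x (List.mem_cons_of_mem _ hx)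
    refine ⟨y * e g, fun v => ?_⟩
    rw [List.foldl_cons, ← hy, ← act_spec (hl g List.mem_cons_self) v]
    group

theorem mk_inj {v w : V} (h : mk (P v) = mk (P w)) : v = w := by
  have h5 : ∀ u : V, P u ^ 5 = 1 := fun u => hyp.five u
  rcases (mk_eq _ _).1 h with h1 | h1
  · have h2 : v - w = 0 := inj _ (by rw [sub_eq_add_neg]; show Ph _ _ _ _ = 1; rw [hyp.add, hyp.neg]; exact mul_inv_eq_one.2 h1)
    exact sub_eq_zero.1 h2
  · exfalso
    have h2 := h5 v
    rw [h1, (show Commute (P w) (signCo0 allOne) from sign_allOne_comm (P w)).mul_pow, h5 w, one_mul] at h2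
    have h3 : signCo0 allOne ^ 5 = signCo0 allOne := by
      have h4 : signCo0 allOne * signCo0 allOne = 1 := signCo0_mul_self _
      rw [show (5 : ℕ) = 2 + 2 + 1 from rfl, pow_add, pow_add, pow_two, h4, one_mul, one_mul, pow_one]
    rw [h3] at h2
    exact Cent.allOne_ne_one h2

/-- an involution commuting with the image of `P v₀` -/
theorem exists_inv_of_word (l : List ℕ) (hl : ∀ g ∈ l, g = 4 ∨ g = 5 ∨ g = 6) {v₀ v₁ : V}
    (h0 : l.foldl (fun w g => act g w) v₀ = v₀) (h1 : l.foldl (fun w g => act g w) v₁ ≠ v₁)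
    (h2 : ∀ v : V, l.foldl (fun w g => act g w) (l.foldl (fun w g => act g w) v) = v) :
    ∃ t : Spor.Co1, orderOf t = 2 ∧ mk (P v₀) * t = t * mk (P v₀) := by
  obtain ⟨y, hy⟩ := exists_word l hl
  have hc : Commute (mk (P v₀)) (mk y) := by
    have h3 := hy v₀
    rw [h0, mul_inv_eq_iff_eq_mul] at h3
    show mk (P v₀) * mk y = mk y * mk (P v₀)
    rw [← mk_mul, ← mk_mul, h3]
  have hne : ¬ Commute (mk (P v₁)) (mk y) := by
    intro h3
    apply h1
    apply mk_inj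
    rw [← hy, mk_mul, mk_mul, mk_inv, ← h3.eq, mul_inv_cancel_right]
  have hsq : Commute (mk (P v₁)) (mk y ^ 2) := by
    have h3 : (y * y) * P v₁ * (y * y)⁻¹ = P v₁ := by
      have h4 := hy (l.foldl (fun w g => act g w) v₁)
      rw [h2, ← hy] at h4
      calc (y * y) * P v₁ * (y * y)⁻¹ = y * (y * P v₁ * y⁻¹) * y⁻¹ := by group
        _ = P v₁ := h4
    rw [mul_inv_eq_iff_eq_mul] at h3
    show mk (P v₁) * mk y ^ 2 = mk y ^ 2 * mk (P v₁)
    rw [pow_two, ← mk_mul, ← mk_mul, ← mk_mul, h3]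
  have hev : 2 ∣ orderOf (mk y) := by
    by_contra ho
    apply hne
    have h3 : (mk y ^ 2) ^ ((orderOf (mk y) + 1) / 2) = mk y := by
      rw [← pow_mul, show 2 * ((orderOf (mk y) + 1) / 2) = orderOf (mk y) + 1 by omega, pow_succ, pow_orderOf_eq_one,
        one_mul]
    rw [← h3]
    exact hsq.pow_right _
  obtain ⟨m, hm⟩ := hev
  have hpos : 0 < orderOf (mk y) := orderOf_pos _
  refine ⟨mk y ^ m, ?_, (hc.pow_right m).eq⟩
  rw [orderOf_pow' _ (by omega), hm, Nat.gcd_mul_left_left, Nat.mul_div_cancel _ (by omega)]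

theorem exists_inv_five {x : Spor.Co1} (hx : orderOf x = 5) : ∃ t : Spor.Co1, orderOf t = 2 ∧ x * t = t * x := by
  have key : ∀ y : Spor.Co1, IsConj x y → (∃ t : Spor.Co1, orderOf t = 2 ∧ y * t = t * y) →
      ∃ t : Spor.Co1, orderOf t = 2 ∧ x * t = t * x := by
    rintro y hy ⟨t, ht, hyt⟩
    obtain ⟨g, rfl⟩ := isConj_iff.1 hy
    refine ⟨g⁻¹ * t * g⁻¹⁻¹, by rw [← MulAut.conj_apply, MulEquiv.orderOf_eq, ht], ?_⟩
    calc x * (g⁻¹ * t * g⁻¹⁻¹) = g⁻¹ * ((g * x * g⁻¹) * t) * g := by group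
      _ = g⁻¹ * (t * (g * x * g⁻¹)) * g := by rw [hyt]
      _ = g⁻¹ * t * g⁻¹⁻¹ * x := by group
  rcases CoFive.Ranks.main_co1 hx with ⟨h, -⟩ | ⟨h, -⟩ | ⟨h, -⟩
  · refine key _ h ?_
    rw [r8_eq]
    exact exists_inv_of_word [4, 6, 4] (by decide) (v₀ := (0, 0, 1)) (v₁ := (1, 0, 0)) (by decide) (by decide)
      (by decide +kernel)
  · refine key _ h ?_
    rw [r4_eq]
    exact exists_inv_of_word [4, 5, 5, 6, 6, 4, 6, 4, 6] (by decide) (v₀ := (1, 0, 0)) (v₁ := (0, 1, 0)) (by decide)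
      (by decide) (by decide +kernel)
  · refine key _ h ?_
    rw [r0_eq]
    exact exists_inv_of_word [4, 5, 5, 6, 6, 4, 6, 4, 6] (by decide) (v₀ := (0, 1, 2)) (v₁ := (0, 1, 0)) (by decide)
      (by decide) (by decide +kernel)

theorem noRad_five : NoRad 5 Spor.Co1 := by
  intro x hx h _
  obtain ⟨t, ht, hxt⟩ := exists_inv_five hx
  exact false_of_inv Nat.prime_five (by norm_num) hx h ht hxt

end Five

/-! ### order seven -/

section Seven

open Cfsg.Agent.H813.CoSevenMain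

theorem conj_mem_of_card {G : Type*} [Group G] [Finite G] {A : Subgroup G} {x : G} (hA : A ≤ centralizer {x})
    (hZ : center ↥A = ⊥) (hc : Nat.card ↥(centralizer ({x} : Set G)) ≤ orderOf x * Nat.card ↥A) {c : G}
    (hcx : c * x = x * c) {a : G} (ha : a ∈ A) : c * a * c⁻¹ ∈ A := by
  have hcomm : ∀ (m : ↥(zpowers x)) (n : ↥A), Commute ((zpowers x).subtype m) (A.subtype n) := by
    rintro ⟨m, hm⟩ ⟨n, hn⟩
    obtain ⟨k, rfl⟩ := mem_zpowers_iff.1 hm
    have h1 : Commute n x := mem_centralizer_singleton_iff.1 (hA hn)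
    exact (h1.zpow_right k).symm
  let φ : ↥(zpowers x) × ↥A →* G := MonoidHom.noncommCoprod (zpowers x).subtype A.subtype hcomm
  have hφ : ∀ p, φ p = (p.1 : G) * (p.2 : G) := fun p => rfl
  have hinj : Function.Injective φ := by
    rw [injective_iff_map_eq_one]
    rintro ⟨⟨m, hm⟩, ⟨n, hn⟩⟩ h
    rw [hφ] at h
    have h1 : m * n = 1 := h
    have h2 : n = m⁻¹ := (inv_eq_of_mul_eq_one_right h1).symm
    have h3 : (⟨n, hn⟩ : ↥A) ∈ center ↥A := by
      rw [mem_center_iff]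
      rintro ⟨a, ha⟩
      apply Subtype.ext
      have h4 : Commute m a := hcomm ⟨m, hm⟩ ⟨a, ha⟩
      change a * n = n * a
      rw [h2]
      exact h4.inv_left.eq.symm
    rw [hZ, mem_bot] at h3
    have h4 : n = 1 := congrArg Subtype.val h3
    have h5 : m = 1 := by rw [h4, mul_one] at h1; exact h1
    subst h4 h5
    rfl
  have hrange : φ.range = centralizer ({x} : Set G) := by
    apply eq_of_le_of_card_ge
    · rintro _ ⟨p, rfl⟩
      rw [hφ]
      refine mul_mem ?_ (hA p.2.2)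
      obtain ⟨k, hk⟩ := mem_zpowers_iff.1 p.1.2
      rw [← hk, mem_centralizer_singleton_iff]
      exact ((Commute.refl x).zpow_left k).eq
    · refine hc.trans ?_
      rw [← Nat.card_zpowers, ← Nat.card_prod]
      exact (Nat.card_congr (MonoidHom.ofInjective hinj).toEquiv).le
  have h1 : c ∈ φ.range := by rw [hrange]; exact mem_centralizer_singleton_iff.2 hcx
  obtain ⟨⟨m, n⟩, rfl⟩ := h1
  rw [hφ]
  have h2 : Commute (m : G) ((n : G) * a * (n : G)⁻¹) := hcomm m (n * (⟨a, ha⟩ : ↥A) * n⁻¹)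
  have h3 : (m : G) * (n : G) * a * ((m : G) * (n : G))⁻¹ = (n : G) * a * (n : G)⁻¹ := by
    calc (m : G) * (n : G) * a * ((m : G) * (n : G))⁻¹ = (m : G) * ((n : G) * a * (n : G)⁻¹) * (m : G)⁻¹ := by group
      _ = (n : G) * a * (n : G)⁻¹ := by rw [h2.eq, mul_inv_cancel_right]
  show (m : G) * (n : G) * a * ((m : G) * (n : G))⁻¹ ∈ A
  rw [h3]
  exact A.mul_mem (A.mul_mem n.2 ha) (A.inv_mem n.2)

theorem noRad_seven : NoRad 7 Spor.Co1 := by
  intro x hx h _
  have hp : Nat.Prime 7 := by norm_num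
  have : Fact (Nat.Prime 7) := ⟨hp⟩
  -- a conjugate commutes with `pp`
  obtain ⟨x', hx', h', hc⟩ : ∃ x' : Spor.Co1, orderOf x' = 7 ∧ RC (MulAut.conj x') ∧ x' * pp = pp * x' := by
    have h1 : IsPGroup 7 ↥(zpowers x) := IsPGroup.of_card (n := 1) (by rw [Nat.card_zpowers, hx, pow_one])
    have h2 : IsPGroup 7 ↥(zpowers pp) := IsPGroup.of_card (n := 1) (by rw [Nat.card_zpowers, order_pp, pow_one])
    obtain ⟨P, hP⟩ := h1.exists_le_sylow
    obtain ⟨P', hP'⟩ := h2.exists_le_sylow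
    obtain ⟨g, hg⟩ := MulAction.exists_smul_eq Spor.Co1 P P'
    have h3 : g * x * g⁻¹ ∈ (P' : Subgroup Spor.Co1) := by
      rw [← hg, Sylow.coe_subgroup_smul]
      exact smul_mem_pointwise_smul x (MulAut.conj g) _ (hP (mem_zpowers x))
    refine ⟨g * x * g⁻¹, by rw [← MulAut.conj_apply, MulEquiv.orderOf_eq, hx], rc_conj h g, ?_⟩
    have h4 : Nat.card ↥(P' : Subgroup Spor.Co1) ∣ 7 ^ 2 := by
      obtain ⟨n, hn⟩ := IsPGroup.iff_card.1 P'.isPGroup'
      have h5 : 7 ^ n ∣ Nat.card Spor.Co1 := hn ▸ card_subgroup_dvd_card _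
      rw [Cfsg.Agent.S0399.result.2] at h5
      have h6 : n ≤ 2 := by
        by_contra h7
        have h8 : 7 ^ 3 ∣ 4157776806543360000 := (pow_dvd_pow 7 (by omega : 3 ≤ n)).trans h5
        revert h8
        norm_num
      rw [hn]
      exact pow_dvd_pow 7 h6
    have h5 := CoSevenCard.comm_of_le hp h4 ⟨_, h3⟩ ⟨pp, hP' (mem_zpowers pp)⟩
    exact congrArg Subtype.val h5
  -- it centralizes `BB`
  have hBt : BB ≠ ⊤ := by
    intro h1
    have h2 := card_BB
    rw [h1, Subgroup.card_top, Cfsg.Agent.S0399.result.2] at h2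
    norm_num at h2
  have hcm : ∀ m ∈ BB, MulAut.conj x' m ∈ BB := fun m hm =>
    conj_mem_of_card BB_le BB_center (by rw [order_pp, card_BB]; exact card_cent_pp) hc hm
  have hrad : solvableRadical ↥BB = ⊥ := by
    refine rad_eq_bot_of_simple fun h1 => BB_not_comm ⟨⟨IsSimpleGroup.comm_iff_isSolvable.2 h1⟩⟩
  obtain ⟨t, ht⟩ := exists_prime_orderOf_dvd_card' 2 (show 2 ∣ Nat.card ↥BB by rw [card_BB]; norm_num)
  have h2 := h'.eq_of_rad_eq_bot hBt hcm hrad t.2
  rw [MulAut.conj_apply, mul_inv_eq_iff_eq_mul] at h2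
  exact false_of_inv hp (by norm_num) hx' h' (t := t) (by rw [Subgroup.orderOf_coe, ht]) h2

end Seven

/-- **Row `Co1`, `p = 5`.** -/
theorem noRad_Co1_five {K : Type*} [Group K] [Finite K] (h : Cfsg.Spor.IsoCo1 K) : NoRad 5 K := by
  obtain ⟨e⟩ := h
  exact NoRad.congr e noRad_five

/-- **Row `Co1`, `p = 7`.** -/
theorem noRad_Co1_seven {K : Type*} [Group K] [Finite K] (h : Cfsg.Spor.IsoCo1 K) : NoRad 7 K := by
  obtain ⟨e⟩ := h
  exact NoRad.congr e noRad_seven

end Cfsg.Agent.H813.RadCo1
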