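import Mathlib
import Cfsg.Agent.Transfer.ElemAbAut
import Cfsg.Agent.Solvable.HallAux

/-!
# Transitive solvable groups of degree less than `2 p` containing an element of order `p` (helper813, for S5773)

* `regular_of` : there is a regular elementary abelian normal subgroup;
* `card_dvd` : the order divides `n |GL_d(ℓ)|`, `n = ℓ ^ d`.
-/

set_option autoImplicit false
set_option linter.unusedSectionVars false

namespace Cfsg.Agent.H813.NFAlt

open MulAction Pointwise

section Orb

variable {G Y : Type*} [Group G] [Finite G] [MulAction G Y]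

/-- an orbit of an element of prime order -/
theorem ncard_orbit_zpowers {p : ℕ} (hp : p.Prime) {g : G} (hg : orderOf g = p) {y : Y} (hy : g • y ≠ y) :
    (orbit (Subgroup.zpowers g) y).ncard = p := by
  rw [← index_stabilizer]
  have h1 : (stabilizer (Subgroup.zpowers g) y).index ∣ p := by
    have := (stabilizer (Subgroup.zpowers g) y).index_dvd_card
    rwa [Nat.card_zpowers, hg] at this
  rcases (Nat.dvd_prime hp).1 h1 with h | h
  · exfalso
    apply hy
    rw [Subgroup.index_eq_one] at h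
    have h2 : (⟨g, Subgroup.mem_zpowers g⟩ : Subgroup.zpowers g) ∈ stabilizer (Subgroup.zpowers g) y := by
      rw [h]; exact Subgroup.mem_top _
    exact h2
  · exact h

end Orb

section Reg

variable {G X : Type*} [Group G] [Finite G] [MulAction G X] [FaithfulSMul G X] [IsPretransitive G X] [Finite X]

theorem exists_move {g : G} (hg : g ≠ 1) : ∃ x : X, g • x ≠ x := by
  by_contra h
  push Not at h
  apply hg
  apply FaithfulSMul.eq_of_smul_eq_smul (α := X)
  intro x
  rw [h, one_smul]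

/-- a normal subgroup fixing a point is trivial -/
theorem eq_bot_of_fix {N : Subgroup G} [hN : N.Normal] {x : X} (h : ∀ n ∈ N, n • x = x) : N = ⊥ := by
  rw [eq_bot_iff]
  intro n hn
  rw [Subgroup.mem_bot]
  apply FaithfulSMul.eq_of_smul_eq_smul (α := X)
  intro y
  obtain ⟨g, rfl⟩ := exists_smul_eq G x y
  have h1 := h (g⁻¹ * n * g⁻¹⁻¹) (hN.conj_mem n hn g⁻¹)
  rw [one_smul]
  calc n • g • x = g • ((g⁻¹ * n * g⁻¹⁻¹) • x) := by
        rw [smul_smul, smul_smul]
        congr 1
        group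
    _ = g • x := by rw [h1]

/-- **A regular elementary abelian normal subgroup.** -/
theorem regular_of (hs : Group.IsSolvable G) {p : ℕ} (hp : p.Prime) {g : G} (hg : orderOf g = p)
    (hX : Nat.card X < 2 * p) : ∃ (ℓ d : ℕ) (N : Subgroup G), ℓ.Prime ∧ N.Normal ∧ (∀ a ∈ N, ∀ b ∈ N, a * b = b * a) ∧
      (∀ a ∈ N, a ^ ℓ = 1) ∧ Nat.card N = Nat.card X ∧ Nat.card X = ℓ ^ d ∧ ∀ x y : X, ∃ n ∈ N, n • x = y := by
  have hg1 : g ≠ 1 := by
    rintro rfl
    rw [orderOf_one] at hg
    exact hp.one_lt.ne hg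
  have hnt : Nontrivial G := ⟨⟨g, 1, hg1⟩⟩
  obtain ⟨ℓ, N, hℓ, hNn, hN0, hNc, hNp⟩ := Cfsg.Agent.Solvable.HallAux.exists_normal_elementary (G := G)
  have hcomm : ∀ a ∈ N, ∀ b ∈ N, a * b = b * a := by
    intro a ha b hb
    have := hNc.1.1 ⟨a, ha⟩ ⟨b, hb⟩
    exact congrArg Subtype.val this
  obtain ⟨x, hx⟩ := exists_move (X := X) hg1
  obtain ⟨B, hBd⟩ : ∃ B : Set X, B = orbit N x := ⟨_, rfl⟩
  have hB : IsBlock G B := by rw [hBd]; exact IsBlock.orbit_of_normal x
  have hxB : x ∈ B := hBd ▸ mem_orbit_self x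
  have hmul := hB.ncard_block_mul_ncard_orbit_eq ⟨x, hxB⟩
  have hBpos : 0 < B.ncard := (Set.ncard_pos (Set.toFinite _)).2 ⟨x, hxB⟩
  have hcpos : 0 < (orbit G B).ncard := (Set.ncard_pos (Set.toFinite _)).2 ⟨B, mem_orbit_self B⟩
  have hBu : B = Set.univ := by
    by_cases hgB : g • B = B
    · -- `B` contains the orbit of `x` under `g`
      have h1 : orbit (Subgroup.zpowers g) x ⊆ B := by
        rintro _ ⟨⟨k, hk⟩, rfl⟩
        have h2 : k ∈ stabilizer G B := by
          have h3 : Subgroup.zpowers g ≤ stabilizer G B := by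
            rw [Subgroup.zpowers_le]; exact hgB
          exact h3 hk
        have h4 : k • B = B := h2
        show k • x ∈ B
        rw [← h4]
        exact Set.smul_mem_smul_set hxB
      have h2 : p ≤ B.ncard := by
        rw [← ncard_orbit_zpowers hp hg hx]
        exact Set.ncard_le_ncard h1 (Set.toFinite _)
      have h3 : (orbit G B).ncard = 1 := by
        by_contra hc
        have h4 : 2 ≤ (orbit G B).ncard := by omega
        have h5 : p * 2 ≤ B.ncard * (orbit G B).ncard := Nat.mul_le_mul h2 h4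
        omega
      rw [h3, mul_one, ← Set.ncard_univ] at hmul
      exact Set.eq_of_subset_of_ncard_le (Set.subset_univ B) hmul.ge
    · exfalso
      have h1 : p ≤ (orbit G B).ncard := by
        rw [← ncard_orbit_zpowers (Y := Set X) hp hg hgB]
        refine Set.ncard_le_ncard ?_ (Set.toFinite _)
        rintro _ ⟨⟨k, hk⟩, rfl⟩
        exact ⟨k, rfl⟩
      have h2 : B.ncard = 1 := by
        by_contra hc
        have h4 : 2 ≤ B.ncard := by omega
        have h5 : 2 * p ≤ B.ncard * (orbit G B).ncard := Nat.mul_le_mul h4 h1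
        omega
      apply hN0
      refine eq_bot_of_fix (x := x) fun n hn => ?_
      obtain ⟨b, hb⟩ := Set.ncard_eq_one.1 h2
      have h3 : n • x ∈ B := by
        rw [hBd]
        exact ⟨⟨n, hn⟩, rfl⟩
      rw [hb, Set.mem_singleton_iff] at h3 hxB
      rw [h3, hxB]
  -- `N` is transitive
  have htr : ∀ y : X, ∃ n ∈ N, n • x = y := by
    intro y
    have h1 : y ∈ B := by rw [hBu]; exact Set.mem_univ y
    rw [hBd] at h1
    obtain ⟨⟨n, hn⟩, rfl⟩ := h1
    exact ⟨n, hn, rfl⟩
  have hcard : Nat.card N = Nat.card X := by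
    refine Nat.card_congr (Equiv.ofBijective (fun n : N => (n : G) • x) ⟨?_, ?_⟩)
    · intro a b hab
      have hab' : (a : G) • x = (b : G) • x := hab
      apply Subtype.ext
      apply FaithfulSMul.eq_of_smul_eq_smul (α := X)
      intro y
      obtain ⟨n, hn, rfl⟩ := htr y
      rw [smul_smul, smul_smul, hcomm a a.2 n hn, hcomm b b.2 n hn, ← smul_smul, ← smul_smul, hab']
    · intro y
      obtain ⟨n, hn, rfl⟩ := htr y
      exact ⟨⟨n, hn⟩, rfl⟩
  have hℓf : Fact ℓ.Prime := ⟨hℓ⟩
  obtain ⟨d, hd⟩ : ∃ d, Nat.card N = ℓ ^ d := by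
    have hpg : IsPGroup ℓ N := fun x => ⟨1, by
      rw [pow_one]
      apply Subtype.ext
      exact hNp x x.2⟩
    exact hpg.exists_card_eq
  refine ⟨ℓ, d, N, hℓ, hNn, hcomm, hNp, hcard, by rw [← hcard, hd], ?_⟩
  intro y z
  obtain ⟨a, ha, rfl⟩ := htr y
  obtain ⟨b, hb, rfl⟩ := htr z
  exact ⟨b * a⁻¹, N.mul_mem hb (N.inv_mem ha), by rw [smul_smul, inv_mul_cancel_right]⟩

/-- **The order of a group with a regular normal subgroup.** -/
theorem card_dvd_of_regular {N : Subgroup G} [hN : N.Normal] (htr : ∀ x y : X, ∃ n ∈ N, n • x = y) (x : X) :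
    Nat.card G ∣ Nat.card X * Nat.card (MulAut N) := by
  have h1 := Subgroup.card_mul_index (stabilizer G x)
  rw [index_stabilizer_of_transitive] at h1
  rw [← h1, mul_comm]
  refine Nat.mul_dvd_mul_left _ ?_
  let f : stabilizer G x →* MulAut N := MulAut.conjNormal.comp (stabilizer G x).subtype
  refine Subgroup.card_dvd_of_injective f ?_
  rw [injective_iff_map_eq_one]
  rintro ⟨g, hg⟩ hf
  apply Subtype.ext
  apply FaithfulSMul.eq_of_smul_eq_smul (α := X)
  intro y
  obtain ⟨n, hn, rfl⟩ := htr x y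
  have h2 : g * n * g⁻¹ = n := by
    have h3 := congrArg (fun a : MulAut N => ((a ⟨n, hn⟩ : N) : G)) hf
    exact h3
  have h3 : g • x = x := hg
  have h4 : g * n = n * g := mul_inv_eq_iff_eq_mul.1 h2
  show g • n • x = (1 : G) • n • x
  rw [one_smul, smul_smul, h4, ← smul_smul, h3]

/-- **The order of a transitive solvable group of degree less than `2 p` with an element of order `p`.** -/
theorem card_dvd (hs : Group.IsSolvable G) {p : ℕ} (hp : p.Prime) {g : G} (hg : orderOf g = p)
    (hX : Nat.card X < 2 * p) : ∃ (ℓ d : ℕ), ℓ.Prime ∧ Nat.card X = ℓ ^ d ∧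
      Nat.card G ∣ Nat.card X * ∏ i : Fin d, (ℓ ^ d - ℓ ^ (i : ℕ)) := by
  obtain ⟨ℓ, d, N, hℓ, hNn, hcomm, hNp, hcard, hd, htr⟩ := regular_of (X := X) hs hp hg hX
  refine ⟨ℓ, d, hℓ, hd, ?_⟩
  have hℓf : Fact ℓ.Prime := ⟨hℓ⟩
  have hg1 : g ≠ 1 := by
    rintro rfl
    rw [orderOf_one] at hg
    exact hp.one_lt.ne hg
  obtain ⟨x, -⟩ := exists_move (X := X) hg1
  have h1 := card_dvd_of_regular htr x
  rwa [Cfsg.Agent.Transfer.ElemAbAut.card_mulAut ℓ d (fun a b => Subtype.ext (hcomm a a.2 b b.2))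
    (fun a => Subtype.ext (hNp a a.2)) (by rw [hcard, hd])] at h1

end Reg

end Cfsg.Agent.H813.NFAlt
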