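import Mathlib
import Cfsg.Agent.H813.NFAltC
import Cfsg.Agent.H489.DixonPerm

/-!
# Solvable subgroups of `S_10` of order divisible by 25 (helper813, for S5773)
-/

set_option autoImplicit false

namespace Cfsg.Agent.H813.NFAlt

open MulAction Equiv Pointwise
open scoped Nat

theorem le24 {Ω : Type*} [Finite Ω] (hΩ : Nat.card Ω = 5) (Z : Subgroup (Perm Ω)) (hs : Group.IsSolvable Z) :
    Nat.card Z ≤ 24 := by
  classical
  have := Fintype.ofFinite Ω
  have h1 := Subgroup.card_subgroup_dvd_card Z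
  rw [Nat.card_perm, hΩ] at h1
  by_cases h5 : 5 ∣ Nat.card Z
  · rcases dich (n := 5) (p := 5) (by norm_num) le_rfl (by norm_num) (by norm_num) hΩ Z hs h5 with
      ⟨-, a, b, hab, ha, hb, -⟩ | ⟨h, -⟩
    · have h2 := Nat.le_of_dvd (by norm_num) ha
      have h3 := Nat.le_of_dvd (by norm_num) hb
      rw [hab]
      exact (Nat.mul_le_mul h2 h3).trans (by norm_num)
    · omega
  · have h2 : Nat.Coprime (Nat.card Z) 5 := by
      rw [Nat.coprime_comm]
      exact (Nat.Prime.coprime_iff_not_dvd (by norm_num)).2 h5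
    have h3 : Nat.card Z ∣ 24 * 5 := h1
    exact Nat.le_of_dvd (by norm_num) (h2.dvd_of_dvd_mul_right h3)

theorem bound10_trans {Ω : Type} [Fintype Ω] (hΩ : Nat.card Ω = 10) (Y : Subgroup (Perm Ω))
    (hs : Group.IsSolvable Y) [IsPretransitive Y Ω] (h25 : 25 ∣ Nat.card Y) : Nat.card Y ≤ 1152 := by
  classical
  have hnt : Nontrivial Y := by
    rw [← Finite.one_lt_card_iff_nontrivial]
    have := Nat.le_of_dvd Nat.card_pos h25
    omega
  obtain ⟨ℓ, N, hℓ, hNn, hN0, hNc, hNp⟩ := Cfsg.Agent.Solvable.HallAux.exists_normal_elementary (G := Y)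
  have hne : Nonempty Ω := by
    rw [← Finite.card_pos_iff, hΩ]; norm_num
  obtain ⟨x⟩ := hne
  obtain ⟨b, hb⟩ : ∃ b, b = (orbit N x).ncard := ⟨_, rfl⟩
  have hall : ∀ y : Ω, (orbit N y).ncard = b := by
    intro y
    obtain ⟨g, rfl⟩ := exists_smul_eq Y x y
    rw [← smul_orbit_eq_orbit_smul N x g, Set.ncard_smul_set, hb]
  have hℓf : Fact ℓ.Prime := ⟨hℓ⟩
  obtain ⟨k, hk⟩ : ∃ k, Nat.card N = ℓ ^ k := by
    have hpg : IsPGroup ℓ N := fun x => ⟨1, by
      rw [pow_one]
      apply Subtype.ext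
      exact hNp x x.2⟩
    exact hpg.exists_card_eq
  have hbd : b ∣ ℓ ^ k := by
    rw [← hk, hb, ← index_stabilizer]
    exact (stabilizer N x).index_dvd_card
  -- the number of orbits
  let Q := orbitRel.Quotient N Ω
  have hQf : Finite Q := inferInstance
  have : Fintype Q := Fintype.ofFinite Q
  let c : Ω → Q := Quotient.mk''
  have hc : Function.Surjective c := Quotient.mk''_surjective
  have hcc : ∀ x y, c x = c y ↔ x ∈ orbit N y := fun x y => by
    rw [← orbitRel_apply]
    exact Quotient.eq''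
  have hfib : ∀ q : Q, Nat.card {y // c y = q} = b := by
    intro q
    obtain ⟨z, rfl⟩ := hc q
    rw [← hall z]
    refine Nat.card_congr (Equiv.subtypeEquivRight fun y => ?_)
    rw [hcc]
  have hsum : 10 = Nat.card Q * b := by
    rw [← hΩ, Nat.card_congr (Equiv.sigmaFiberEquiv c).symm, Nat.card_sigma]
    simp only [hfib]
    simp
  obtain ⟨η, θ, hle⟩ := Cfsg.Agent.H489.card_le_of_partition Y c hc (by
    intro g hg u v huv
    rw [hcc] at huv ⊢
    obtain ⟨n, hn⟩ := huv
    refine ⟨⟨⟨g, hg⟩ * (n : Y) * ⟨g, hg⟩⁻¹, hNn.conj_mem n n.2 _⟩, ?_⟩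
    rw [← hn]
    show g (((n : Y) : Perm Ω) (g⁻¹ (g v))) = g (((n : Y) : Perm Ω) v)
    simp)
  have hets : Group.IsSolvable η.range := Group.isSolvable_of_surjective η.rangeRestrict_surjective
  have hths : ∀ q, Group.IsSolvable (θ q).range := fun q => by
    have : Group.IsSolvable η.ker := inferInstance
    exact Group.isSolvable_of_surjective (θ q).rangeRestrict_surjective
  have hb10 : b ∣ 10 := ⟨Nat.card Q, by rw [hsum, mul_comm]⟩
  have hb' : b = 1 ∨ b = 2 ∨ b = 5 ∨ b = 10 := by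
    have : b ≤ 10 := Nat.le_of_dvd (by norm_num) hb10
    interval_cases b <;> omega
  rcases hb' with h | h | h | h
  · exfalso
    apply hN0
    have hN' := hNn
    refine eq_bot_of_fix (x := x) fun n hn => ?_
    rw [h] at hb
    obtain ⟨y, hy⟩ := Set.ncard_eq_one.1 hb.symm
    have h1 : x ∈ orbit N x := mem_orbit_self x
    have h2 : n • x ∈ orbit N x := ⟨⟨n, hn⟩, rfl⟩
    rw [hy, Set.mem_singleton_iff] at h1 h2
    rw [h2, ← h1]
  · -- `b = 2`
    have hQ : Nat.card Q = 5 := by rw [h] at hsum; omega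
    have h1 : Nat.card η.range ≤ 24 := le24 hQ _ hets
    have h2 : ∏ q, Nat.card (θ q).range ≤ 2 ^ 5 := by
      have h3 : ∀ q ∈ (Finset.univ : Finset Q), Nat.card (θ q).range ≤ 2 := by
        intro q _
        have h4 := Nat.le_of_dvd (by rw [Nat.card_perm]; exact Nat.factorial_pos _) (Subgroup.card_subgroup_dvd_card (θ q).range)
        rwa [Nat.card_perm, hfib, h] at h4
      have h4 := Finset.prod_le_pow_card _ _ _ h3
      rwa [Finset.card_univ, ← Nat.card_eq_fintype_card, hQ] at h4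
    exact (hle.trans (Nat.mul_le_mul h1 h2)).trans (by norm_num)
  · -- `b = 5`
    have hQ : Nat.card Q = 2 := by rw [h] at hsum; omega
    have h1 : Nat.card η.range ≤ 2 := by
      have h4 := Nat.le_of_dvd (by rw [Nat.card_perm]; exact Nat.factorial_pos _) (Subgroup.card_subgroup_dvd_card η.range)
      rwa [Nat.card_perm, hQ] at h4
    have h2 : ∏ q, Nat.card (θ q).range ≤ 24 ^ 2 := by
      have h3 : ∀ q ∈ (Finset.univ : Finset Q), Nat.card (θ q).range ≤ 24 := by
        intro q _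
        exact le24 (by rw [hfib, h]) _ (hths q)
      have h4 := Finset.prod_le_pow_card _ _ _ h3
      rwa [Finset.card_univ, ← Nat.card_eq_fintype_card, hQ] at h4
    exact (hle.trans (Nat.mul_le_mul h1 h2)).trans (by norm_num)
  · exfalso
    rw [h] at hbd
    have h2 := (Nat.prime_dvd_prime_iff_eq Nat.prime_two hℓ).1
      (Nat.prime_two.dvd_of_dvd_pow ((by norm_num : 2 ∣ 10).trans hbd))
    have h5 := (Nat.prime_dvd_prime_iff_eq (by norm_num : (5 : ℕ).Prime) hℓ).1
      ((by norm_num : (5 : ℕ).Prime).dvd_of_dvd_pow ((by norm_num : 5 ∣ 10).trans hbd))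
    omega

theorem bound10 {Ω : Type} [Fintype Ω] (hΩ : Nat.card Ω = 10) (Y : Subgroup (Perm Ω))
    (hs : Group.IsSolvable Y) (h25 : 25 ∣ Nat.card Y) : Nat.card Y ≤ 1152 := by
  classical
  have hne : Nonempty Ω := by
    rw [← Finite.card_pos_iff, hΩ]; norm_num
  obtain ⟨x⟩ := hne
  obtain ⟨m, hm⟩ : ∃ m, m = (orbit Y x).ncard := ⟨_, rfl⟩
  have hm1 : 0 < m := by
    rw [hm]
    exact (Set.ncard_pos (Set.toFinite _)).2 ⟨x, mem_orbit_self x⟩
  have hmn : m ≤ 10 := by
    rw [hm, ← hΩ, ← Set.ncard_univ]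
    exact Set.ncard_le_ncard (Set.subset_univ _) (Set.toFinite _)
  rcases Nat.lt_or_ge m 10 with hlt | hge
  · obtain ⟨A, B, hAB, hAs, hBs, hAt, hB⟩ := split Y hs x
    have hmc : Nat.card (orbit Y x) = m := hm.symm
    have hc : Nat.card {y // y ∉ orbit Y x} = 10 - m := by rw [card_compl_orbit, hΩ, hm]
    have hA1 : Nat.card A ∣ m ! := by
      rw [← hmc, ← Nat.card_perm]
      exact Subgroup.card_subgroup_dvd_card A
    have hB1 : Nat.card B ∣ (10 - m)! := by
      rw [← hc, ← Nat.card_perm]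
      exact Subgroup.card_subgroup_dvd_card B
    have h1 : 25 ∣ m ! * (10 - m)! := by
      rw [hAB] at h25
      exact h25.trans (Nat.mul_dvd_mul hA1 hB1)
    have h5 : m = 5 := by
      by_contra h5
      interval_cases m
      all_goals first | omega | exact absurd h1 (by decide)
    rw [hAB]
    exact (Nat.mul_le_mul (le24 (by rw [hmc, h5]) A hAs) (le24 (by rw [hc, h5]) B hBs)).trans (by norm_num)
  · have h1 : orbit Y x = Set.univ := by
      apply Set.eq_of_subset_of_ncard_le (Set.subset_univ _)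
      rw [Set.ncard_univ, hΩ, ← hm]
      omega
    have : IsPretransitive Y Ω := by
      rw [isPretransitive_iff_orbit_eq_univ (a := x)]
      exact h1
    exact bound10_trans hΩ Y hs h25

end Cfsg.Agent.H813.NFAlt
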