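import Mathlib
import Cfsg.Agent.H176.NFBase
import Cfsg.Agent.S2119
import Cfsg.Agent.S0256
import Cfsg.Agent.H813.NFAltD

/-!
# `A_n`, `n ≥ 7`, is not the socle of a product of two solvable groups (helper813, for S5773)
-/

set_option autoImplicit false

namespace Cfsg.Agent.H813.NFAlt

open MulAction Equiv
open scoped Nat

/-- numerical fact, `n ≥ 19` -/
theorem num_large (n : ℕ) (h : 19 ≤ n) : 8 * 24 ^ (2 * (n - 1)) < n ! ^ 3 := by
  obtain ⟨k, rfl⟩ : ∃ k, n = k + 19 := ⟨n - 19, by omega⟩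
  clear h
  induction k with
  | zero => norm_num [Nat.factorial]
  | succ k ih =>
    have h1 : 2 * (k + 1 + 19 - 1) = 2 * (k + 19 - 1) + 2 := by omega
    rw [h1, pow_add, show k + 1 + 19 = (k + 19) + 1 by omega, Nat.factorial_succ, mul_pow]
    have h2 : 576 ≤ (k + 19 + 1) ^ 3 := by
      have : 20 ^ 3 ≤ (k + 19 + 1) ^ 3 := Nat.pow_le_pow_left (by omega) 3
      omega
    revert ih h2
    generalize 24 ^ (2 * (k + 19 - 1)) = E
    generalize (k + 19)! ^ 3 = F
    generalize (k + 19 + 1) ^ 3 = D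
    intro ih h2
    calc 8 * (E * 24 ^ 2) = 576 * (8 * E) := by ring
      _ < 576 * F := by omega
      _ ≤ D * F := Nat.mul_le_mul_right F h2

theorem dixon {n : ℕ} (hn : 0 < n) {X : Subgroup (Perm (Fin n))} (hs : Group.IsSolvable X) :
    Nat.card X ^ 3 ≤ 24 ^ (n - 1) :=
  Cfsg.Agent.H489.card_pow_three_le n (Fin n) X hs (by simp) hn

/-- numerical contradiction, `11 ≤ n ≤ 18` -/
theorem med_aux {n p : ℕ} (hp : p.Prime) (hp11 : 11 ≤ p) (h11 : 11 ≤ n) (h18 : n ≤ 18) (_hpn : p ≤ n) (hn : n < 2 * p)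
    (hnum : 8 * ((p * (p - 1) * (n - p)!) ^ 3 * 24 ^ (n - 1)) < n ! ^ 3) {X Y : Subgroup (Perm (Fin n))}
    (hXs : Group.IsSolvable X) (hYs : Group.IsSolvable Y) (hpX : p ∣ Nat.card X)
    (hle : n ! ≤ 2 * (Nat.card X * Nat.card Y)) : False := by
  rcases dich hp (by omega) hn h18 (by simp) X hXs hpX with ⟨-, a, b, hab, ha, hb, -⟩ | ⟨h, -⟩
  · have h1 : Nat.card X ≤ p * (p - 1) * (n - p)! := by
      rw [hab]
      refine Nat.mul_le_mul (Nat.le_of_dvd (Nat.mul_pos hp.pos (by omega)) ha) (Nat.le_of_dvd (Nat.factorial_pos _) hb)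
    have h2 := dixon (by omega) hYs
    have h3 : n ! ^ 3 ≤ 8 * (Nat.card X ^ 3 * Nat.card Y ^ 3) := by
      calc n ! ^ 3 ≤ (2 * (Nat.card X * Nat.card Y)) ^ 3 := Nat.pow_le_pow_left hle 3
        _ = _ := by ring
    have h4 : Nat.card X ^ 3 * Nat.card Y ^ 3 ≤ (p * (p - 1) * (n - p)!) ^ 3 * 24 ^ (n - 1) :=
      Nat.mul_le_mul (Nat.pow_le_pow_left h1 3) h2
    exact absurd (h3.trans (Nat.mul_le_mul_left 8 h4)) (not_le.2 hnum)
  · omega

theorem med {n : ℕ} (p : ℕ) (hp : p.Prime) (hp11 : 11 ≤ p) (h11 : 11 ≤ n) (h18 : n ≤ 18) (hpn : p ≤ n) (hn : n < 2 * p)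
    (hnum : 8 * ((p * (p - 1) * (n - p)!) ^ 3 * 24 ^ (n - 1)) < n ! ^ 3) {X Y : Subgroup (Perm (Fin n))}
    (hXs : Group.IsSolvable X) (hYs : Group.IsSolvable Y) (hd : n ! ∣ 2 * (Nat.card X * Nat.card Y)) : False := by
  have hle : n ! ≤ 2 * (Nat.card X * Nat.card Y) :=
    Nat.le_of_dvd (Nat.mul_pos (by norm_num) (Nat.mul_pos Nat.card_pos Nat.card_pos)) hd
  have h1 : p ∣ 2 * (Nat.card X * Nat.card Y) := ((hp.dvd_factorial).2 hpn).trans hd
  rcases hp.dvd_mul.1 h1 with h | h
  · have := (Nat.prime_dvd_prime_iff_eq hp Nat.prime_two).1 h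
    omega
  · rcases hp.dvd_mul.1 h with h | h
    · exact med_aux hp hp11 h11 h18 hpn hn hnum hXs hYs h hle
    · exact med_aux hp hp11 h11 h18 hpn hn hnum hYs hXs h (by rwa [mul_comm (Nat.card X)] at hle)

/-- `7 ≤ n ≤ 10`, `7 ∣ |X|`. -/
theorem seven_aux {n : ℕ} (h7 : 7 ≤ n) (h10 : n ≤ 10) {X : Subgroup (Perm (Fin n))}
    (hXs : Group.IsSolvable X) (hX : 7 ∣ Nat.card X) :
    ¬ 5 ∣ Nat.card X ∧ Nat.card X ≤ (if n = 7 then 42 else if n = 8 then 168 else if n = 9 then 168 else 336) := by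
  rcases dich (n := n) (p := 7) (by norm_num) (by norm_num) (by omega) (by omega) (by simp) X hXs hX with
    ⟨-, a, b, hab, ha, hb, -⟩ | ⟨-, h8, a, b, hab, ha, ha', hb⟩
  · have h1 := Nat.le_of_dvd (by norm_num) ha
    have h2 := Nat.le_of_dvd (Nat.factorial_pos _) hb
    have h3 := Nat.mul_dvd_mul ha hb
    have h4 := Nat.mul_le_mul h1 h2
    rw [← hab] at h3 h4
    constructor
    · intro h5
      have h6 := h5.trans h3
      interval_cases n
      all_goals exact absurd h6 (by decide)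
    · interval_cases n
      all_goals (refine h4.trans ?_; norm_num [Nat.factorial])
  · have h2 := Nat.le_of_dvd (Nat.factorial_pos _) hb
    have h3 := Nat.mul_dvd_mul ha hb
    have h4 := Nat.mul_le_mul ha' h2
    rw [← hab] at h3 h4
    constructor
    · intro h5
      have h6 := h5.trans h3
      interval_cases n
      all_goals exact absurd h6 (by decide)
    · interval_cases n
      all_goals (refine h4.trans ?_; norm_num [Nat.factorial])

/-- `7 ≤ n ≤ 9`, `5 ∣ |Y|`. -/
theorem five_aux {n : ℕ} (h7 : 7 ≤ n) (h9 : n ≤ 9) {Y : Subgroup (Perm (Fin n))}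
    (hYs : Group.IsSolvable Y) (hY : 5 ∣ Nat.card Y) :
    ∃ a b, Nat.card Y = a * b ∧ a ≤ 20 ∧ b ≤ (n - 5)! ∧ (b = (n - 5)! → ∃ σ ∈ Y, Perm.sign σ = -1) := by
  rcases dich (n := n) (p := 5) (by norm_num) (by norm_num) (by omega) (by omega) (by simp) Y hYs hY with
    ⟨-, a, b, hab, ha, hb, h⟩ | ⟨h, -⟩
  · exact ⟨a, b, hab, Nat.le_of_dvd (by norm_num) ha, Nat.le_of_dvd (Nat.factorial_pos _) hb, fun h' => h h' (by omega)⟩
  · omega

/-- `7 ≤ n ≤ 10` -/
theorem small_aux {n : ℕ} (h7 : 7 ≤ n) (h10 : n ≤ 10) {G X Y : Subgroup (Perm (Fin n))}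
    (hG : alternatingGroup (Fin n) ≤ G) (hY : Y ≤ G)
    (hc : Nat.card X * Nat.card Y = Nat.card G * Nat.card ↥(X ⊓ Y))
    (hXs : Group.IsSolvable X) (hYs : Group.IsSolvable Y) (h2 : 2 * Nat.card (alternatingGroup (Fin n)) = n !)
    (hX : 7 ∣ Nat.card X) : False := by
  obtain ⟨h5, hXle⟩ := seven_aux h7 h10 hXs hX
  have hd : n ! ∣ 2 * (Nat.card X * Nat.card Y) := by
    rw [← h2, hc]
    exact Nat.mul_dvd_mul_left 2 ((Subgroup.card_dvd_of_le hG).trans (Dvd.intro _ rfl))
  have hle : n ! ≤ 2 * (Nat.card X * Nat.card Y) :=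
    Nat.le_of_dvd (Nat.mul_pos (by norm_num) (Nat.mul_pos Nat.card_pos Nat.card_pos)) hd
  have hcop : Nat.Coprime 5 (Nat.card X) := (Nat.Prime.coprime_iff_not_dvd (by norm_num)).2 h5
  have h5Y : ∀ k, 5 ^ k ∣ n ! → 5 ^ k ∣ Nat.card Y := by
    intro k hk
    have h1 := hk.trans hd
    have h2 : Nat.Coprime (5 ^ k) 2 := Nat.Coprime.pow_left k (by norm_num)
    exact (hcop.pow_left k).dvd_of_dvd_mul_left (h2.dvd_of_dvd_mul_left h1)
  rcases Nat.lt_or_ge n 10 with hlt | hge
  · have h5n : 5 ∣ Nat.card Y := by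
      have := h5Y 1 (by rw [pow_one]; exact (Nat.Prime.dvd_factorial (by norm_num)).2 (by omega))
      rwa [pow_one] at this
    obtain ⟨a, b, hab, ha, hb, hσ⟩ := five_aux h7 (by omega) hYs h5n
    have hYle : Nat.card Y ≤ 20 * (n - 5)! := by rw [hab]; exact Nat.mul_le_mul ha hb
    have hXY := Nat.mul_le_mul hXle hYle
    interval_cases n
    · norm_num [Nat.factorial] at hle hXY
      omega
    · -- `n = 8`
      have h2' : 2 * Nat.card (alternatingGroup (Fin 8)) = 40320 := h2.trans (by decide)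
      norm_num [Nat.factorial] at hle hXY hXle hYle hσ hb
      have h20 : Nat.card X * Nat.card Y = 20160 := by omega
      have hY' : Nat.card Y = 120 := by
        by_contra hne
        have h3 : Nat.card Y ≤ 119 := by omega
        have := Nat.mul_le_mul hXle h3
        omega
      have hb6 : b = 6 := by
        by_contra hne
        have h3 : b ≤ 5 := by omega
        have := Nat.mul_le_mul ha h3
        omega
      obtain ⟨σ, hσY, hσs⟩ := hσ hb6
      have hGle : Nat.card G ≤ 20160 := by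
        rw [h20] at hc
        have : 0 < Nat.card ↥(X ⊓ Y) := Nat.card_pos
        rw [hc]
        exact Nat.le_mul_of_pos_right _ this
      have hGA : alternatingGroup (Fin 8) = G := by
        apply Subgroup.eq_of_le_of_card_ge hG
        omega
      have h4 : σ ∈ alternatingGroup (Fin 8) := by rw [hGA]; exact hY hσY
      rw [Perm.mem_alternatingGroup, hσs] at h4
      exact absurd h4 (by decide)
    · norm_num [Nat.factorial] at hle hXY
      omega
  · have hn : n = 10 := by omega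
    subst hn
    have h25 : 25 ∣ Nat.card Y := by
      have := h5Y 2 (by decide)
      simpa using this
    have hYle := bound10 (by simp) Y hYs h25
    have hXY := Nat.mul_le_mul hXle hYle
    norm_num [Nat.factorial] at hle hXY
    omega

/-- **No factorization.** -/
theorem no_fac {n : ℕ} (h7 : 7 ≤ n) {G X Y : Subgroup (Perm (Fin n))}
    (hG : alternatingGroup (Fin n) ≤ G) (hX : X ≤ G) (hY : Y ≤ G)
    (hXY : ∀ g ∈ G, ∃ h ∈ X, ∃ k ∈ Y, g = h * k) (hXs : Group.IsSolvable X) (hYs : Group.IsSolvable Y) : False := by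
  have hc := Cfsg.Agent.H176.NF.card_factor hX hY hXY
  have hnt : Nontrivial (Fin n) := Fin.nontrivial_iff_two_le.2 (by omega)
  have h2 : 2 * Nat.card (alternatingGroup (Fin n)) = n ! := by
    rw [two_mul_nat_card_alternatingGroup, Nat.card_perm]
    simp
  have hd : n ! ∣ 2 * (Nat.card X * Nat.card Y) := by
    rw [← h2, hc]
    exact Nat.mul_dvd_mul_left 2 ((Subgroup.card_dvd_of_le hG).trans (Dvd.intro _ rfl))
  have hle : n ! ≤ 2 * (Nat.card X * Nat.card Y) :=
    Nat.le_of_dvd (Nat.mul_pos (by norm_num) (Nat.mul_pos Nat.card_pos Nat.card_pos)) hd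
  rcases Nat.lt_or_ge n 11 with h10 | h11
  · have h7X : 7 ∣ 2 * (Nat.card X * Nat.card Y) := ((Nat.Prime.dvd_factorial (by norm_num)).2 h7).trans hd
    have hp7 : (7 : ℕ).Prime := by norm_num
    rcases hp7.dvd_mul.1 h7X with h | h
    · omega
    · rcases hp7.dvd_mul.1 h with h | h
      · exact small_aux h7 (by omega) hG hY hc hXs hYs h2 h
      · refine small_aux h7 (by omega) hG hX ?_ hYs hXs h2 h
        rw [mul_comm, hc, inf_comm]
  · rcases Nat.lt_or_ge n 19 with h18 | h19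
    · interval_cases n
      · exact med 11 (by norm_num) (by norm_num) (by norm_num) (by norm_num) (by norm_num) (by norm_num) (by norm_num [Nat.factorial]) hXs hYs hd
      · exact med 11 (by norm_num) (by norm_num) (by norm_num) (by norm_num) (by norm_num) (by norm_num) (by norm_num [Nat.factorial]) hXs hYs hd
      · exact med 13 (by norm_num) (by norm_num) (by norm_num) (by norm_num) (by norm_num) (by norm_num) (by norm_num [Nat.factorial]) hXs hYs hd
      · exact med 13 (by norm_num) (by norm_num) (by norm_num) (by norm_num) (by norm_num) (by norm_num) (by norm_num [Nat.factorial]) hXs hYs hd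
      · exact med 13 (by norm_num) (by norm_num) (by norm_num) (by norm_num) (by norm_num) (by norm_num) (by norm_num [Nat.factorial]) hXs hYs hd
      · exact med 13 (by norm_num) (by norm_num) (by norm_num) (by norm_num) (by norm_num) (by norm_num) (by norm_num [Nat.factorial]) hXs hYs hd
      · exact med 17 (by norm_num) (by norm_num) (by norm_num) (by norm_num) (by norm_num) (by norm_num) (by norm_num [Nat.factorial]) hXs hYs hd
      · exact med 17 (by norm_num) (by norm_num) (by norm_num) (by norm_num) (by norm_num) (by norm_num) (by norm_num [Nat.factorial]) hXs hYs hd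
    · have h1 := dixon (by omega) hXs
      have h3 := dixon (by omega) hYs
      have h4 : n ! ^ 3 ≤ 8 * (Nat.card X ^ 3 * Nat.card Y ^ 3) := by
        calc n ! ^ 3 ≤ (2 * (Nat.card X * Nat.card Y)) ^ 3 := Nat.pow_le_pow_left hle 3
          _ = _ := by ring
      have h5 := Nat.mul_le_mul h1 h3
      rw [← pow_add, ← two_mul] at h5
      have h6 := num_large n h19
      omega

end Cfsg.Agent.H813.NFAlt

namespace Cfsg.Agent.H813.NFAlt

open Equiv

/-- **No almost simple group with socle `A_n`, `n ≥ 7`, is a product of two solvable subgroups.** -/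
theorem alt (n : ℕ) (h : 7 ≤ n) : Cfsg.Agent.H176.NF.NF (alternatingGroup (Fin n)) := by
  intro G H K hG hH hK hHK hHs hKs
  have hbij := Cfsg.Agent.S2119.result n (by omega) (by omega)
  obtain ⟨f, hf⟩ : ∃ f : Perm (Fin n) →* MulAut (alternatingGroup (Fin n)), f = MulAut.conjNormal := ⟨_, rfl⟩
  rw [← hf] at hbij
  refine no_fac h (G := G.comap f) (X := H.comap f) (Y := K.comap f)
    ?_ (Subgroup.comap_mono hH) (Subgroup.comap_mono hK) ?_
    (Cfsg.Agent.H176.NF.isSolvable_comap f hbij.1 hHs)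
    (Cfsg.Agent.H176.NF.isSolvable_comap f hbij.1 hKs)
  · intro a ha
    apply hG
    refine ⟨⟨a, ha⟩, ?_⟩
    rw [hf]
    ext x
    rfl
  · intro g hg
    obtain ⟨x, hx, y, hy, e⟩ := hHK _ hg
    obtain ⟨x', rfl⟩ := hbij.2 x
    obtain ⟨y', rfl⟩ := hbij.2 y
    refine ⟨x', hx, y', hy, ?_⟩
    apply hbij.1
    rw [map_mul]
    exact e

/-- `PSL(4,2) ≅ A_8`. -/
theorem l42 (F : Type) [Field F] [Fintype F] (n : ℕ) (hn : n = 4) (hF : Fintype.card F = 2) :
    Cfsg.Agent.H176.NF.NF (Matrix.ProjectiveSpecialLinearGroup (Fin n) F) := by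
  subst hn
  obtain ⟨e⟩ := Cfsg.Agent.S0256.result (F := F) hF
  exact (alt 8 (by norm_num)).congr e.symm

end Cfsg.Agent.H813.NFAlt
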