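import Cfsg.Agent.H262.ElSympPSp
import Cfsg.Agent.H912.Core4

/-!
# The order of the normalizer of a quadratic extension field in `Sp_4(q)`, `q` even (helper813, for S2498, S2528)
-/

set_option autoImplicit false
set_option linter.unusedSectionVars false

namespace Cfsg.Agent.H813.SaxSp

open Matrix Module Cfsg Cfsg.Geo Cfsg.Agent.H262.El Cfsg.Agent.H876 Cfsg.Agent.H931 Cfsg.Agent.ClassicalGeometry.SympBasic
open scoped MatrixGroups

variable {F : Type*} [Field F] [Fintype F]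

local notation "I4" => (Fin 2 ⊕ Fin 2)

variable {K : Subalgebra F (Matrix I4 I4 F)}

theorem card_K (hK : IsFieldSubalgebra 2 K) : Nat.card K = Fintype.card F ^ 2 := by
  rw [Module.natCard_eq_pow_finrank (K := F) (V := K), hK.finrank_eq, Nat.card_eq_fintype_card]

theorem card_V : Nat.card (I4 → F) = Fintype.card F ^ 4 := by
  rw [Module.natCard_eq_pow_finrank (K := F) (V := I4 → F), Module.finrank_fintype_fun_eq_card,
    Nat.card_eq_fintype_card]
  simp

theorem inj_one (hK : IsFieldSubalgebra 2 K) {v : I4 → F} (hv : v ≠ 0) :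
    Function.Injective (fun k : K => (k : Matrix I4 I4 F) *ᵥ v) := by
  intro a b hab
  have h1 : ((a - b : K) : Matrix I4 I4 F) *ᵥ v = 0 := by
    have h2 : (a : Matrix I4 I4 F) *ᵥ v = (b : Matrix I4 I4 F) *ᵥ v := hab
    show ((a : Matrix I4 I4 F) - (b : Matrix I4 I4 F)) *ᵥ v = 0
    rw [Matrix.sub_mulVec, h2, sub_self]
  by_contra hne
  obtain ⟨y, hy, hxy⟩ := hK.inv (a - b : K) (a - b : K).2 (fun h => hne (sub_eq_zero.1 (Subtype.ext h)))
  apply hv
  have h2 : (y * ((a - b : K) : Matrix I4 I4 F)) *ᵥ v = v := by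
    rw [hK.comm y hy _ (a - b : K).2, hxy, Matrix.one_mulVec]
  rw [← h2, ← Matrix.mulVec_mulVec, h1, Matrix.mulVec_zero]

theorem surj_two (hK : IsFieldSubalgebra 2 K) {v w : I4 → F} (hv : v ≠ 0)
    (hw : ∀ k ∈ K, k *ᵥ v ≠ w) (u : I4 → F) : ∃ k ∈ K, ∃ l ∈ K, u = k *ᵥ v + l *ᵥ w := by
  have hfin : Finite K := Module.finite_of_finite F
  let g : K × K → (I4 → F) := fun p => (p.1 : Matrix I4 I4 F) *ᵥ v + (p.2 : Matrix I4 I4 F) *ᵥ w
  have hinj : Function.Injective g := by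
    rintro ⟨a, b⟩ ⟨a', b'⟩ h
    have h' : (a : Matrix I4 I4 F) *ᵥ v + (b : Matrix I4 I4 F) *ᵥ w =
      (a' : Matrix I4 I4 F) *ᵥ v + (b' : Matrix I4 I4 F) *ᵥ w := h
    have hb : b = b' := by
      by_contra hne
      obtain ⟨y, hy, hxy⟩ := hK.inv (b' - b : K) (b' - b : K).2 (fun h => hne (sub_eq_zero.1 (Subtype.ext h)).symm)
      apply hw (y * ((a - a' : K) : Matrix I4 I4 F)) (K.mul_mem hy (a - a' : K).2)
      have h1 : ((a - a' : K) : Matrix I4 I4 F) *ᵥ v = ((b' - b : K) : Matrix I4 I4 F) *ᵥ w := by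
        show ((a : Matrix I4 I4 F) - (a' : Matrix I4 I4 F)) *ᵥ v = ((b' : Matrix I4 I4 F) - (b : Matrix I4 I4 F)) *ᵥ w
        rw [Matrix.sub_mulVec, Matrix.sub_mulVec, sub_eq_sub_iff_add_eq_add, h']
        abel
      rw [← Matrix.mulVec_mulVec, h1, Matrix.mulVec_mulVec, hK.comm y hy _ (b' - b : K).2, hxy, Matrix.one_mulVec]
    subst hb
    have ha : a = a' := inj_one hK hv (add_right_cancel h')
    rw [ha]
  have hbij : Function.Bijective g := by
    rw [Nat.bijective_iff_injective_and_card]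
    refine ⟨hinj, ?_⟩
    rw [Nat.card_prod, card_K hK, card_V]
    ring
  obtain ⟨⟨k, l⟩, hkl⟩ := hbij.2 u
  exact ⟨k, k.2, l, l.2, hkl.symm⟩

theorem exists_not (hK : IsFieldSubalgebra 2 K) (v : I4 → F) : ∃ w : I4 → F, ∀ k ∈ K, k *ᵥ v ≠ w := by
  by_contra h
  push Not at h
  have hfin : Finite K := Module.finite_of_finite F
  have hs : Function.Surjective (fun k : K => (k : Matrix I4 I4 F) *ᵥ v) := by
    intro w
    obtain ⟨k, hk, hkw⟩ := h w
    exact ⟨⟨k, hk⟩, hkw⟩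
  have h1 := Nat.card_le_card_of_surjective _ hs
  rw [card_K hK, card_V] at h1
  have h2 : Fintype.card F ^ 2 < Fintype.card F ^ 4 := Nat.pow_lt_pow_right Fintype.one_lt_card (by norm_num)
  omega

variable [CharP F 2]

theorem stab_diff (hK : IsFieldSubalgebra 2 K) (hsa : IsSelfAdjointFor (sympForm 2 F) K)
    (halt : ∀ k ∈ K, ∀ v : (I4 → F), (sympForm 2 F) (k *ᵥ v) v = 0) {c : GL I4 F} (hc : c ∈ spGL 2 F)
    (hcK : ∀ k ∈ K, (c : Matrix I4 I4 F) * k = k * c) {v : I4 → F} (hv : v ≠ 0) (hcv : (c : Matrix I4 I4 F) *ᵥ v = v)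
    (u : I4 → F) : ∃ k ∈ K, (c : Matrix I4 I4 F) *ᵥ u + u = k *ᵥ v := by
  by_contra hno
  push Not at hno
  set d := (c : Matrix I4 I4 F) *ᵥ u + u with hd
  have h2 : (2 : F) = 0 := CharTwo.two_eq_zero
  have hkd : ∀ k ∈ K, sympForm 2 F (k *ᵥ v) d = 0 := by
    intro k hk
    have h1 : (c : Matrix I4 I4 F) *ᵥ (k *ᵥ v) = k *ᵥ v := by
      rw [Matrix.mulVec_mulVec, hcK k hk, ← Matrix.mulVec_mulVec, hcv]
    have h3 : sympForm 2 F (k *ᵥ v) ((c : Matrix I4 I4 F) *ᵥ u) = sympForm 2 F (k *ᵥ v) u := by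
      conv_lhs => rw [← h1]
      exact mem_spGL_iff.1 hc _ _
    rw [hd, sympForm_add_right, h3, ← two_mul, h2, zero_mul]
  apply hv
  apply eq_zero_of_forall_sympForm_left
  intro x
  obtain ⟨k, hk, l, hl, rfl⟩ := surj_two hK hv (w := d) (fun k hk h => hno k hk h.symm) x
  rw [sympForm_swap, sympForm_add_right, ← hsa k hk, halt k hk, ← hsa l hl, hkd l hl, add_zero, neg_zero]

theorem stab_sq (hK : IsFieldSubalgebra 2 K) (hsa : IsSelfAdjointFor (sympForm 2 F) K)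
    (halt : ∀ k ∈ K, ∀ v : (I4 → F), (sympForm 2 F) (k *ᵥ v) v = 0) {c : GL I4 F} (hc : c ∈ spGL 2 F)
    (hcK : ∀ k ∈ K, (c : Matrix I4 I4 F) * k = k * c) {v : I4 → F} (hv : v ≠ 0) (hcv : (c : Matrix I4 I4 F) *ᵥ v = v) :
    c ^ 2 = 1 := by
  have h2 : (2 : F) = 0 := CharTwo.two_eq_zero
  have key : ∀ u : I4 → F, ((c ^ 2 : GL I4 F) : Matrix I4 I4 F) *ᵥ u = u := by
    intro u
    obtain ⟨k, hk, hku⟩ := stab_diff hK hsa halt hc hcK hv hcv u
    have h1 : (c : Matrix I4 I4 F) *ᵥ (k *ᵥ v) = k *ᵥ v := by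
      rw [Matrix.mulVec_mulVec, hcK k hk, ← Matrix.mulVec_mulVec, hcv]
    rw [← hku, Matrix.mulVec_add, Matrix.mulVec_mulVec] at h1
    rw [sq, Units.val_mul]
    have h3 : (c : Matrix I4 I4 F) *ᵥ u + u + (c : Matrix I4 I4 F) *ᵥ u = u := by
      have : (c : Matrix I4 I4 F) *ᵥ u + (c : Matrix I4 I4 F) *ᵥ u = 0 := by rw [← two_smul F, h2, zero_smul]
      calc (c : Matrix I4 I4 F) *ᵥ u + u + (c : Matrix I4 I4 F) *ᵥ u
          = ((c : Matrix I4 I4 F) *ᵥ u + (c : Matrix I4 I4 F) *ᵥ u) + u := by abel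
        _ = u := by rw [this, zero_add]
    have h4 : (c : Matrix I4 I4 F) *ᵥ u + (c : Matrix I4 I4 F) *ᵥ u = 0 := by rw [← two_smul F, h2, zero_smul]
    calc ((c : Matrix I4 I4 F) * (c : Matrix I4 I4 F)) *ᵥ u =
          (((c : Matrix I4 I4 F) * (c : Matrix I4 I4 F)) *ᵥ u + (c : Matrix I4 I4 F) *ᵥ u) +
          (c : Matrix I4 I4 F) *ᵥ u := by rw [add_assoc, h4, add_zero]
      _ = u := by rw [h1, h3]
  apply Units.ext
  apply Matrix.ext_of_mulVec_single
  intro i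
  rw [key, Units.val_one, Matrix.one_mulVec]

theorem stab_card (hK : IsFieldSubalgebra 2 K) (hsa : IsSelfAdjointFor (sympForm 2 F) K)
    (halt : ∀ k ∈ K, ∀ v : (I4 → F), (sympForm 2 F) (k *ᵥ v) v = 0) {R : Subgroup (GL I4 F)} (hR : R ≤ spGL 2 F)
    (hRK : ∀ c ∈ R, ∀ k ∈ K, (c : Matrix I4 I4 F) * k = k * c) {v : I4 → F} (hv : v ≠ 0)
    (hcv : ∀ c ∈ R, (c : Matrix I4 I4 F) *ᵥ v = v) : Nat.card R ≤ Fintype.card F ^ 2 := by
  have hfin : Finite K := Module.finite_of_finite F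
  obtain ⟨w, hw⟩ := exists_not hK v
  rw [← card_K hK]
  have h1 : ∀ c : R, ∃ k : K, ((c : GL I4 F) : Matrix I4 I4 F) *ᵥ w + w = (k : Matrix I4 I4 F) *ᵥ v := by
    intro c
    obtain ⟨k, hk, h⟩ := stab_diff hK hsa halt (hR c.2) (hRK c c.2) hv (hcv c c.2) w
    exact ⟨⟨k, hk⟩, h⟩
  choose φ hφ using h1
  refine Nat.card_le_card_of_injective φ ?_
  intro a b hab
  have h2 : ((a : GL I4 F) : Matrix I4 I4 F) *ᵥ w = ((b : GL I4 F) : Matrix I4 I4 F) *ᵥ w := by
    have h3 := hφ a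
    rw [hab, ← hφ b] at h3
    exact add_right_cancel h3
  apply Subtype.ext
  apply Units.ext
  apply Matrix.ext_of_mulVec_single
  intro i
  obtain ⟨k, hk, l, hl, h4⟩ := surj_two hK hv hw (Pi.single i 1)
  rw [h4, Matrix.mulVec_add, Matrix.mulVec_add, Matrix.mulVec_mulVec, Matrix.mulVec_mulVec, Matrix.mulVec_mulVec,
    Matrix.mulVec_mulVec, hRK a a.2 k hk, hRK b b.2 k hk, hRK a a.2 l hl, hRK b b.2 l hl, ← Matrix.mulVec_mulVec,
    ← Matrix.mulVec_mulVec, ← Matrix.mulVec_mulVec, ← Matrix.mulVec_mulVec, hcv a a.2, hcv b b.2, h2]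

/-- the action on vectors -/
@[instance_reducible] def vact (R : Subgroup (GL I4 F)) : MulAction R (I4 → F) where
  smul g v := ((g : GL I4 F) : Matrix I4 I4 F) *ᵥ v
  one_smul v := by
    show ((1 : GL I4 F) : Matrix I4 I4 F) *ᵥ v = v
    rw [Units.val_one, Matrix.one_mulVec]
  mul_smul g h v := by
    show (((g : GL I4 F) * (h : GL I4 F) : GL I4 F) : Matrix I4 I4 F) *ᵥ v = _
    rw [Units.val_mul, ← Matrix.mulVec_mulVec]
    rfl

/-- the action on non-zero vectors -/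
@[instance_reducible] def vact' (R : Subgroup (GL I4 F)) : MulAction R {v : I4 → F // v ≠ 0} where
  smul g v := ⟨((g : GL I4 F) : Matrix I4 I4 F) *ᵥ v.1, fun h => v.2 (by
    have h1 : (((g : GL I4 F)⁻¹ : GL I4 F) : Matrix I4 I4 F) *ᵥ (((g : GL I4 F) : Matrix I4 I4 F) *ᵥ v.1) = v.1 := by
      rw [Matrix.mulVec_mulVec, ← Units.val_mul, inv_mul_cancel, Units.val_one, Matrix.one_mulVec]
    rw [← h1, h, Matrix.mulVec_zero])⟩
  one_smul v := by
    apply Subtype.ext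
    show ((1 : GL I4 F) : Matrix I4 I4 F) *ᵥ v.1 = v.1
    rw [Units.val_one, Matrix.one_mulVec]
  mul_smul g h v := by
    apply Subtype.ext
    show (((g : GL I4 F) * (h : GL I4 F) : GL I4 F) : Matrix I4 I4 F) *ᵥ v.1 = _
    rw [Units.val_mul, ← Matrix.mulVec_mulVec]
    rfl

theorem odd_card (hK : IsFieldSubalgebra 2 K) (hsa : IsSelfAdjointFor (sympForm 2 F) K)
    (halt : ∀ k ∈ K, ∀ v : (I4 → F), (sympForm 2 F) (k *ᵥ v) v = 0) {R : Subgroup (GL I4 F)} (hR : R ≤ spGL 2 F)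
    (hRK : ∀ c ∈ R, ∀ k ∈ K, (c : Matrix I4 I4 F) * k = k * c) {p : ℕ} (hp : p.Prime) (hp2 : p ≠ 2)
    (hRp : IsPGroup p R) : Nat.card R ∣ Fintype.card F ^ 4 - 1 := by
  classical
  have hpf := Fact.mk hp
  let _ := vact' R
  have hfree : ∀ v : {v : I4 → F // v ≠ 0}, MulAction.stabilizer R v = ⊥ := by
    intro v
    rw [eq_bot_iff]
    intro c hc
    rw [Subgroup.mem_bot]
    have h1 : ((c : GL I4 F) : Matrix I4 I4 F) *ᵥ v.1 = v.1 := congrArg Subtype.val hc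
    have h2 := stab_sq hK hsa halt (hR c.2) (hRK c c.2) v.2 h1
    have h3 : c ^ 2 = 1 := Subtype.ext h2
    obtain ⟨k, hk⟩ := IsPGroup.iff_orderOf.1 hRp c
    have h4 := orderOf_dvd_of_pow_eq_one h3
    rw [hk] at h4
    have h5 : Nat.Coprime (p ^ k) 2 := Nat.Coprime.pow_left k ((Nat.coprime_primes hp Nat.prime_two).2 hp2)
    have h6 : p ^ k = 1 := Nat.Coprime.eq_one_of_dvd h5 h4
    rw [h6] at hk
    exact orderOf_eq_one_iff.1 hk
  have e := MulAction.selfEquivOrbitsQuotientProd hfree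
  have h1 := Nat.card_congr e
  rw [Nat.card_prod] at h1
  have h2 : Nat.card {v : I4 → F // v ≠ 0} = Fintype.card F ^ 4 - 1 := by
    have h3 := Set.ncard_add_ncard_compl ({0} : Set (I4 → F))
    rw [Set.ncard_singleton, card_V] at h3
    have h4 : Nat.card {v : I4 → F // v ≠ 0} = ({0} : Set (I4 → F))ᶜ.ncard := rfl
    omega
  rw [← h2, h1]
  exact Dvd.intro_left _ rfl

theorem two_card (hK : IsFieldSubalgebra 2 K) (hsa : IsSelfAdjointFor (sympForm 2 F) K)
    (halt : ∀ k ∈ K, ∀ v : (I4 → F), (sympForm 2 F) (k *ᵥ v) v = 0) {R : Subgroup (GL I4 F)} (hR : R ≤ spGL 2 F)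
    (hRK : ∀ c ∈ R, ∀ k ∈ K, (c : Matrix I4 I4 F) * k = k * c)
    (hRp : IsPGroup 2 R) : Nat.card R ≤ Fintype.card F ^ 2 := by
  let _ := vact R
  have : Fact (Nat.Prime 2) := ⟨Nat.prime_two⟩
  have hmod := hRp.card_modEq_card_fixedPoints (I4 → F)
  obtain ⟨f, -, hf⟩ := FiniteField.card F 2
  have h1 : 2 ∣ Nat.card (I4 → F) := by
    rw [card_V, hf]
    exact dvd_pow (dvd_pow_self 2 f.pos.ne') (by norm_num)
  have h2 : 2 ∣ Nat.card (MulAction.fixedPoints R (I4 → F)) := (Nat.ModEq.dvd_iff hmod dvd_rfl).1 h1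
  have h0 : (0 : I4 → F) ∈ MulAction.fixedPoints R (I4 → F) := fun g => Matrix.mulVec_zero _
  have h3 : 1 < Nat.card (MulAction.fixedPoints R (I4 → F)) := by
    have : 0 < Nat.card (MulAction.fixedPoints R (I4 → F)) := by
      have : Nonempty (MulAction.fixedPoints R (I4 → F)) := ⟨⟨0, h0⟩⟩
      exact Nat.card_pos
    have := Nat.le_of_dvd this h2
    omega
  have h4 := Finite.one_lt_card_iff_nontrivial.1 h3
  obtain ⟨⟨v, hv⟩, hne⟩ := exists_ne (⟨0, h0⟩ : MulAction.fixedPoints R (I4 → F))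
  refine stab_card hK hsa halt hR hRK (v := v) ?_ (fun c hc => hv ⟨c, hc⟩)
  intro h
  exact hne (Subtype.ext h)

theorem cent_card (hK : IsFieldSubalgebra 2 K) (hsa : IsSelfAdjointFor (sympForm 2 F) K)
    (halt : ∀ k ∈ K, ∀ v : (I4 → F), (sympForm 2 F) (k *ᵥ v) v = 0) {C : Subgroup (GL I4 F)} (hC : C ≤ spGL 2 F)
    (hCK : ∀ c ∈ C, ∀ k ∈ K, (c : Matrix I4 I4 F) * k = k * c) :
    Nat.card C ∣ Fintype.card F ^ 2 * (Fintype.card F ^ 4 - 1) := by
  obtain ⟨f, -, hf⟩ := FiniteField.card F 2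
  rw [Nat.dvd_iff_prime_pow_dvd_dvd]
  intro p k hp hd
  have hpf := Fact.mk hp
  let P : Sylow p C := default
  have h1 : p ^ k ∣ Nat.card (P : Subgroup C) := P.pow_dvd_card_of_pow_dvd_card hd
  have h2 : Nat.card ((P : Subgroup C).map C.subtype) = Nat.card (P : Subgroup C) :=
    Subgroup.card_map_of_injective C.subtype_injective
  have h3 : (P : Subgroup C).map C.subtype ≤ C := Subgroup.map_subtype_le _
  by_cases hp2 : p = 2
  · subst hp2
    have h4 := two_card hK hsa halt (h3.trans hC) (fun c hc => hCK c (h3 hc)) (P.2.map C.subtype)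
    rw [h2] at h4
    obtain ⟨j, hj⟩ := P.2.exists_card_eq
    have hj' : Nat.card (P : Subgroup C) = 2 ^ j := hj
    rw [hj'] at h1 h4
    have h5 : 2 ^ j ∣ Fintype.card F ^ 2 := by
      rw [hf, ← pow_mul] at h4 ⊢
      exact pow_dvd_pow 2 ((Nat.pow_le_pow_iff_right (by norm_num)).1 h4)
    exact (h1.trans h5).trans (Dvd.intro _ rfl)
  · have h4 := odd_card hK hsa halt (h3.trans hC) (fun c hc => hCK c (h3 hc)) hp hp2 (P.2.map C.subtype)
    rw [h2] at h4
    exact (h1.trans h4).trans (Dvd.intro_left _ rfl)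

/-- **The order of the normalizer of a quadratic extension field of symplectic type.** -/
theorem card_field (hK : IsFieldSubalgebra 2 K) (hsa : IsSelfAdjointFor (sympForm 2 F) K)
    (halt : ∀ k ∈ K, ∀ v : (I4 → F), (sympForm 2 F) (k *ᵥ v) v = 0) :
    Nat.card (subalgebraNormalizer K ⊓ spGL 2 F : Subgroup (GL I4 F)) ∣
      2 * Fintype.card F ^ 2 * (Fintype.card F ^ 4 - 1) := by
  classical
  obtain ⟨N, hN⟩ : ∃ N : Subgroup (GL I4 F), N = subalgebraNormalizer K ⊓ spGL 2 F := ⟨_, rfl⟩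
  have hNA : H912.NormAlg N K := fun g hg a ha => (((hN ▸ hg : g ∈ subalgebraNormalizer K ⊓ spGL 2 F).1) a).mp ha
  let _ : Field K := (H912.isField_of_fieldSub hK).toField
  have hfd : Module.Finite F K := inferInstance
  have hKfin : Finite K := Module.finite_of_finite F
  have hgal : IsGalois F K := inferInstance
  let ρ : N →* (K ≃ₐ[F] K) :=
    { toFun := fun g => H912.conjSub hNA g
      map_one' := by
        apply AlgEquiv.ext
        intro x
        apply Subtype.ext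
        rw [H912.conjSub_coe]
        simp
      map_mul' := by
        intro g h
        apply AlgEquiv.ext
        intro x
        apply Subtype.ext
        rw [AlgEquiv.mul_apply, H912.conjSub_coe, H912.conjSub_coe, H912.conjSub_coe]
        simp only [Subgroup.coe_mul, _root_.mul_inv_rev, Units.val_mul, Matrix.mul_assoc] }
  have h1 : Nat.card (K ≃ₐ[F] K) = 2 := by
    rw [IsGalois.card_aut_eq_finrank]
    exact hK.finrank_eq
  have h2 : Nat.card ρ.range ∣ 2 := (Subgroup.card_subgroup_dvd_card ρ.range).trans (dvd_of_eq h1)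
  have h3 : Nat.card ρ.ker ∣ Fintype.card F ^ 2 * (Fintype.card F ^ 4 - 1) := by
    rw [← Subgroup.card_map_of_injective (K := ρ.ker) N.subtype_injective]
    refine cent_card hK hsa halt ?_ ?_
    · rintro _ ⟨g, -, rfl⟩
      exact (hN ▸ g.2 : (g : GL I4 F) ∈ subalgebraNormalizer K ⊓ spGL 2 F).2
    · rintro _ ⟨g, hg, rfl⟩ k hk
      have h4 : ρ g ⟨k, hk⟩ = ⟨k, hk⟩ := by rw [MonoidHom.mem_ker.1 hg]; rfl
      have h5 : ((g : GL I4 F) : Matrix I4 I4 F) * k * (((g : GL I4 F)⁻¹ : GL I4 F) : Matrix I4 I4 F) = k :=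
        congrArg Subtype.val h4
      show ((g : GL I4 F) : Matrix I4 I4 F) * k = k * ((g : GL I4 F) : Matrix I4 I4 F)
      conv_rhs => rw [← h5]
      rw [Matrix.mul_assoc _ (((g : GL I4 F)⁻¹ : GL I4 F) : Matrix I4 I4 F), ← Units.val_mul, inv_mul_cancel, Units.val_one,
        Matrix.mul_one]
  rw [← hN, ← Subgroup.card_mul_index ρ.ker, Subgroup.index_ker, mul_comm, mul_assoc]
  exact Nat.mul_dvd_mul h2 h3

end Cfsg.Agent.H813.SaxSp
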