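import Cfsg.Agent.H813.SaxSpT
import Cfsg.Agent.H813.SaxSpK
import Cfsg.Agent.GpSp.Row
import Cfsg.Agent.H938.Sax.Base
import Cfsg.Agent.S5790
import Cfsg.Agent.S5791
import Cfsg.Agent.S2126
import Cfsg.Agent.S1162
import Cfsg.Agent.S1163
import Cfsg.Agent.H489.OutClassical
import Cfsg.Agent.H957.SpIndex
import Cfsg.Agent.H883.Bridge

/-!
# Maximal subgroups of `Sp_4(q)`, `q` even, without order gap (helper813, for S2498, S2528)
-/

set_option autoImplicit false
set_option linter.unusedSectionVars false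

namespace Cfsg.Agent.H813.SaxSp

open Matrix Module Cfsg Cfsg.Geo Cfsg.Agent.H262.El Cfsg.Agent.H876 Cfsg.Agent.H931 Cfsg.Agent.ClassicalGeometry.SympBasic
open Cfsg.Agent.H938.Sax
open scoped MatrixGroups

variable {F : Type*} [Field F] [Fintype F] [CharP F 2]

local notation "I4" => (Fin 2 ⊕ Fin 2)

theorem scalar_eq_one {h : GL I4 F} (h1 : h ∈ scalars I4 F) (h2 : h ∈ spGL 2 F) : h = 1 := by
  obtain ⟨A, rfl⟩ := exists_spToGL h2
  have hA : A ∈ Subgroup.center (Matrix.symplecticGroup (Fin 2) F) := by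
    rw [Subgroup.mem_center_iff]
    intro B
    apply spToGL_injective
    rw [map_mul, map_mul]
    exact (scalar_comm h1 _).symm.eq
  rw [Cfsg.Agent.GpSp.Row.center_eq_bot, Subgroup.mem_bot] at hA
  rw [hA, map_one]

/-- **The residual class.** -/
theorem resid_false {f : ℕ} (hf : 2 ≤ f) (hF : Fintype.card F = 2 ^ f) {N : Subgroup (GL I4 F)}
    (hN : IsMaximalIn (spGL 2 F) N) (hS : InSymplecticResidualClass N)
    (hodd : ∀ v k : ℕ, v.Prime → v ≠ 2 → v ^ k ∣ (2 ^ f) ^ 4 - 1 → v ^ k ∣ Nat.card N) : False := by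
  have h4 : 4 ≤ Fintype.card F := by
    rw [hF]
    calc 4 = 2 ^ 2 := by norm_num
      _ ≤ 2 ^ f := Nat.pow_le_pow_right (by norm_num) hf
  have hev : ¬ Odd (Fintype.card F) := by
    rw [hF, Nat.not_odd_iff_even]
    exact Nat.even_pow.2 ⟨even_two, by omega⟩
  obtain ⟨P, m, hP, hm, hFm, ⟨e⟩⟩ := Cfsg.Agent.S5791.result hev h4 N hN hS
  have hfm : f = 2 * m + 1 := Nat.pow_right_injective le_rfl (hF.symm.trans hFm)
  have hPN := hP.le
  have hPS : P ≤ spGL 2 F := hPN.trans hN.1.le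
  have hbot : (scalars I4 F).subgroupOf P = ⊥ := by
    rw [Subgroup.eq_bot_iff_forall]
    intro x hx
    exact Subtype.ext (scalar_eq_one hx (hPS x.2))
  -- `P ≃ Sz`
  have e1 : P ≃* Cfsg.Lie.Sz F (2 ^ (m + 1)) :=
    ((QuotientGroup.quotientMulEquivOfEq hbot).trans QuotientGroup.quotientBot).symm.trans e
  have hnorm : (P.subgroupOf N).Normal := by
    constructor
    intro x hx g
    exact hP.normal g g.2 x hx
  have e2 : P.subgroupOf N ≃* Cfsg.Lie.Sz F (2 ^ (m + 1)) := (Subgroup.subgroupOfEquivOfLe hPN).trans e1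
  have hfin : Finite (Cfsg.Lie.Sz F (2 ^ (m + 1))) := Finite.of_equiv _ e1.toEquiv
  obtain ⟨g, hg⟩ : ∃ g : N →* MulAut (P.subgroupOf N), g = MulAut.conjNormal := ⟨_, rfl⟩
  have hinj : Function.Injective g := by
    rw [injective_iff_map_eq_one]
    intro h hh
    apply Subtype.ext
    refine scalar_eq_one (hP.centralizer_scalar h h.2 fun x hx => ?_) (hN.1.le h.2)
    have h1 : ((g h ⟨⟨x, hPN hx⟩, hx⟩ : P.subgroupOf N) : N) = ⟨x, hPN hx⟩ := by rw [hh]; rfl
    rw [hg] at h1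
    have h2 : (h : GL I4 F) * x * (h : GL I4 F)⁻¹ = x := congrArg Subtype.val h1
    rw [h2, mul_inv_cancel]
    exact Subgroup.one_mem _
  have hsimp : IsSimpleGroup (Cfsg.Lie.Sz F (2 ^ (m + 1))) := Cfsg.Agent.S1162.result hm hFm
  have hna : ¬ IsMulCommutative (Cfsg.Lie.Sz F (2 ^ (m + 1))) := by
    intro h
    apply hP.nonabelian
    refine ⟨⟨fun a b => ?_⟩⟩
    apply e.injective
    rw [map_mul, map_mul]
    exact h.is_comm.comm _ _
  have hcA : Nat.card (MulAut (Cfsg.Lie.Sz F (2 ^ (m + 1)))) = (2 * m + 1) * Nat.card (Cfsg.Lie.Sz F (2 ^ (m + 1))) := by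
    rw [← Cfsg.Agent.H489.card_out_mul (Cfsg.Agent.H489.center_eq_bot hna), Cfsg.Agent.S2126.result hm hFm]
  have hfinA : Finite (MulAut (Cfsg.Lie.Sz F (2 ^ (m + 1)))) := inferInstance
  have hcN : Nat.card N ∣ (2 * m + 1) * Nat.card (Cfsg.Lie.Sz F (2 ^ (m + 1))) := by
    rw [← hcA, ← Nat.card_congr (MulAut.congr e2).toEquiv]
    exact Subgroup.card_dvd_of_injective g hinj
  rw [(Cfsg.Agent.S1163.result hm hFm).1, ← hfm] at hcN
  -- arithmetic
  have hq : 1 < 2 ^ f := Nat.one_lt_pow (by omega) (by norm_num)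
  have hdiv : 2 ^ f + 1 ∣ f := by
    rw [Nat.dvd_iff_prime_pow_dvd_dvd]
    intro v k hv hd
    rcases Nat.eq_zero_or_pos k with rfl | hk
    · rw [pow_zero]; exact one_dvd _
    have hv1 : v ∣ 2 ^ f + 1 := (dvd_pow_self v hk.ne').trans hd
    have hv2 : v ≠ 2 := by
      rintro rfl
      have h1 : 2 ∣ 2 ^ f := dvd_pow_self 2 (by omega)
      omega
    have hcop : Nat.Coprime v 2 := (Nat.coprime_primes hv Nat.prime_two).2 hv2
    have h1 : ¬ v ∣ 2 ^ f - 1 := by
      intro h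
      have h2 := Nat.dvd_sub hv1 h
      have h3 : 2 ^ f + 1 - (2 ^ f - 1) = 2 := by omega
      rw [h3] at h2
      exact hv2 ((Nat.prime_dvd_prime_iff_eq hv Nat.prime_two).1 h2)
    have h2 : ¬ v ∣ (2 ^ f) ^ 2 + 1 := by
      intro h
      have h3 : (2 ^ f) ^ 2 + 1 = (2 ^ f + 1) * (2 ^ f - 1) + 2 := by
        obtain ⟨c, hc⟩ : ∃ c, 2 ^ f = c + 1 := ⟨_, (Nat.sub_add_cancel hq.le).symm⟩
        rw [hc, Nat.add_sub_cancel]
        ring
      rw [h3] at h
      have h5 := (Nat.dvd_add_right (Dvd.dvd.mul_right hv1 (2 ^ f - 1))).1 h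
      exact hv2 ((Nat.prime_dvd_prime_iff_eq hv Nat.prime_two).1 h5)
    have h3 : v ^ k ∣ (2 ^ f) ^ 4 - 1 := by
      have h5 : (2 ^ f) ^ 4 - 1 = (2 ^ f + 1) * ((2 ^ f - 1) * ((2 ^ f) ^ 2 + 1)) := by
        obtain ⟨c, hc⟩ : ∃ c, 2 ^ f = c + 1 := ⟨_, (Nat.sub_add_cancel hq.le).symm⟩
        rw [hc, Nat.add_sub_cancel]
        have : (c + 1) ^ 4 = (c + 1 + 1) * (c * ((c + 1) ^ 2 + 1)) + 1 := by ring
        rw [this, Nat.add_sub_cancel]
      rw [h5]
      exact Dvd.dvd.mul_right hd _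
    have h5 := (hodd v k hv hv2 h3).trans hcN
    have c1 : Nat.Coprime (v ^ k) ((2 ^ f) ^ 2 * (2 ^ f - 1) * ((2 ^ f) ^ 2 + 1)) := by
      apply Nat.Coprime.pow_left
      refine Nat.Coprime.mul_right (Nat.Coprime.mul_right ?_ ((Nat.Prime.coprime_iff_not_dvd hv).2 h1))
        ((Nat.Prime.coprime_iff_not_dvd hv).2 h2)
      exact (hcop.pow_right f).pow_right 2
    exact c1.dvd_of_dvd_mul_right h5
  have h1 := Nat.le_of_dvd (by omega) hdiv
  have h2 : f < 2 ^ f := Nat.lt_two_pow_self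
  omega

/-- a coatom of `Sp_4(q)` -/
theorem isMaximalIn_of_coatom {M : Subgroup (Matrix.symplecticGroup (Fin 2) F)} (hM : IsCoatom M) :
    IsMaximalIn (spGL 2 F) (M.map (spToGL 2 F)) := by
  have hle : M.map (spToGL 2 F) ≤ spGL 2 F := by
    rintro _ ⟨A, -, rfl⟩
    exact spToGL_mem A
  refine ⟨lt_of_le_of_ne hle fun h => ?_, fun L h1 h2 => ?_⟩
  · apply hM.1
    rw [eq_top_iff]
    intro A _
    have h1 : spToGL 2 F A ∈ M.map (spToGL 2 F) := by rw [h]; exact spToGL_mem A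
    obtain ⟨B, hB, hBA⟩ := h1
    rwa [← spToGL_injective hBA]
  · have hL : (L.comap (spToGL 2 F)).map (spToGL 2 F) = L := by
      rw [Subgroup.map_comap_eq, inf_eq_right]
      intro g hg
      obtain ⟨A, hA⟩ := exists_spToGL (h2 hg)
      exact ⟨A, hA⟩
    have h3 : M ≤ L.comap (spToGL 2 F) := Subgroup.map_le_iff_le_comap.1 h1
    rcases hM.le_iff.1 h3 with h | h
    · right
      rw [← hL, h]
      apply le_antisymm
      · rintro _ ⟨A, -, rfl⟩
        exact spToGL_mem A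
      · intro g hg
        obtain ⟨A, hA⟩ := exists_spToGL hg
        exact ⟨A, Subgroup.mem_top _, hA⟩
    · left
      rw [← hL, h]

/-- **The order of a maximal subgroup without order gap.** -/
theorem max_card {f : ℕ} (hf : 2 ≤ f) (hF : Fintype.card F = 2 ^ f)
    (M : Subgroup (Matrix.symplecticGroup (Fin 2) F)) (hM : IsCoatom M)
    (hOG : ¬ OrdGap (Matrix.symplecticGroup (Fin 2) F) M) :
    Nat.card M ∣ 2 * (2 ^ f) ^ 2 * ((2 ^ f) ^ 4 - 1) := by
  have hι : Fintype.card I4 = 4 := by simp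
  have h4 : 4 ≤ Fintype.card F := by
    rw [hF]
    calc 4 = 2 ^ 2 := by norm_num
      _ ≤ 2 ^ f := Nat.pow_le_pow_right (by norm_num) hf
  have hev : ¬ Odd (Fintype.card F) := by
    rw [hF, Nat.not_odd_iff_even]
    exact Nat.even_pow.2 ⟨even_two, by omega⟩
  have hmax := isMaximalIn_of_coatom hM
  obtain ⟨N, hN⟩ : ∃ N : Subgroup (GL I4 F), N = M.map (spToGL 2 F) := ⟨_, rfl⟩
  have hcN : Nat.card N = Nat.card M := by rw [hN, Subgroup.card_map_of_injective spToGL_injective]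
  rw [← hN] at hmax
  -- odd prime powers
  have hodd : ∀ v k : ℕ, v.Prime → v ≠ 2 → v ^ k ∣ (2 ^ f) ^ 4 - 1 → v ^ k ∣ Nat.card N := by
    intro v k hv hv2 hd
    obtain ⟨x, hx⟩ := exists_odd (F := F) hv hv2 (by rw [hF]; exact hd)
    rw [hcN, ← hx]
    exact dvd_card_of_not_ordGap hOG x
  -- an irreducible element
  obtain ⟨s, hs⟩ := Cfsg.Agent.H163.PG.Ppd.exists (p := 2) (n := f * 4) le_rfl (by omega) (by omega)
  have hod : Od (Fintype.card F) 4 s := by
    rw [hF]
    exact Od.of_ppd Nat.prime_two (by omega) (by norm_num) hs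
  have hs2 : s ≠ 2 := hs.ne_two (by omega)
  have hsd : s ∣ (2 ^ f) ^ 4 - 1 := by
    rw [← pow_mul, hs.dvd_iff (by norm_num)]
  have hsN : s ∣ Nat.card N := by
    have := hodd s 1 hs.prime hs2 (by rwa [pow_one])
    rwa [pow_one] at this
  have hsf := Fact.mk hs.prime
  obtain ⟨w, hw⟩ := exists_prime_orderOf_dvd_card' (G := N) s hsN
  obtain ⟨y, hyd⟩ : ∃ y : GL I4 F, y = (w : GL I4 F) := ⟨_, rfl⟩
  have hyN : y ∈ N := hyd ▸ w.2
  have hys : y ^ s = 1 := by
    rw [hyd, ← Subgroup.coe_pow, ← hw, pow_orderOf_eq_one]; rfl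
  have hy1 : y ≠ 1 := by
    intro h
    have h1 : w = 1 := Subtype.ext (by rw [← hyd, h]; rfl)
    rw [h1, orderOf_one] at hw
    exact hs.prime.one_lt.ne hw
  have hirr := fun W hW => irr_of_od (by rw [hι]; exact hod) hys hy1 W hW
  rw [← hcN]
  rcases Cfsg.Agent.S5790.result hev h4 N hmax with h | h | h | h | h | h
  · exfalso
    obtain ⟨W, hW0, hW, hNW⟩ := h
    rw [hNW] at hyN
    exact not_mem_subspaceStabilizer_of_irr hirr hW0 (totallySingular_ne_top (by norm_num) hW) hyN.1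
  · exfalso
    obtain ⟨D, hD', hND⟩ := h
    have hD := hD'.decomp
    rw [hND] at hyN
    have h1 := fixes_of_decomposition hD hyN.1 hs.prime (hs.two_lt (by omega)) hys 0
    rcases hirr _ h1 with h2 | h2
    · exact Cfsg.Agent.H918.decomp_ne_bot hD _ h2
    · have h3 := hD.finrank_eq 0
      rw [h2, finrank_top, Module.finrank_fintype_fun_eq_card, hι] at h3
      omega
  · obtain ⟨K, hK, hsa, halt, hNK⟩ := h
    have := card_field hK hsa halt
    rw [← hNK, hF] at this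
    exact this
  · exfalso
    obtain ⟨F₀, t, P, ζ, ht, hcard, -, -, hNF⟩ := h
    rw [hNF] at hyN
    apply hy1
    obtain ⟨f₀, hf₀1, hf₀, hfs⟩ : ∃ f₀ : ℕ, 1 ≤ f₀ ∧ Nat.card F₀ = 2 ^ f₀ ∧ f = f₀ * t := by
      have h1 : Nat.card F₀ ∣ 2 ^ f := by
        rw [← hF, hcard]
        exact dvd_pow_self _ ht.ne_zero
      obtain ⟨f₀, -, hf₀⟩ := (Nat.dvd_prime_pow Nat.prime_two).1 h1
      refine ⟨f₀, ?_, hf₀, ?_⟩
      · rcases Nat.eq_zero_or_pos f₀ with h0 | h0
        · exfalso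
          rw [h0, pow_zero] at hf₀
          rw [hf₀, one_pow] at hcard
          omega
        · exact h0
      · rw [hF, hf₀, ← pow_mul] at hcard
        exact Nat.pow_right_injective le_rfl hcard
    have ht2 := ht.two_le
    have hdvd : ∀ j, s ∣ 2 ^ j - 1 ↔ f * 4 ∣ j := hs.dvd_iff (by norm_num)
    refine eq_one_of_mem_subfieldSubgroup hyN.1 hs.prime hys ?_ ?_ ?_
    · intro h
      rw [hf₀] at h
      exact hs2 ((Nat.prime_dvd_prime_iff_eq hs.prime Nat.prime_two).1 (hs.prime.dvd_of_dvd_pow h))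
    · rw [hF, hdvd]
      intro h
      have := Nat.le_of_dvd (by omega) h
      omega
    · intro j hj1 hj2
      rw [hf₀, ← pow_mul, hdvd]
      intro h
      have h1 := Nat.le_of_dvd (Nat.mul_pos hf₀1 hj1) h
      rw [hι] at hj2
      have h2 : f₀ * j ≤ f₀ * 4 := Nat.mul_le_mul_left _ hj2
      have h3 : f₀ < f := by
        rw [hfs]
        nlinarith
      omega
  · obtain ⟨Q, hQ, hpol, hNQ⟩ := h
    obtain ⟨Q', hQ', hnd⟩ := Cfsg.Agent.H883.Bridge.exists_quadraticForm hQ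
    have hle : N ≤ isometryGroup F (⇑Q') := by
      rw [hNQ, hQ']
      rintro g ⟨⟨c, hc⟩, hg⟩
      have hc1 : (c : F) = 1 := by
        have hne : ∃ u v, sympForm 2 F u v ≠ 0 := by
          by_contra hcon
          push Not at hcon
          have hv0 : (Pi.single (Sum.inl 0) 1 : I4 → F) ≠ 0 := by
            intro h0
            have := congrFun h0 (Sum.inl 0)
            simp at this
          exact hv0 (eq_zero_of_forall_sympForm_left fun w => hcon w _)
        obtain ⟨u, v, huv⟩ := hne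
        have h1 : sympForm 2 F ((g : Matrix I4 I4 F) *ᵥ u) ((g : Matrix I4 I4 F) *ᵥ v) = (c : F) * sympForm 2 F u v := by
          rw [← hpol, ← hpol, QuadraticMap.polar, QuadraticMap.polar, ← Matrix.mulVec_add, hc, hc, hc]
          ring
        rw [mem_spGL_iff.1 hg] at h1
        have h2 : ((c : F) - 1) * sympForm 2 F u v = 0 := by linear_combination -h1
        exact sub_eq_zero.1 ((mul_eq_zero.1 h2).resolve_right huv)
      intro v _
      have h1 := hc v
      rw [hc1, one_mul] at h1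
      exact h1
    have hdv : Nat.card N ∣ Nat.card (isometryGroup F (⇑Q')) := Subgroup.card_dvd_of_le hle
    by_cases hP : Cfsg.Agent.H955.IsPlus Q'
    · exfalso
      rw [Cfsg.Agent.H957.card_isometryGroup_plus Q' hnd (m := 2) (by norm_num) hι hP, hF] at hdv
      have h1 := hsN.trans hdv
      simp only [Nat.reduceMul, Nat.reduceSub, Finset.range_one, Finset.prod_singleton, zero_add, mul_one] at h1
      have hs4 : ¬ s ∣ (2 ^ f) ^ 2 - 1 := by
        rw [← pow_mul, hs.dvd_iff (by norm_num)]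
        intro h
        have := Nat.le_of_dvd (by omega) h
        omega
      have hs22 : ¬ s ∣ 2 := fun h => hs2 ((Nat.prime_dvd_prime_iff_eq hs.prime Nat.prime_two).1 h)
      rcases hs.prime.dvd_mul.1 h1 with h1 | h1
      · rcases hs.prime.dvd_mul.1 h1 with h1 | h1
        · rcases hs.prime.dvd_mul.1 h1 with h1 | h1
          · exact hs22 h1
          · exact hs22 (hs.prime.dvd_of_dvd_pow (hs.prime.dvd_of_dvd_pow h1))
        · exact hs4 h1
      · exact hs4 h1
    · rw [Cfsg.Agent.H957.card_isometryGroup_minus Q' hnd (m := 2) (by norm_num) hι hP, hF] at hdv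
      refine hdv.trans (dvd_of_eq ?_)
      have hq : 1 < (2 ^ f) ^ 2 := Nat.one_lt_pow (by norm_num) (Nat.one_lt_pow (by omega) (by norm_num))
      simp only [Nat.reduceMul, Nat.reduceSub, Finset.range_one, Finset.prod_singleton, zero_add, mul_one]
      obtain ⟨c, hc⟩ : ∃ c, (2 ^ f) ^ 2 = c + 1 := ⟨_, (Nat.sub_add_cancel hq.le).symm⟩
      rw [show (2 ^ f) ^ 4 = ((2 ^ f) ^ 2) ^ 2 by ring, hc, Nat.add_sub_cancel]
      have : (c + 1) ^ 2 - 1 = (c + 1 + 1) * c := by
        have : (c + 1) ^ 2 = (c + 1 + 1) * c + 1 := by ring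
        rw [this, Nat.add_sub_cancel]
      rw [this]
      ring
  · exfalso
    exact resid_false hf hF hmax h hodd

end Cfsg.Agent.H813.SaxSp
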