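import Cfsg.Agent.CoOneNWC.Bridge
import Cfsg.Agent.LargeExtra.Nine.ToCent
import Cfsg.Agent.SignalizersComponents.FStarPCore

/-!
# Recognising `C_G(z) / Q ≅ Ω⁺(8, 2)` from coordinates (helper813)

`Q` large extraspecial of order `2 ^ 9` for `z`, `L` coordinates of `Q / ⟨z⟩` in which the squaring form is the
hyperbolic form, `C_G(z)` perfect of order at least `|2^(1+8).Ω⁺(8,2)|`. Then `C_G(z) / Q ≅ Ω⁺(8, 2)` and
`F*(C_G(z)) = Q`.
-/

set_option autoImplicit false

namespace Cfsg.Agent.H813.OmegaCent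

open Cfsg Cfsg.Agent.Co2Type.Quad Cfsg.Agent.CoOneNWC Cfsg.Agent.CoOneNWC.OmFacts
open Cfsg.Agent.ClassicalGeometry.OrthCharTwo Cfsg.Agent.ClassicalGeometry.OrthDickson
open Cfsg.Agent.LieClassical.OmegaReindex
open Cfsg.Agent.LargeExtra.Nine.ToCent

variable {G : Type*} [Group G] [Finite G] {Q : Subgroup G} {z : G}

theorem ker_toIso (h : Large Q z) (L : h.V ≃ₗ[ZMod 2] Wsp)
    (hL : ∀ v, h.q v = Cfsg.quadFormPlus 4 (ZMod 2) (L v)) :
    (toIso h L hL).ker = Q.subgroupOf (Subgroup.centralizer ({z} : Set G)) := by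
  ext c
  rw [MonoidHom.mem_ker, Subgroup.mem_subgroupOf]
  constructor
  · intro h0
    have hfin : Finite Q := inferInstance
    apply h.mem_of_act c
    apply LinearEquiv.ext
    intro v
    have h2 := act_toIso h L hL c (L v)
    rw [h0, act_one, LinearEquiv.symm_apply_apply] at h2
    exact (L.injective h2).symm
  · intro h0
    apply act_ext
    intro w
    rw [act_toIso, h.act_mem _ h0, act_one]
    exact L.apply_symm_apply w

theorem range_toIso (h : Large Q z) (L : h.V ≃ₗ[ZMod 2] Wsp)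
    (hL : ∀ v, h.q v = Cfsg.quadFormPlus 4 (ZMod 2) (L v))
    (hp : commutator (Subgroup.centralizer ({z} : Set G)) = ⊤)
    (hQ : Nat.card Q = 2 ^ 9) (hC : 89181388800 ≤ Nat.card (Subgroup.centralizer ({z} : Set G))) :
    (toIso h L hL).range = commutator (Cfsg.isometryGroup (ZMod 2) (⇑Qp)) := by
  have h0 : (toIso h L hL).range ≤ commutator (Cfsg.isometryGroup (ZMod 2) (⇑Qp)) := by
    rw [MonoidHom.range_eq_map, ← hp, commutator_def, Subgroup.map_commutator]
    exact Subgroup.commutator_mono le_top le_top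
  have hker : Nat.card (toIso h L hL).ker = 2 ^ 9 := by
    rw [ker_toIso h L hL, ← hQ]
    exact Nat.card_congr (Subgroup.subgroupOfEquivOfLe (le_cent h)).toEquiv
  have hcard : 174182400 ≤ Nat.card (toIso h L hL).range := by
    have h1 := Subgroup.card_eq_card_quotient_mul_card_subgroup (toIso h L hL).ker
    have h2 : Nat.card (Subgroup.centralizer ({z} : Set G) ⧸ (toIso h L hL).ker) =
        Nat.card (toIso h L hL).range :=
      Nat.card_congr (QuotientGroup.quotientKerEquivRange _).toEquiv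
    rw [hker, h2] at h1
    rw [h1] at hC
    omega
  have hfin : Finite (commutator (Cfsg.isometryGroup (ZMod 2) (⇑Qp))) := by
    rw [coe_quadPlus]
    exact (inferInstance : Finite Om8)
  have hc2 : Nat.card (commutator (Cfsg.isometryGroup (ZMod 2) (⇑Qp))) = 174182400 := by
    rw [← card_om8]
    rw [coe_quadPlus]
  exact Subgroup.eq_of_le_of_card_ge h0 (by rw [hc2]; exact hcard)

/-- **`C_G(z) / Q ≅ Ω⁺(8, 2)`.** -/
theorem nonempty_equiv (h : Large Q z) (L : h.V ≃ₗ[ZMod 2] Wsp)
    (hL : ∀ v, h.q v = Cfsg.quadFormPlus 4 (ZMod 2) (L v))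
    (hp : commutator (Subgroup.centralizer ({z} : Set G)) = ⊤)
    (hQ : Nat.card Q = 2 ^ 9) (hC : 89181388800 ≤ Nat.card (Subgroup.centralizer ({z} : Set G)))
    [(Q.subgroupOf (Subgroup.centralizer ({z} : Set G))).Normal] :
    Nonempty ((Subgroup.centralizer ({z} : Set G)) ⧸ Q.subgroupOf (Subgroup.centralizer ({z} : Set G)) ≃*
      Cfsg.Omega (ZMod 2) (Cfsg.quadFormPlus 4 (ZMod 2))) := by
  have h1 : (Subgroup.centralizer ({z} : Set G)) ⧸ Q.subgroupOf (Subgroup.centralizer ({z} : Set G)) ≃*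
      (toIso h L hL).range :=
    (QuotientGroup.quotientMulEquivOfEq (ker_toIso h L hL).symm).trans
      (QuotientGroup.quotientKerEquivRange _)
  have h2 : Nonempty ((toIso h L hL).range ≃*
      Cfsg.Omega (ZMod 2) (Cfsg.quadFormPlus 4 (ZMod 2))) := by
    rw [range_toIso h L hL hp hQ hC, coe_quadPlus]
    exact ⟨MulEquiv.refl _⟩
  obtain ⟨e⟩ := h2
  exact ⟨h1.trans e⟩

/-- `F*(C_G(z)) = Q` if `C_G(z) / Q` is isomorphic to `Ω⁺(8, 2)`. -/
theorem genFit (h : Large Q z) [hn : (Q.subgroupOf (Subgroup.centralizer ({z} : Set G))).Normal]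
    (e : (Subgroup.centralizer ({z} : Set G)) ⧸ Q.subgroupOf (Subgroup.centralizer ({z} : Set G)) ≃*
      Cfsg.Omega (ZMod 2) (Cfsg.quadFormPlus 4 (ZMod 2))) :
    Cfsg.generalizedFittingSubgroup (Subgroup.centralizer ({z} : Set G)) =
      Q.subgroupOf (Subgroup.centralizer ({z} : Set G)) := by
  have : Fact (Nat.Prime 2) := ⟨Nat.prime_two⟩
  have hp : IsPGroup 2 ↥(Q.subgroupOf (Subgroup.centralizer ({z} : Set G))) :=
    (Cfsg.Agent.LargeExtra.Base.isPGroup h).of_equiv
      (Subgroup.subgroupOfEquivOfLe (le_cent h)).symm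
  rw [SignalizersComponents.FStarPCore.generalizedFitting_eq_pCore_of_centralizer_le (normal h) hp
    (centralizer_le h)]
  apply le_antisymm
  · -- the image of the 2-core in the simple quotient is trivial
    set C := Subgroup.centralizer ({z} : Set G) with hCdef
    let π : C →* Om8 := e.toMonoidHom.comp (QuotientGroup.mk' (Q.subgroupOf C))
    have hπs : Function.Surjective π := e.surjective.comp (QuotientGroup.mk'_surjective _)
    have hker : ∀ c : C, π c = 1 → c ∈ Q.subgroupOf C := by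
      intro c hc
      have h1 : e (QuotientGroup.mk c) = 1 := hc
      rw [map_eq_one_iff _ e.injective, QuotientGroup.eq_one_iff] at h1
      exact h1
    have hO : IsPGroup 2 (pCore 2 C) := Cfsg.Agent.Lib.Cores.pCore_isPGroup 2
    have hOn : (pCore 2 C).Normal := inferInstance
    have hn2 : ((pCore 2 C).map π).Normal := hOn.map π hπs
    have hs := simple_om8
    rcases hn2.eq_bot_or_eq_top with h1 | h1
    · intro c hc
      apply hker
      have h2 : π c ∈ (pCore 2 C).map π := ⟨c, hc, rfl⟩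
      rw [h1, Subgroup.mem_bot] at h2
      exact h2
    · exfalso
      have h2 : IsPGroup 2 ((pCore 2 C).map π) := hO.map π
      rw [h1] at h2
      have h3 : IsPGroup 2 Om8 := h2.of_equiv Subgroup.topEquiv
      obtain ⟨k, hk⟩ := IsPGroup.iff_card.mp h3
      rw [card_om8] at hk
      have h5 : 3 ∣ 2 ^ k := by rw [← hk]; norm_num
      have h6 := (Nat.Prime.dvd_of_dvd_pow Nat.prime_three h5)
      omega
  · exact Cfsg.Agent.Lib.Cores.le_pCore (normal h) hp

end Cfsg.Agent.H813.OmegaCent
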