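import Cfsg.Agent.LThreeCo1Suz.Main
import Cfsg.Agent.S1694

/-!
# `C(s) / ⟨s⟩` (`s` of order 3 in `Co1`, fixed point free on the lattice) is of Suzuki type (helper813)

`type_of` : a simple group `X` with a large extraspecial subgroup `Q` of order `2 ^ 7`, irreducible, with a fused
involution, and of order divisible by 13, satisfies the hypothesis of S1719: `C(z)/Q ≅ Ω⁻(6, 2)`, `F*(C(z)) = Q`.
`simple_X`, `hyp_X` : the group `X = C(s)/⟨s⟩`.
-/

set_option autoImplicit false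

namespace Cfsg.Agent.H813.SuzQuot

open Cfsg Cfsg.Agent.LThreeCo1.FourCo1 Cfsg.Agent.LThreeCo1.Quo Cfsg.Agent.LThreeCo1.GL
open Cfsg.Agent.LargeExtra
open Cfsg.Agent.LThreeCo1Suz.Main
open Cfsg.Spor (Co1)
open Subgroup

/-- `C(z) / F*(C(z))` is `Ω⁻(6, 2)`. -/
theorem quot_of {G : Type*} [Group G] [Finite G] [IsSimpleGroup G] (hG : ¬ IsMulCommutative G) (z : G)
    (hz : orderOf z = 2)
    (hE : IsExtraspecial 2 ↥(generalizedFittingSubgroup ↥(centralizer ({z} : Set G))))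
    (hcard : Nat.card ↥(generalizedFittingSubgroup ↥(centralizer ({z} : Set G))) = 2 ^ 7)
    (h13 : 13 ∣ Nat.card G) (Q' : Subgroup (Subgroup.centralizer ({z} : Set G))) [hn : Q'.Normal]
    (hQ' : generalizedFittingSubgroup ↥(centralizer ({z} : Set G)) = Q') :
    (∃ g : G, (∃ hq : g * z * g⁻¹ ∈ Subgroup.centralizer ({z} : Set G),
        (⟨g * z * g⁻¹, hq⟩ : Subgroup.centralizer ({z} : Set G)) ∈ Q') ∧ g * z * g⁻¹ ≠ z) ∧
    Nonempty ((Subgroup.centralizer ({z} : Set G)) ⧸ Q' ≃*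
        Cfsg.Omega (ZMod 2) (Cfsg.quadFormMinus 2 (ZMod 2) 1 1)) := by
  classical
  have hcc := Cfsg.Agent.S1313.centralizer_le (Subgroup.centralizer ({z} : Set G))
  rcases AsmSeven.reduce hG z hz hE hcard with ⟨F, _, _, hF, ⟨f⟩⟩ | ⟨hnwc, h⟩
  · exact absurd (by rw [← Nat.card_congr f.toEquiv]; exact h13) (not_psu hF)
  · rw [hQ'] at hcc hE hcard hnwc
    refine ⟨hnwc, ?_⟩
    rcases h Q' hQ' with h1 | ⟨⟨e⟩⟩
    · exact h1
    · exfalso
      obtain ⟨s, hs⟩ : ∃ s : Matrix.SpecialLinearGroup (Fin 5) (ZMod 2),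
          (s : Matrix (Fin 5) (Fin 5) (ZMod 2)) = Matrix.transvection 0 1 1 :=
        ⟨⟨Matrix.transvection 0 1 1, Matrix.det_transvection_of_ne _ _ (by decide) _⟩, rfl⟩
      have hna : ∃ a b : G, a * b ≠ b * a := by
        by_contra hcon
        push Not at hcon
        exact hG ⟨⟨hcon⟩⟩
      obtain ⟨e'⟩ := Held.ExtFinal.equiv_of_simple hna z hz Q' hE hcard hcc e s hs
      have hQp : Q' ≤ Cfsg.pCore 2 (Subgroup.centralizer ({z} : Set G)) := by
        have h2 : IsPGroup 2 Q' := IsPGroup.of_card hcard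
        exact le_sSup ⟨hn, h2⟩
      obtain ⟨g, ⟨hq, hg⟩, hgz⟩ := hnwc
      rcases Held.HeldTri.tetra_simple (Cfsg.Agent.S1716.result s hs z hz e' ⟨g, ⟨hq, hQp hg⟩, hgz⟩) with
        h1 | h1 | h1
      · obtain ⟨F, _, _, hF, ⟨f⟩⟩ := AsmSeven.psl_of_sl h1
        exact absurd (by rw [← Nat.card_congr f.toEquiv]; exact h13) (not_psl hF)
      · obtain ⟨f⟩ := id h1
        exact absurd (by rw [← Nat.card_congr f.toEquiv]; exact h13) not_m24
      · obtain ⟨f⟩ := id h1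
        exact absurd (by rw [← Nat.card_congr f.toEquiv]; exact h13) not_he

/-- the group `C(s) / ⟨s⟩` -/
abbrev XS : Type := ↥(centralizer ({X 0} : Set Co1)) ⧸ EE

theorem simple_X : IsSimpleGroup XS := by
  obtain ⟨f⟩ := isoSuz_X
  have : IsSimpleGroup Cfsg.Spor.Suz := Cfsg.Agent.S1694.result.1
  exact f.isSimpleGroup

theorem card_X : Nat.card XS = 448345497600 := by
  obtain ⟨f⟩ := isoSuz_X
  rw [Nat.card_congr f.toEquiv]
  exact Cfsg.Agent.S1694.result.2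

theorem not_comm_X : ¬ IsMulCommutative XS := by
  intro hc
  have := simple_X
  let _ : CommGroup XS := { (inferInstance : Group XS) with mul_comm := hc.is_comm.comm }
  have h1 : (Nat.card XS).Prime := IsSimpleGroup.prime_card
  rw [card_X] at h1
  exact absurd h1 (by norm_num)

/-- **`C(s)/⟨s⟩` is of Suzuki type.** -/
theorem type_X : ∃ z : XS, orderOf z = 2 ∧ ∃ (Q : Subgroup (Subgroup.centralizer ({z} : Set XS))) (_ : Q.Normal),
    Cfsg.generalizedFittingSubgroup (Subgroup.centralizer ({z} : Set XS)) = Q ∧ Cfsg.IsExtraspecial 2 Q ∧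
    Nat.card Q = 2 ^ 7 ∧
    Nonempty ((Subgroup.centralizer ({z} : Set XS)) ⧸ Q ≃*
      Cfsg.Omega (ZMod 2) (Cfsg.quadFormMinus 2 (ZMod 2) 1 1)) ∧
    ∃ g : XS, (∃ hq : g * z * g⁻¹ ∈ Subgroup.centralizer ({z} : Set XS),
      (⟨g * z * g⁻¹, hq⟩ : Subgroup.centralizer ({z} : Set XS)) ∈ Q) ∧ g * z * g⁻¹ ≠ z := by
  have H := pre_one.hyp
  have hs := simple_X
  have hcard := H.card_genFit
  rw [pre_one.card_map] at hcard
  have hcard' := hcard.trans card_one
  obtain ⟨Q', hQ'⟩ : ∃ Q', Cfsg.generalizedFittingSubgroup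
      ↥(Subgroup.centralizer ({(QuotientGroup.mk' EE ⟨zz, zz_mem_one⟩ : XS)} : Set XS)) = Q' := ⟨_, rfl⟩
  have hn : Q'.Normal := by rw [← hQ']; exact Cfsg.Agent.S1755.gfs_normal _
  have h13 : 13 ∣ Nat.card XS := by rw [card_X]; norm_num
  obtain ⟨h1, h2⟩ := quot_of not_comm_X _ H.orderOf_z H.extra hcard' h13 Q' hQ'
  have hE := H.extra
  rw [hQ'] at hE hcard'
  exact ⟨_, H.orderOf_z, Q', hn, hQ', hE, hcard', h2, h1⟩

end Cfsg.Agent.H813.SuzQuot
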