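import Cfsg.Agent.H813.OctQuad

/-!
# The commutators of the sign change on an octad form a hyperbolic space of dimension eight
-/

set_option autoImplicit false

namespace Cfsg.Agent.H813.OctHyp

open Cfsg
open Cfsg.Agent.SporadicStructure.Co0Base (e8 e8_coe)
open Cfsg.Agent.CoOneType.SignFacts
open Cfsg.Agent.MonsterU.Lam2
open Cfsg.Agent.MonsterU.CoFrame
open Cfsg.Agent.MonsterU.CoFrameAct
open Cfsg.Agent.MonsterU.CoFrameL2
open Cfsg.Agent.H848.Oct
open Cfsg.Agent.H813.OctLat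
open Cfsg.Agent.H813.OctQuad
open Cfsg.Spor (Co1)

theorem comb_mem (x y : Fin 4 → ZMod 2) : comb x y ∈ LL := by
  have h : comb x y = ∑ k, (x k).val • bA k + ∑ k, (y k).val • bB k := by
    funext i
    rw [comb, Pi.add_apply, Finset.sum_apply, Finset.sum_apply]
    simp
  rw [h]
  exact LL.add_mem (LL.sum_mem fun k _ => LL.nsmul_mem (bA_mem k) _) (LL.sum_mem fun k _ => LL.nsmul_mem (bB_mem k) _)

/-- the combinations, as elements of the lattice -/
def cmb (v : Fin 4 ⊕ Fin 4 → ZMod 2) : LL := ⟨comb (v ∘ Sum.inl) (v ∘ Sum.inr), comb_mem _ _⟩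

theorem val_add : ∀ a b : ZMod 2, ∃ t : ℤ, ((a + b).val : ℤ) = a.val + b.val - 2 * t := by
  intro a b
  have h : ∀ a b : ZMod 2, (a + b).val = a.val + b.val ∨ (a + b).val + 2 = a.val + b.val := by decide
  rcases h a b with h | h
  · exact ⟨0, by rw [h]; push_cast; ring⟩
  · exact ⟨1, by have : ((a + b).val : ℤ) + 2 = a.val + b.val := by exact_mod_cast h
                 linarith⟩

theorem cmb_add (v w : Fin 4 ⊕ Fin 4 → ZMod 2) : ∃ t : LL, cmb (v + w) = cmb v + cmb w - 2 • t := by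
  choose s hs using fun k => val_add (v k) (w k)
  have hmem : (fun i => ∑ k, s (Sum.inl k) * bA k i + ∑ k, s (Sum.inr k) * bB k i) ∈ LL := by
    have h : (fun i => ∑ k, s (Sum.inl k) * bA k i + ∑ k, s (Sum.inr k) * bB k i) =
        ∑ k, s (Sum.inl k) • bA k + ∑ k, s (Sum.inr k) • bB k := by
      funext i
      rw [Pi.add_apply, Finset.sum_apply, Finset.sum_apply]
      simp
    rw [h]
    exact LL.add_mem (LL.sum_mem fun k _ => LL.zsmul_mem (bA_mem k) _) (LL.sum_mem fun k _ => LL.zsmul_mem (bB_mem k) _)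
  refine ⟨⟨_, hmem⟩, ?_⟩
  apply Subtype.ext
  funext i
  rw [two_nsmul]
  show comb _ _ i = comb _ _ i + comb _ _ i - (_ + _)
  simp only [comb, Function.comp_apply, Pi.add_apply, hs]
  have h1 : ∀ k : Fin 4, ((v (Sum.inl k)).val + (w (Sum.inl k)).val - 2 * s (Sum.inl k) : ℤ) * bA k i =
      (v (Sum.inl k)).val * bA k i + (w (Sum.inl k)).val * bA k i - 2 * (s (Sum.inl k) * bA k i) := fun k => by ring
  have h2 : ∀ k : Fin 4, ((v (Sum.inr k)).val + (w (Sum.inr k)).val - 2 * s (Sum.inr k) : ℤ) * bB k i =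
      (v (Sum.inr k)).val * bB k i + (w (Sum.inr k)).val * bB k i - 2 * (s (Sum.inr k) * bB k i) := fun k => by ring
  rw [Finset.sum_congr rfl fun k _ => h1 k, Finset.sum_congr rfl fun k _ => h2 k, Finset.sum_sub_distrib,
    Finset.sum_sub_distrib, Finset.sum_add_distrib, Finset.sum_add_distrib, ← Finset.mul_sum, ← Finset.mul_sum]
  ring

/-- the map onto the commutators -/
noncomputable def phi {o : golayCode} (ho : wt o = 8) (e : Fin 8 ≃ {p // p ∈ sup o}) :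
    (Fin 4 ⊕ Fin 4 → ZMod 2) →+ W8 o :=
  AddMonoidHom.mk' (fun v => ⟨cl (emb e (cmb v)), (mem_W8_iff ho e).2 ⟨_, rfl⟩⟩) (by
    intro v w
    apply Subtype.ext
    show cl (emb e (cmb (v + w))) = cl (emb e (cmb v)) + cl (emb e (cmb w))
    obtain ⟨t, ht⟩ := cmb_add v w
    rw [ht, map_sub, map_sub, map_nsmul, cl_two, sub_zero, map_add, map_add])

theorem phi_coe {o : golayCode} (ho : wt o = 8) (e : Fin 8 ≃ {p // p ∈ sup o}) (v : Fin 4 ⊕ Fin 4 → ZMod 2) :
    (phi ho e v : L2) = cl (emb e (cmb v)) := rfl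

theorem val_eq_zero : ∀ a : ZMod 2, (8 : ℤ) ∣ 4 * (a.val : ℤ) → a = 0 := by decide

theorem phi_injective {o : golayCode} (ho : wt o = 8) (e : Fin 8 ≃ {p // p ∈ sup o}) :
    Function.Injective (phi ho e) := by
  rw [injective_iff_map_eq_zero]
  intro v hv
  have h1 : cl (emb e (cmb v)) = 0 := congrArg Subtype.val hv
  obtain ⟨g, hg⟩ := (cl_emb_eq_zero e ho).1 h1
  have hg' : ∀ i, comb (v ∘ Sum.inl) (v ∘ Sum.inr) i = 2 * g.1 i := by
    intro i
    have h2 : (cmb v).1 i = (2 • g : LL).1 i := by rw [hg]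
    rw [two_nsmul] at h2
    have h3 : (cmb v).1 i = g.1 i + g.1 i := h2
    rw [two_mul]; exact h3
  have h4 : ∀ b ∈ LL, (8 : ℤ) ∣ ∑ i, comb (v ∘ Sum.inl) (v ∘ Sum.inr) i * b i := by
    intro b hb
    obtain ⟨t, ht⟩ := four_dvd_dot g.2 hb
    refine ⟨t, ?_⟩
    have h5 : ∑ i, comb (v ∘ Sum.inl) (v ∘ Sum.inr) i * b i = 2 * ∑ i, g.1 i * b i := by
      rw [Finset.mul_sum]
      exact Finset.sum_congr rfl fun i _ => by rw [hg' i]; ring
    rw [h5, ht]; ring
  funext k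
  rcases k with k | k
  · apply val_eq_zero
    have h5 := comb_B (v ∘ Sum.inl) (v ∘ Sum.inr) k
    have h6 := h4 _ (bB_mem k)
    exact (dvd_sub_right h6).1 h5
  · apply val_eq_zero
    have h5 := comb_A (v ∘ Sum.inl) (v ∘ Sum.inr) k
    have h6 := h4 _ (bA_mem k)
    exact (dvd_sub_right h6).1 h5

theorem exists_val {a : ℤ} (h : (4 : ℤ) ∣ a) : ∃ x : ZMod 2, (8 : ℤ) ∣ a - 4 * (x.val : ℤ) := by
  by_cases h8 : (8 : ℤ) ∣ a
  · exact ⟨0, by simpa using h8⟩
  · refine ⟨1, ?_⟩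
    have : ((1 : ZMod 2).val : ℤ) = 1 := by decide
    rw [this]
    omega

theorem phi_surjective {o : golayCode} (ho : wt o = 8) (e : Fin 8 ≃ {p // p ∈ sup o}) :
    Function.Surjective (phi ho e) := by
  rintro ⟨x, hx⟩
  obtain ⟨f, rfl⟩ := (mem_W8_iff ho e).1 hx
  choose x hx using fun k => exists_val (four_dvd_dot f.2 (bB_mem k))
  choose y hy using fun k => exists_val (four_dvd_dot f.2 (bA_mem k))
  have hmem : (fun i => f.1 i - comb x y i) ∈ LL := LL.sub_mem f.2 (comb_mem x y)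
  have hA : ∀ k, (8 : ℤ) ∣ ∑ i, (f.1 i - comb x y i) * bA k i := by
    intro k
    have h1 : ∑ i, (f.1 i - comb x y i) * bA k i =
        (∑ i, f.1 i * bA k i - 4 * ((y k).val : ℤ)) - (∑ i, comb x y i * bA k i - 4 * ((y k).val : ℤ)) := by
      simp only [sub_mul, Finset.sum_sub_distrib]; ring
    rw [h1]
    exact dvd_sub (hy k) (comb_A x y k)
  have hB : ∀ k, (8 : ℤ) ∣ ∑ i, (f.1 i - comb x y i) * bB k i := by
    intro k
    have h1 : ∑ i, (f.1 i - comb x y i) * bB k i =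
        (∑ i, f.1 i * bB k i - 4 * ((x k).val : ℤ)) - (∑ i, comb x y i * bB k i - 4 * ((x k).val : ℤ)) := by
      simp only [sub_mul, Finset.sum_sub_distrib]; ring
    rw [h1]
    exact dvd_sub (hx k) (comb_B x y k)
  obtain ⟨h, hh, hh2⟩ := half_of_orth hmem hA hB
  refine ⟨Sum.elim x y, ?_⟩
  apply Subtype.ext
  show cl (emb e (cmb (Sum.elim x y))) = cl (emb e f)
  have h3 : f = cmb (Sum.elim x y) + 2 • (⟨h, hh⟩ : LL) := by
    apply Subtype.ext
    funext i
    rw [two_nsmul]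
    show f.1 i = comb x y i + (h i + h i)
    have := hh2 i
    linarith
  rw [h3, map_add, map_add, map_nsmul, cl_two, add_zero]

/-- **The form is hyperbolic.** -/
theorem exists_hyp8 {o : golayCode} (ho : wt o = 8) :
    ∃ b : (Fin 4 ⊕ Fin 4 → ZMod 2) ≃+ W8 o, ∀ v, q8 (b v : L2) = quadFormPlus 4 (ZMod 2) v := by
  obtain ⟨e⟩ := exists_enum ho
  refine ⟨AddEquiv.ofBijective (phi ho e) ⟨phi_injective ho e, phi_surjective ho e⟩, fun v => ?_⟩
  show q8 (cl (emb e (cmb v))) = _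
  rw [q8_cl_emb]
  exact comb_norm _ _

/-! ### the frame -/

theorem f0_eq {o : golayCode} (e : Fin 8 ≃ {p // p ∈ sup o}) : f0 = cl (emb e ⟨bA 0, bA_mem 0⟩) := by
  have h : e8 (e 0 : GolayPt) = emb e ⟨bA 0, bA_mem 0⟩ := by
    apply Subtype.ext
    funext p
    rw [coe_e8]
    by_cases hp : p ∈ sup o
    · obtain ⟨i, hi⟩ := e.surjective ⟨p, hp⟩
      have hp' : (e i : GolayPt) = p := congrArg Subtype.val hi
      rw [← hp', emb_apply]
      by_cases h0 : i = 0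
      · rw [h0, if_pos rfl]; rfl
      · rw [if_neg (fun hc => h0 (e.injective (Subtype.ext hc)))]
        have key : ∀ j : Fin 8, j ≠ 0 → 0 = 2 * bA 0 j := by decide
        exact key i h0
    · rw [emb_out e _ hp, if_neg]
      rintro rfl
      exact hp (e 0).2
  rw [f0, ← h]
  exact (cong_iff_cl _ _).1 (cong_e8 _ _)

theorem f0_mem_W8 {o : golayCode} (ho : wt o = 8) : f0 ∈ W8 o := by
  obtain ⟨e⟩ := exists_enum ho
  rw [f0_eq e, mem_W8_iff ho e]
  exact ⟨_, rfl⟩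

theorem q8_add_f0 {o : golayCode} (e : Fin 8 ≃ {p // p ∈ sup o}) (f : LL) :
    q8 (cl (emb e f) + f0) = q8 (cl (emb e f)) + ((f.1 0 : ℤ) : ZMod 2) := by
  rw [f0_eq e, ← map_add, ← map_add, q8_cl_emb, q8_cl_emb]
  obtain ⟨a, ha⟩ := eight_dvd_norm f.2
  have h1 : ∑ i, (f + ⟨bA 0, bA_mem 0⟩ : LL).1 i ^ 2 = 8 * (a + f.1 0 + 2) := by
    have h2 : ∀ i, (f + ⟨bA 0, bA_mem 0⟩ : LL).1 i ^ 2 = f.1 i ^ 2 + 2 * (f.1 i * bA 0 i) + bA 0 i ^ 2 := by
      intro i
      show (f.1 i + bA 0 i) ^ 2 = _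
      ring
    rw [Finset.sum_congr rfl fun i _ => h2 i, Finset.sum_add_distrib, Finset.sum_add_distrib, ha, ← Finset.mul_sum]
    have h3 : ∑ i, f.1 i * bA 0 i = 4 * f.1 0 := by
      rw [Fin.sum_univ_eight]
      simp [bA]; ring
    have h4 : ∑ i, bA 0 i ^ 2 = 16 := by decide
    rw [h3, h4]; ring
  rw [qL_eq h1, qL_eq ha]
  have h5 : ((2 : ℤ) : ZMod 2) = 0 := by decide
  rw [Int.cast_add, Int.cast_add, h5, add_zero]

theorem emb_mem_V12_iff {o : golayCode} (ho : wt o = 8) (e : Fin 8 ≃ {p // p ∈ sup o}) (f : LL) :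
    emb e f ∈ V12 ↔ (2 : ℤ) ∣ f.1 0 := by
  constructor
  · intro h
    obtain ⟨p, hp⟩ : ∃ p, p ∉ sup o := by
      by_contra hc
      push Not at hc
      have h1 : sup o = Finset.univ := Finset.eq_univ_iff_forall.2 hc
      rw [wt, h1] at ho
      revert ho
      decide
    have h1 := h.2 (e 0) p
    rw [emb_apply, emb_out e f hp] at h1
    omega
  · intro h
    apply four_mem_V12
    intro p
    by_cases hp : p ∈ sup o
    · obtain ⟨i, hi⟩ := e.surjective ⟨p, hp⟩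
      have hp' : (e i : GolayPt) = p := congrArg Subtype.val hi
      rw [← hp', emb_apply]
      have := f.2.1 i
      omega
    · rw [emb_out e f hp]
      exact dvd_zero _

/-- **The frame.** -/
theorem mem_W12_iff_q8 {o : golayCode} (ho : wt o = 8) {x : L2} (hx : x ∈ W8 o) :
    x ∈ W12 ↔ q8 (x + f0) = q8 x := by
  obtain ⟨e⟩ := exists_enum ho
  obtain ⟨f, rfl⟩ := (mem_W8_iff ho e).1 hx
  rw [cl_mem_W12, emb_mem_V12_iff ho e, q8_add_f0, add_eq_left, ZMod.intCast_zmod_eq_zero_iff_dvd]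
  push_cast
  rfl

end Cfsg.Agent.H813.OctHyp
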