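import Cfsg.Agent.H575.ExtraIrr

/-!
# A commuting action on an extraspecial 2-group of order `2 (r - 1)²` (helper813, for helper575's S4363)

* `card_sq_ne` : the number of elements `x` with `x² ≠ 1` of a 2-group `F` of class two with centre of order two;
* `f2_core`.
-/

set_option autoImplicit false

namespace Cfsg.Agent.H813.TurullTwo

open Subgroup Cfsg.Agent.H575.ExtraIrr
open scoped commutatorElement

section Gauss

variable {F : Type*} [Group F] [Finite F]

/-- the number of elements of order four -/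
theorem card_sq_ne (hZ : Nat.card (center F) = 2) (hab : ∀ x y : F, x * y * x⁻¹ * y⁻¹ ∈ center F) {c : ℕ}
    (hc : Nat.card (F ⧸ center F) = c ^ 2) :
    Nat.card {x : F // x * x ≠ 1} = c * (c + 1) ∨ Nat.card {x : F // x * x ≠ 1} + c = c * c := by
  classical
  have : Fintype F := Fintype.ofFinite F
  -- central elements
  have hz2 : ∀ z ∈ center F, z * z = 1 := by
    intro z hz
    have h1 : (⟨z, hz⟩ : center F) ^ Nat.card (center F) = 1 := pow_card_eq_one'
    rw [hZ, pow_two] at h1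
    exact congrArg Subtype.val h1
  have huniq : ∀ z ∈ center F, ∀ w ∈ center F, z ≠ 1 → w ≠ 1 → z = w := by
    intro z hz w hw hz1 hw1
    have h1 := Nat.card_eq_two_iff' (1 : center F)
    obtain ⟨y, -, hy⟩ := h1.1 hZ
    have h2 := hy ⟨z, hz⟩ (fun h => hz1 (congrArg Subtype.val h))
    have h3 := hy ⟨w, hw⟩ (fun h => hw1 (congrArg Subtype.val h))
    exact congrArg Subtype.val (h2.trans h3.symm)
  let χ : F → ℤ := fun z => if z = 1 then 1 else -1
  have hχ : ∀ z ∈ center F, ∀ w ∈ center F, χ (z * w) = χ z * χ w := by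
    intro z hz w hw
    by_cases h1 : z = 1
    · subst h1; simp [χ]
    by_cases h2 : w = 1
    · subst h2; simp [χ]
    have h3 := huniq z hz w hw h1 h2
    subst h3
    rw [hz2 z hz]
    simp [χ, h1]
  -- squares are central
  have hcomm : ∀ x y : F, x * y = (x * y * x⁻¹ * y⁻¹) * (y * x) := fun x y => by group
  have hsq : ∀ x : F, x * x ∈ center F := by
    intro x
    rw [mem_center_iff]
    intro y
    obtain ⟨z, hz⟩ : ∃ z, z = y * x * y⁻¹ * x⁻¹ := ⟨_, rfl⟩
    have hzc : z ∈ center F := hz ▸ hab y x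
    have h1 : y * x = z * (x * y) := by rw [hz]; group
    have h2 : x * z = z * x := mem_center_iff.1 hzc x
    calc y * (x * x) = (y * x) * x := by group
      _ = z * (x * y) * x := by rw [h1]
      _ = z * x * (y * x) := by group
      _ = z * x * (z * (x * y)) := by rw [h1]
      _ = z * (x * z) * (x * y) := by group
      _ = (z * z) * (x * x * y) := by rw [h2]; group
      _ = x * x * y := by rw [hz2 z hzc, one_mul]
  have hinv : ∀ x y : F, y⁻¹ * x⁻¹ * y * x ∈ center F := by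
    intro x y
    have := hab y⁻¹ x⁻¹
    rwa [inv_inv, inv_inv] at this
  obtain ⟨θ, hθd⟩ : ∃ θ : F → ℤ, ∀ x, θ x = χ (x * x) := ⟨_, fun _ => rfl⟩
  obtain ⟨β, hβd⟩ : ∃ β : F → F → ℤ, ∀ x y, β x y = χ (y⁻¹ * x⁻¹ * y * x) := ⟨_, fun _ _ => rfl⟩
  have hθ : ∀ x y, θ (x * y) = θ x * θ y * β x y := by
    intro x y
    have h1 : (x * y) * (x * y) = (x * x) * (y * y) * (y⁻¹ * x⁻¹ * y * x) := by
      have h3 : y * (y⁻¹ * x⁻¹ * y * x) = (y⁻¹ * x⁻¹ * y * x) * y := mem_center_iff.1 (hinv x y) y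
      have h4 : x * x * (y * y) * (y⁻¹ * x⁻¹ * y * x) = x * x * y * (y * (y⁻¹ * x⁻¹ * y * x)) := by group
      have h5 : x * x * y * ((y⁻¹ * x⁻¹ * y * x) * y) = x * y * (x * y) := by group
      rw [h4, h3, h5]
    rw [hθd, h1, hχ _ (mul_mem (hsq x) (hsq y)) _ (hinv x y), hχ _ (hsq x) _ (hsq y), hθd, hθd, hβd]
  have hθ2 : ∀ x, θ x * θ x = 1 := by
    intro x
    rw [hθd]
    by_cases h : x * x = 1 <;> simp [χ, h]
  have hβ : ∀ x x' y, β (x * x') y = β x y * β x' y := by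
    intro x x' y
    have h1 : y⁻¹ * (x * x')⁻¹ * y * (x * x') = (y⁻¹ * x⁻¹ * y * x) * (y⁻¹ * x'⁻¹ * y * x') := by
      have h3 : (y⁻¹ * x'⁻¹ * y) * (y⁻¹ * x⁻¹ * y * x) = (y⁻¹ * x⁻¹ * y * x) * (y⁻¹ * x'⁻¹ * y) :=
        mem_center_iff.1 (hinv x y) _
      calc y⁻¹ * (x * x')⁻¹ * y * (x * x') = ((y⁻¹ * x'⁻¹ * y) * (y⁻¹ * x⁻¹ * y * x)) * x' := by group
        _ = (y⁻¹ * x⁻¹ * y * x) * (y⁻¹ * x'⁻¹ * y * x') := by rw [h3]; group
    rw [hβd, h1, hχ _ (hinv x y) _ (hinv x' y), hβd, hβd]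
  have hsum : ∀ y, ∑ x, β x y = if y ∈ center F then (Fintype.card F : ℤ) else 0 := by
    intro y
    split_ifs with hy
    · have h1 : ∀ x, β x y = 1 := by
        intro x
        have h2 : y⁻¹ * x⁻¹ * y * x = 1 := by
          have h3 : x⁻¹ * y = y * x⁻¹ := mem_center_iff.1 hy x⁻¹
          calc y⁻¹ * x⁻¹ * y * x = y⁻¹ * (x⁻¹ * y) * x := by group
            _ = 1 := by rw [h3]; group
        rw [hβd, h2]
        simp [χ]
      rw [Finset.sum_congr rfl fun x _ => h1 x, Finset.sum_const, Finset.card_univ, nsmul_eq_mul, mul_one]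
    · rw [mem_center_iff] at hy
      push Not at hy
      obtain ⟨x0, hx0⟩ := hy
      have h1 : β x0 y = -1 := by
        have h2 : y⁻¹ * x0⁻¹ * y * x0 ≠ 1 := by
          intro h3
          apply hx0
          calc x0 * y = x0 * y * (y⁻¹ * x0⁻¹ * y * x0) := by rw [h3, mul_one]
            _ = y * x0 := by group
        rw [hβd]
        simp [χ, h2]
      have h2 : ∑ x, β (x0 * x) y = ∑ x, β x y :=
        Fintype.sum_equiv (Equiv.mulLeft x0) _ _ fun x => rfl
      have h3 : ∑ x, β (x0 * x) y = -∑ x, β x y := by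
        rw [← Finset.sum_neg_distrib]
        exact Finset.sum_congr rfl fun x _ => by rw [hβ, h1]; ring
      linarith
  -- the square of the Gauss sum
  obtain ⟨S, hS⟩ : ∃ S : ℤ, S = ∑ x, θ x := ⟨_, rfl⟩
  have hcF : (Fintype.card F : ℤ) = 2 * (c : ℤ) ^ 2 := by
    have h1 := card_eq_card_quotient_mul_card_subgroup (center F)
    rw [hc, hZ, Nat.card_eq_fintype_card] at h1
    rw [h1]; push_cast; ring
  have hS2 : S * S = (2 * c) * (2 * c) := by
    calc S * S = ∑ x, ∑ y, θ x * θ y := by rw [hS, Finset.sum_mul_sum]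
      _ = ∑ x, ∑ y, θ x * θ (x * y) := by
          refine Finset.sum_congr rfl fun x _ => ?_
          exact (Fintype.sum_equiv (Equiv.mulLeft x) _ _ fun y => rfl).symm
      _ = ∑ x, ∑ y, θ y * β x y := by
          refine Finset.sum_congr rfl fun x _ => Finset.sum_congr rfl fun y _ => ?_
          rw [hθ, ← mul_assoc, ← mul_assoc, hθ2, one_mul]
      _ = ∑ y, θ y * ∑ x, β x y := by
          rw [Finset.sum_comm]
          exact Finset.sum_congr rfl fun y _ => by rw [Finset.mul_sum]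
      _ = ∑ y, if y ∈ center F then (Fintype.card F : ℤ) else 0 := by
          refine Finset.sum_congr rfl fun y _ => ?_
          rw [hsum]
          split_ifs with hy
          · rw [hθd, hz2 y hy]; simp [χ]
          · rw [mul_zero]
      _ = (2 * c) * (2 * c) := by
          rw [← Finset.sum_filter, Finset.sum_const, nsmul_eq_mul, hcF]
          have h1 : (Finset.univ.filter fun y => y ∈ center F).card = 2 := by
            rw [← hZ, Nat.card_eq_fintype_card, Fintype.card_subtype]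
          rw [h1]; push_cast; ring
  -- the count
  have hN : 2 * (Nat.card {x : F // x * x ≠ 1} : ℤ) = 2 * (c : ℤ) ^ 2 - S := by
    have h1 : ∀ x, θ x = 1 - 2 * (if x * x ≠ 1 then 1 else 0) := by
      intro x
      rw [hθd]
      by_cases h : x * x = 1 <;> simp [χ, h]
    have h2 : S = (Fintype.card F : ℤ) - 2 * (Nat.card {x : F // x * x ≠ 1} : ℤ) := by
      rw [hS, Finset.sum_congr rfl fun x _ => h1 x, Finset.sum_sub_distrib, Finset.sum_const, Finset.card_univ,
        nsmul_eq_mul, mul_one, ← Finset.mul_sum, Finset.sum_boole, Nat.card_eq_fintype_card, Fintype.card_subtype]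
    rw [h2, hcF]; ring
  rcases mul_self_eq_mul_self_iff.1 hS2 with h | h
  · right
    rw [h] at hN
    zify
    nlinarith
  · left
    rw [h] at hN
    zify
    nlinarith

end Gauss

section Main

variable {G : Type*} [Group G] [Finite G]

/-- fixed points of a `p`-group acting by conjugation on a set -/
theorem modEq_conj {p : ℕ} [Fact p.Prime] {P : Subgroup G} (hP : IsPGroup p P) (s : Set G)
    (hs : ∀ a ∈ P, ∀ x ∈ s, a * x * a⁻¹ ∈ s) :
    Nat.card s ≡ Nat.card {x : G | x ∈ s ∧ ∀ a ∈ P, a * x = x * a} [MOD p] := by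
  let act : MulAction P s :=
    { smul := fun a x => ⟨a * x * (a : G)⁻¹, hs a a.2 x x.2⟩
      one_smul := fun x => Subtype.ext (by
        show ((1 : P) : G) * x * ((1 : P) : G)⁻¹ = x
        simp)
      mul_smul := fun a b x => Subtype.ext (by
        show ((a * b : P) : G) * x * ((a * b : P) : G)⁻¹ = a * (b * x * (b : G)⁻¹) * (a : G)⁻¹
        rw [Subgroup.coe_mul]
        group) }
  have h1 := hP.card_modEq_card_fixedPoints s
  have h2 : Nat.card (MulAction.fixedPoints P s) = Nat.card {x : G | x ∈ s ∧ ∀ a ∈ P, a * x = x * a} := by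
    refine Nat.card_congr
      { toFun := fun x => ⟨(x : s), (x : s).2, fun a ha => ?_⟩
        invFun := fun x => ⟨⟨x, x.2.1⟩, fun a => Subtype.ext ?_⟩
        left_inv := fun x => rfl
        right_inv := fun x => rfl }
    · have h3 := congrArg Subtype.val (x.2 ⟨a, ha⟩)
      have h4 : a * ((x : s) : G) * a⁻¹ = ((x : s) : G) := h3
      exact mul_inv_eq_iff_eq_mul.1 h4
    · show (a : G) * x * (a : G)⁻¹ = x
      rw [x.2.2 a a.2, mul_inv_cancel_right]
  rw [h2] at h1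
  exact h1

variable {F R : Subgroup G} {r : ℕ}

theorem f2_core (h : ED F R r 2)
    (hcard : Nat.card (F ⧸ center F) = (r - 1) ^ 2) (T : Subgroup G)
    (hTF : T ≤ normalizer (F : Set G)) (hTR : ∀ t ∈ T, ∀ a ∈ R, t * a = a * t)
    (hTr : ¬ r ∣ Nat.card T) (hT2 : ¬ 2 ∣ Nat.card T)
    (hTZ : ∀ t ∈ T, ∀ z ∈ (center F).map F.subtype, t * z = z * t) :
    ∀ t ∈ T, ∀ f ∈ F, ⁅t, f⁆ ∈ (center F).map F.subtype := by
  obtain ⟨Z, hZd⟩ : ∃ Z, Z = (center F).map F.subtype := ⟨_, rfl⟩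
  rw [← hZd] at hTZ ⊢
  have hZF : Z ≤ F := hZd ▸ map_subtype_le _
  have hmemZ : ∀ x : G, x ∈ Z ↔ ∃ hx : x ∈ F, ∀ y ∈ F, y * x = x * y := by
    intro x
    rw [hZd]
    constructor
    · rintro ⟨z, hz, rfl⟩
      refine ⟨z.2, fun y hy => ?_⟩
      exact congrArg Subtype.val (mem_center_iff.1 hz ⟨y, hy⟩)
    · rintro ⟨hx, h1⟩
      exact ⟨⟨x, hx⟩, mem_center_iff.2 fun y => Subtype.ext (h1 y y.2), rfl⟩
  have hcZ : Nat.card Z = 2 := by
    rw [hZd, card_map_of_injective F.subtype_injective, h.hZ]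
  have hNZ : ∀ g, g ∈ normalizer (F : Set G) → ∀ z ∈ Z, g * z * g⁻¹ ∈ Z := by
    intro g hg z hz
    rw [hmemZ] at hz ⊢
    obtain ⟨hzF, hz⟩ := hz
    refine ⟨(mem_normalizer_iff.1 hg z).1 hzF, fun y hy => ?_⟩
    have h1 : g⁻¹ * y * g ∈ F := by
      rw [mem_normalizer_iff.1 hg, show g * (g⁻¹ * y * g) * g⁻¹ = y by group]
      exact hy
    have h2 := hz _ h1
    calc y * (g * z * g⁻¹) = g * ((g⁻¹ * y * g) * z) * g⁻¹ := by group
      _ = g * (z * (g⁻¹ * y * g)) * g⁻¹ := by rw [h2]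
      _ = g * z * g⁻¹ * y := by group
  have hFN : F ≤ normalizer (F : Set G) := le_normalizer
  have hsqZ : ∀ z ∈ Z, z * z = 1 := by
    intro z hz
    have h1 : (⟨z, hz⟩ : Z) ^ Nat.card Z = 1 := pow_card_eq_one'
    rw [hcZ, pow_two] at h1
    exact congrArg Subtype.val h1
  have huniq : ∀ z ∈ Z, ∀ w ∈ Z, z ≠ 1 → w ≠ 1 → z = w := by
    intro z hz w hw hz1 hw1
    obtain ⟨y, -, hy⟩ := (Nat.card_eq_two_iff' (1 : Z)).1 hcZ
    have h2 := hy ⟨z, hz⟩ (fun h => hz1 (congrArg Subtype.val h))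
    have h3 := hy ⟨w, hw⟩ (fun h => hw1 (congrArg Subtype.val h))
    exact congrArg Subtype.val (h2.trans h3.symm)
  -- the centralizer of `R`
  have hRZ : ∀ x : G, (x ∈ F ∧ ∀ a ∈ R, a * x = x * a) ↔ x ∈ Z := by
    intro x
    constructor
    · rintro ⟨hx, h1⟩
      rw [hZd]
      exact h.hCF ⟨hx, mem_centralizer_iff.2 fun a ha => h1 a ha⟩
    · intro hx
      refine ⟨hZF hx, fun a ha => ?_⟩
      by_cases hx1 : x = 1
      · rw [hx1, mul_one, one_mul]
      · have h1 := hNZ a (h.hRF ha) x hx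
        have h2 : a * x * a⁻¹ ≠ 1 := by
          intro h3
          apply hx1
          rw [mul_inv_eq_one] at h3
          exact mul_eq_left.1 h3
        exact mul_inv_eq_iff_eq_mul.1 (huniq _ h1 _ hx h2 hx1)
  -- the arithmetic of `r`
  have hr2 := h.hr.two_le
  obtain ⟨k, hk⟩ := h.hF.exists_card_eq
  have hcF : Nat.card F = 2 * (r - 1) ^ 2 := by
    have h1 := card_eq_card_quotient_mul_card_subgroup (center F)
    rw [hcard, h.hZ] at h1
    rw [h1, mul_comm]
  obtain ⟨m, hm⟩ : ∃ m, r = 2 ^ m + 1 := by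
    have h1 : r - 1 ∣ 2 ^ k := by
      rw [← hk, hcF]
      exact (dvd_pow_self _ (by norm_num)).mul_left 2
    obtain ⟨m, -, hm⟩ := (Nat.dvd_prime_pow Nat.prime_two).1 h1
    exact ⟨m, by omega⟩
  have hm1 : 1 ≤ m := by
    rcases Nat.eq_zero_or_pos m with h0 | h0
    · exfalso
      rw [h0] at hm
      exact h.hrs hm
    · exact h0
  let D : Subgroup G :=
    { carrier := {t | t ∈ T ∧ ∀ f ∈ F, ⁅t, f⁆ ∈ Z}
      one_mem' := ⟨T.one_mem, fun f _ => by rw [commutatorElement_one_left]; exact Z.one_mem⟩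
      mul_mem' := by
        rintro s t ⟨hs, hs'⟩ ⟨ht, ht'⟩
        refine ⟨T.mul_mem hs ht, fun f hf => ?_⟩
        have h1 : ⁅s * t, f⁆ = (s * ⁅t, f⁆ * s⁻¹) * ⁅s, f⁆ := by
          rw [commutatorElement_def, commutatorElement_def, commutatorElement_def]; group
        rw [h1]
        exact Z.mul_mem (hNZ s (hTF hs) _ (ht' f hf)) (hs' f hf)
      inv_mem' := by
        rintro t ⟨ht, ht'⟩
        refine ⟨T.inv_mem ht, fun f hf => ?_⟩
        have h1 : ⁅t⁻¹, f⁆ = t⁻¹ * ⁅t, f⁆⁻¹ * t⁻¹⁻¹ := by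
          rw [commutatorElement_def, commutatorElement_def]; group
        rw [h1]
        exact hNZ _ (hTF (T.inv_mem ht)) _ (Z.inv_mem (ht' f hf)) }
  suffices hTD : T ≤ D by
    intro t ht f hf
    exact (hTD ht).2 f hf
  by_contra hTD
  have hidx : D.relIndex T ≠ 1 := fun h1 => hTD (relIndex_eq_one.1 h1)
  obtain ⟨n, hn, hnd⟩ := Nat.exists_prime_and_dvd hidx
  have hnf : Fact n.Prime := ⟨hn⟩
  have hnT : n ∣ Nat.card T := hnd.trans (D.relIndex_dvd_card T)
  obtain ⟨P⟩ : Nonempty (Sylow n T) := inferInstance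
  obtain ⟨Pg, hPg⟩ : ∃ Pg : Subgroup G, Pg = (P : Subgroup T).map T.subtype := ⟨_, rfl⟩
  have hPT : Pg ≤ T := hPg ▸ map_subtype_le _
  have hPp : IsPGroup n Pg := hPg ▸ P.isPGroup'.map _
  have hPD : ¬ Pg ≤ D := by
    intro h1
    have h2 : (P : Subgroup T) ≤ D.subgroupOf T := by
      intro x hx
      exact h1 (hPg ▸ mem_map_of_mem T.subtype hx)
    exact P.not_dvd_index (hnd.trans (index_dvd_of_le h2))
  let K : Subgroup G :=
    { carrier := {f | f ∈ F ∧ ∀ t ∈ Pg, ⁅t, f⁆ ∈ Z}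
      one_mem' := ⟨F.one_mem, fun t _ => by rw [commutatorElement_one_right]; exact Z.one_mem⟩
      mul_mem' := by
        rintro f g ⟨hf, hf'⟩ ⟨hg, hg'⟩
        refine ⟨F.mul_mem hf hg, fun t ht => ?_⟩
        have h1 : ⁅t, f * g⁆ = ⁅t, f⁆ * (f * ⁅t, g⁆ * f⁻¹) := by
          rw [commutatorElement_def, commutatorElement_def, commutatorElement_def]; group
        rw [h1]
        exact Z.mul_mem (hf' t ht) (hNZ f (hFN hf) _ (hg' t ht))
      inv_mem' := by
        rintro f ⟨hf, hf'⟩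
        refine ⟨F.inv_mem hf, fun t ht => ?_⟩
        have h1 : ⁅t, f⁻¹⁆ = f⁻¹ * ⁅t, f⁆⁻¹ * f⁻¹⁻¹ := by
          rw [commutatorElement_def, commutatorElement_def]; group
        rw [h1]
        exact hNZ _ (hFN (F.inv_mem hf)) _ (Z.inv_mem (hf' t ht)) }
  have hKF : K ≤ F := fun x hx => hx.1
  have hZK : Z ≤ K := by
    intro z hz
    refine ⟨hZF hz, fun t ht => ?_⟩
    have h1 : ⁅t, z⁆ = 1 := by
      rw [commutatorElement_def, hTZ t (hPT ht) z hz, mul_inv_cancel_right, mul_inv_cancel]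
    rw [h1]
    exact Z.one_mem
  have hKne : K ≠ F := by
    intro h1
    apply hPD
    intro t ht
    refine ⟨hPT ht, fun f hf => ?_⟩
    rw [← h1] at hf
    exact hf.2 t ht
  have hRp : IsPGroup r R := IsPGroup.of_card (n := 1) (by rw [h.hR, pow_one])
  have hrf : Fact r.Prime := ⟨h.hr⟩
  -- `|K| ≡ 2`
  have hK1 : Nat.card K ≡ 2 [MOD r] := by
    have h1 := modEq_conj hRp (K : Set G) (by
      rintro a ha f ⟨hf, hf'⟩
      refine ⟨(mem_normalizer_iff.1 (h.hRF ha) f).1 hf, fun t ht => ?_⟩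
      have h2 : ⁅t, a * f * a⁻¹⁆ = a * ⁅t, f⁆ * a⁻¹ := by
        have h3 : t * a = a * t := hTR t (hPT ht) a ha
        have h4 : a⁻¹ * t⁻¹ = t⁻¹ * a⁻¹ := by rw [← mul_inv_rev, ← mul_inv_rev, h3]
        rw [commutatorElement_def, commutatorElement_def]
        calc t * (a * f * a⁻¹) * t⁻¹ * (a * f * a⁻¹)⁻¹ = (t * a) * f * (a⁻¹ * t⁻¹) * (a * f⁻¹ * a⁻¹) := by group
          _ = a * (t * f * t⁻¹ * f⁻¹) * a⁻¹ := by rw [h3, h4]; group
      rw [h2]
      exact hNZ a (h.hRF ha) _ (hf' t ht))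
    have h2 : {x : G | x ∈ (K : Set G) ∧ ∀ a ∈ R, a * x = x * a} = (Z : Set G) := by
      ext x
      constructor
      · rintro ⟨hx, h3⟩
        exact (hRZ x).1 ⟨hx.1, h3⟩
      · intro hx
        exact ⟨hZK hx, ((hRZ x).2 hx).2⟩
    have h3 : Nat.card {x : G | x ∈ (K : Set G) ∧ ∀ a ∈ R, a * x = x * a} = 2 := by rw [h2]; exact hcZ
    rw [h3] at h1
    exact h1
  have hK2 : K = Z := by
    symm
    apply eq_of_le_of_card_ge hZK
    rw [hcZ]
    obtain ⟨b, hb⟩ := (h.hF.to_le hKF).exists_card_eq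
    have hb1 : 1 ≤ b := by
      have h1 := card_le_of_le hZK
      rw [hcZ, hb] at h1
      by_contra h2
      have h3 : b = 0 := by omega
      rw [h3] at h1
      norm_num at h1
    obtain ⟨j, rfl⟩ : ∃ j, b = j + 1 := ⟨b - 1, by omega⟩
    have hj : j < 2 * m := by
      by_contra hc
      apply hKne
      apply eq_of_le_of_card_ge hKF
      rw [hb, hcF, hm, Nat.add_sub_cancel, ← pow_mul, pow_succ, mul_comm]
      exact Nat.mul_le_mul_right _ (Nat.pow_le_pow_right (by norm_num) (by omega))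
    rw [hb] at hK1 ⊢
    have h1 : r ∣ 2 * (2 ^ j - 1) := by
      have hle : 2 ≤ 2 ^ (j + 1) := by
        rw [pow_succ]; have := Nat.one_le_two_pow (n := j); omega
      have h2 := (Nat.modEq_iff_dvd' hle).1 hK1.symm
      have h3 : 2 ^ (j + 1) - 2 = 2 * (2 ^ j - 1) := by rw [pow_succ]; omega
      rwa [h3] at h2
    have h2 : r ∣ 2 ^ j - 1 := by
      rcases h.hr.dvd_mul.1 h1 with h3 | h3
      · exact absurd ((Nat.prime_dvd_prime_iff_eq h.hr Nat.prime_two).1 h3) h.hrs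
      · exact h3
    have hpos := Nat.one_le_two_pow (n := j)
    rcases Nat.lt_or_ge j m with hjm | hjm
    · have h3 : 2 ^ j < 2 ^ m := Nat.pow_lt_pow_right (by norm_num) hjm
      have h4 : 2 ^ j - 1 = 0 := Nat.eq_zero_of_dvd_of_lt h2 (by omega)
      have h5 : 2 ^ j = 1 := by omega
      rw [pow_succ, h5, one_mul]
    · exfalso
      obtain ⟨i, rfl⟩ : ∃ i, j = m + i := ⟨j - m, by omega⟩
      have h3 : r ∣ 2 ^ i + 1 := by
        have h4 : (2 ^ (m + i) - 1) + (2 ^ i + 1) = r * 2 ^ i := by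
          have h5 : r * 2 ^ i = 2 ^ (m + i) + 2 ^ i := by rw [hm, pow_add]; ring
          omega
        have h5 : r ∣ (2 ^ (m + i) - 1) + (2 ^ i + 1) := by rw [h4]; exact dvd_mul_right _ _
        exact (Nat.dvd_add_right h2).1 h5
      have h4 : 2 ^ i < 2 ^ m := Nat.pow_lt_pow_right (by norm_num) (by omega)
      have h5 := Nat.le_of_dvd (Nat.succ_pos _) h3
      omega
  -- the elements of order four
  obtain ⟨N, hN⟩ : ∃ N : Set G, N = {x | x ∈ F ∧ x * x ≠ 1} := ⟨_, rfl⟩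
  have hNc : Nat.card N = Nat.card {x : F // x * x ≠ 1} := by
    rw [hN]
    refine Nat.card_congr
      { toFun := fun x => ⟨⟨x, x.2.1⟩, fun h1 => x.2.2 (congrArg Subtype.val h1)⟩
        invFun := fun x => ⟨x, x.1.2, fun h1 => x.2 (Subtype.ext h1)⟩
        left_inv := fun x => rfl
        right_inv := fun x => rfl }
  have hNinv : ∀ g ∈ normalizer (F : Set G), ∀ x ∈ N, g * x * g⁻¹ ∈ N := by
    intro g hg x hx
    rw [hN] at hx ⊢
    refine ⟨(mem_normalizer_iff.1 hg x).1 hx.1, fun h1 => hx.2 ?_⟩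
    have h2 : g * (x * x) * g⁻¹ = 1 := by rw [← h1]; group
    rw [mul_inv_eq_one] at h2
    exact mul_eq_left.1 h2
  have hNZ0 : ∀ x ∈ N, x ∉ Z := by
    intro x hx hz
    rw [hN] at hx
    exact hx.2 (hsqZ x hz)
  have hNr : r ∣ Nat.card N := by
    have h1 := modEq_conj hRp N fun a ha x hx => hNinv a (h.hRF ha) x hx
    have h2 : {x : G | x ∈ N ∧ ∀ a ∈ R, a * x = x * a} = ∅ := by
      rw [Set.eq_empty_iff_forall_notMem]
      rintro x ⟨hx, hx'⟩
      exact hNZ0 x hx ((hRZ x).1 ⟨(hN ▸ hx : x ∈ {x | x ∈ F ∧ x * x ≠ 1}).1, hx'⟩)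
    have h4 : Nat.card {x : G | x ∈ N ∧ ∀ a ∈ R, a * x = x * a} = 0 := by
      rw [h2]; exact Nat.card_eq_zero.2 (Or.inl inferInstance)
    rw [h4] at h1
    exact (Nat.modEq_zero_iff_dvd).1 h1
  have hNn : n ∣ Nat.card N := by
    have h1 := modEq_conj hPp N fun a ha x hx => hNinv a (hTF (hPT ha)) x hx
    have h2 : {x : G | x ∈ N ∧ ∀ a ∈ Pg, a * x = x * a} = ∅ := by
      rw [Set.eq_empty_iff_forall_notMem]
      rintro x ⟨hx, hx'⟩
      apply hNZ0 x hx
      rw [← hK2]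
      refine ⟨(hN ▸ hx : x ∈ {x | x ∈ F ∧ x * x ≠ 1}).1, fun t ht => ?_⟩
      have h3 : ⁅t, x⁆ = 1 := by
        rw [commutatorElement_def, hx' t ht, mul_inv_cancel_right, mul_inv_cancel]
      rw [h3]
      exact Z.one_mem
    have h4 : Nat.card {x : G | x ∈ N ∧ ∀ a ∈ Pg, a * x = x * a} = 0 := by
      rw [h2]; exact Nat.card_eq_zero.2 (Or.inl inferInstance)
    rw [h4] at h1
    exact (Nat.modEq_zero_iff_dvd).1 h1
  rw [hNc] at hNr hNn
  rcases card_sq_ne h.hZ h.hab hcard with h1 | h1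
  · rw [h1, Nat.sub_add_cancel h.hr.pos] at hNn
    rcases hn.dvd_mul.1 hNn with h2 | h2
    · rw [hm, Nat.add_sub_cancel] at h2
      have h3 := (Nat.prime_dvd_prime_iff_eq hn Nat.prime_two).1 (hn.dvd_of_dvd_pow h2)
      exact hT2 (h3 ▸ hnT)
    · have h3 := (Nat.prime_dvd_prime_iff_eq hn h.hr).1 h2
      exact hTr (h3 ▸ hnT)
  · have h2 : r ∣ (r - 1) * (r - 2) := by
      have h3 : Nat.card {x : F // x * x ≠ 1} = (r - 1) * (r - 2) := by
        obtain ⟨q, rfl⟩ : ∃ q, r = q + 2 := ⟨r - 2, by omega⟩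
        have h4 : q + 2 - 1 = q + 1 := rfl
        have h5 : q + 2 - 2 = q := rfl
        rw [h4] at h1
        rw [h4, h5]
        nlinarith
      rw [← h3]
      exact hNr
    have h3 : 3 ≤ r := by
      have := Nat.pow_le_pow_right (n := 2) (by norm_num) hm1
      omega
    rcases h.hr.dvd_mul.1 h2 with h4 | h4
    · have := Nat.le_of_dvd (by omega) h4
      omega
    · have := Nat.le_of_dvd (by omega) h4
      omega

end Main

end Cfsg.Agent.H813.TurullTwo
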