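import Cfsg.Agent.H575.Mult
import Cfsg.Agent.H575.ExtraFix

/-!
# A `q`-group of class two and an element of order `2^m + 1` on a module (helper813, for helper575's S4363)

* `irr_case` : the irreducible case: `dim V - dim C_V(R) ≤ 2m` only if `dim V = r`, `dim V - dim C_V(R) ≥ 2m`;
* `closed` : the case of an algebraically closed field;
* `ha_core`.
-/

set_option autoImplicit false
set_option linter.unusedSectionVars false

namespace Cfsg.Agent.H813.TurullHa

open Module Subgroup Cfsg.Agent.H575.Dim Cfsg.Agent.H575.ExtraMod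
  Cfsg.Agent.H575.ExtraIrr Cfsg.Agent.H575.Fix Cfsg.Agent.H575.Mult
open scoped commutatorElement

section Closed

variable {E : Type*} [Field E] [IsAlgClosed E] {H V : Type*} [Group H] [Finite H]
  [AddCommGroup V] [Module E V] [FiniteDimensional E V]

theorem fix_eq_range {ρ : Representation E H V} (R : Subgroup H) :
    fix (imgRep ρ) (R.map (toImg ρ)) = fix ρ R := by
  ext v
  rw [mem_fix, mem_fix]
  constructor
  · intro h a ha
    exact h _ ⟨a, ha, rfl⟩
  · rintro h _ ⟨a, ha, rfl⟩
    exact h a ha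

/-- the reducible case: a complement permutes the summands regularly -/
theorem exists_ind (hH : (Nat.card H : E) ≠ 0) (ρ : Representation E H V)
    (hρ : Irr ρ) (N R : Subgroup H) [hNn : N.Normal] (hN : N.index.Prime)
    (hR : Nat.card R = N.index) (hNR : N ⊔ R = ⊤) (hirr : ¬ Irr (ρ.comp N.subtype)) :
    ∃ t : ℕ, 1 ≤ t ∧ finrank E V = N.index * t ∧ finrank E (fix ρ R) ≤ t := by
  classical
  have : Fintype R := Fintype.ofFinite R
  obtain ⟨W, hW, hWirr, hfin⟩ := (step hH ρ hρ N hN).resolve_left hirr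
  let Φ : (R → W) →ₗ[E] V :=
    { toFun := fun w => ∑ g : R, ρ g (w g)
      map_add' := by
        intro a b
        simp [Finset.sum_add_distrib]
      map_smul' := by
        intro c a
        simp [Finset.smul_sum] }
  have hΦ : ∀ w, Φ w = ∑ g : R, ρ g (w g) := fun w => rfl
  have hΦR : ∀ (h : R) (w : R → W), ρ h (Φ w) = Φ fun g => w (h⁻¹ * g) := by
    intro h w
    rw [hΦ, hΦ, map_sum]
    refine Fintype.sum_bijective (fun y => h * y) (Group.mulLeft_bijective h) _ _ fun y => ?_
    rw [inv_mul_cancel_left, Subgroup.coe_mul, mul_apply']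
  have hΦN : ∀ n ∈ N, ∀ w : R → W, ρ n (Φ w) ∈ LinearMap.range Φ := by
    intro n hn w
    refine ⟨fun g => ⟨ρ ((g : H)⁻¹ * n * g) (w g), hW ⟨_, by
      have := hNn.conj_mem n hn (g : H)⁻¹
      rwa [inv_inv] at this⟩ _ (w g).2⟩, ?_⟩
    rw [hΦ, hΦ, map_sum]
    refine Finset.sum_congr rfl fun g _ => ?_
    show ρ g (ρ ((g : H)⁻¹ * n * g) (w g)) = ρ n (ρ g (w g))
    rw [← mul_apply', ← mul_apply']
    congr 2
    group
  have hinv : ∀ h : H, ∀ v ∈ LinearMap.range Φ, ρ h v ∈ LinearMap.range Φ := by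
    intro h
    have h1 : h ∈ N ⊔ R := by rw [hNR]; exact Subgroup.mem_top h
    rw [← SetLike.mem_coe, Subgroup.normal_mul, Set.mem_mul] at h1
    obtain ⟨n, hn, a, ha, rfl⟩ := h1
    rintro _ ⟨w, rfl⟩
    rw [mul_apply', hΦR ⟨a, ha⟩ w]
    exact hΦN n hn _
  have hWnt := hWirr.1
  obtain ⟨w0, hw0⟩ := exists_ne (0 : W)
  have hrange : LinearMap.range Φ = ⊤ := by
    rcases hρ.2 _ hinv with h | h
    · exfalso
      have h1 : Φ (Pi.single 1 w0) = w0 := by
        rw [hΦ, Finset.sum_eq_single 1]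
        · rw [Pi.single_eq_same, Subgroup.coe_one, map_one]
          rfl
        · intro b _ hb
          rw [Pi.single_eq_of_ne hb]
          simp
        · intro h
          exact absurd (Finset.mem_univ _) h
      have h2 : (w0 : V) ∈ LinearMap.range Φ := ⟨_, h1⟩
      rw [h, Submodule.mem_bot] at h2
      exact hw0 (Subtype.ext h2)
    · exact h
  have hsurj : Function.Surjective Φ := LinearMap.range_eq_top.mp hrange
  have hfr : finrank E (R → W) = finrank E V := by
    rw [Module.finrank_pi_fintype, Finset.sum_const, Finset.card_univ, smul_eq_mul, hfin, ← hR,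
      Nat.card_eq_fintype_card]
  have hinj : Function.Injective Φ := (LinearMap.injective_iff_surjective_of_finrank_eq_finrank hfr).mpr hsurj
  refine ⟨finrank E W, finrank_pos, hfin, ?_⟩
  -- the fixed points are the constant functions
  let e : (R → W) ≃ₗ[E] V := LinearEquiv.ofBijective Φ ⟨hinj, hsurj⟩
  have he : ∀ w, e w = Φ w := fun w => rfl
  let L : fix ρ R →ₗ[E] W := (LinearMap.proj 1).comp (e.symm.toLinearMap.comp (fix ρ R).subtype)
  refine LinearMap.finrank_le_finrank_of_injective (f := L) ?_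
  rw [← LinearMap.ker_eq_bot, LinearMap.ker_eq_bot']
  intro v hv
  obtain ⟨w, hw⟩ := e.surjective (v : V)
  have hv1 : w 1 = 0 := by
    have h1 : e.symm (v : V) 1 = 0 := hv
    rwa [← hw, LinearEquiv.symm_apply_apply] at h1
  have hconst : ∀ g : R, w g = 0 := by
    intro g
    have h1 : ρ ((g⁻¹ : R) : H) (v : V) = v := v.2 _ (g⁻¹).2
    rw [← hw, he, hΦR] at h1
    have h2 := congrFun (hinj h1) 1
    rw [inv_inv, mul_one, hv1] at h2
    exact h2
  apply Subtype.ext
  rw [← hw, show w = 0 from funext hconst, map_zero]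
  rfl

/-- degree at least two -/
theorem two_le {ρ : Representation E H V} {F R : Subgroup H} {r s : ℕ} (h : RD ρ F R r s) : 2 ≤ finrank E V := by
  have hcard := h.card_eq
  have hntV := h.hirr.1
  have hpos : 0 < finrank E V := finrank_pos
  by_contra hlt
  have hd1 : finrank E V = 1 := by omega
  rw [hd1, one_pow] at hcard
  have hall : ∀ f : F, f ∈ center F := by
    intro f
    have h4 : Subsingleton (F ⧸ center F) := (Nat.card_eq_one_iff_unique.mp hcard).1
    exact (QuotientGroup.eq_one_iff f).mp (Subsingleton.elim _ _)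
  have hle : ⁅F, R⁆ ≤ ⊥ := by
    rw [Subgroup.commutator_le]
    intro f hf a ha
    have h5 := congrArg Subtype.val (h.alpha_center ⟨a, ha⟩ (hall ⟨f, hf⟩))
    rw [alpha_coe] at h5
    have h6 : a * f * a⁻¹ = f := h5
    rw [Subgroup.mem_bot, commutatorElement_def]
    have h7 : f * a * f⁻¹ * a⁻¹ = f * (a * f * a⁻¹)⁻¹ := by group
    rw [h7, h6, mul_inv_cancel]
  rw [h.hcomm, le_bot_iff] at hle
  have h8 := h.hZ
  have h9 : Nat.card (center F) = 1 := by
    have h10 := Subgroup.card_le_card_group (center F)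
    have h11 : Nat.card F = 1 := by rw [hle]; exact Subgroup.card_bot
    rw [h11] at h10
    exact le_antisymm h10 Nat.card_pos
  rw [h9] at h8
  exact h.hs.one_lt.ne h8

/-- the arithmetic of the irreducible case -/
theorem arith_irr {m r d d0 o : ℕ} (hr : r.Prime) (hrm : r = 2 ^ m + 1) (hd2 : 2 ≤ d) (hodd : Odd d)
    (ho : o * r = d ^ 2 + (r - 1)) (hm : r * d0 ≤ d + (r - 1)) (hle : d ≤ d0 + 2 * m) : False := by
  have hr1 : 1 ≤ r := hr.pos
  obtain ⟨e, rfl⟩ : ∃ e, d = e + 1 := ⟨d - 1, by omega⟩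
  -- `r ∣ d ^ 2 - 1`
  have hdvd : r ∣ e * (e + 2) := by
    have h1 : e * (e + 2) + r = o * r := by
      rw [ho]
      have : (e + 1) ^ 2 = e * (e + 2) + 1 := by ring
      omega
    exact (Nat.dvd_add_left (dvd_refl r)).1 (h1 ▸ dvd_mul_left r o)
  -- `(r - 1) e ≤ 2 m r`
  have h2 : 2 ^ m * e ≤ 2 * m * (2 ^ m + 1) := by
    have h3 : r * (e + 1) ≤ r * d0 + r * (2 * m) := by
      calc r * (e + 1) ≤ r * (d0 + 2 * m) := Nat.mul_le_mul_left _ hle
        _ = r * d0 + r * (2 * m) := by ring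
    have h4 : r * (e + 1) ≤ (e + 1) + (r - 1) + r * (2 * m) := by omega
    rw [hrm] at h4
    rw [Nat.add_sub_cancel] at h4
    nlinarith
  have hlow : 2 ^ m ≤ e + 1 := by
    rcases hr.dvd_mul.1 hdvd with h | h
    · have := Nat.le_of_dvd (by omega) h
      omega
    · have := Nat.le_of_dvd (by omega) h
      omega
  have hm3 : m ≤ 3 := by
    by_contra hc
    push Not at hc
    -- `2 ^ m > 2 m + 2` for `m ≥ 4`
    have h4 : 2 * m + 3 < 2 ^ m := by
      obtain ⟨i, rfl⟩ : ∃ i, m = i + 4 := ⟨m - 4, by omega⟩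
      clear * -
      induction i with
      | zero => norm_num
      | succ i ih =>
        have h5 : 2 ^ (i + 1 + 4) = 2 * 2 ^ (i + 4) := by ring
        rw [h5]
        omega
    have h5 : 2 ^ m * (2 ^ m - 1) ≤ 2 * m * (2 ^ m + 1) := (Nat.mul_le_mul_left _ (by omega)).trans h2
    obtain ⟨x, hx⟩ : ∃ x, x = 2 ^ m := ⟨_, rfl⟩
    rw [← hx] at h4 h5
    obtain ⟨y, rfl⟩ : ∃ y, x = y + (2 * m + 4) := ⟨x - (2 * m + 4), by omega⟩
    have h6 : y + (2 * m + 4) - 1 = y + (2 * m + 3) := by omega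
    rw [h6] at h5
    nlinarith
  interval_cases m
  · simp at h2
    omega
  · have h3 : e ≤ 3 := by omega
    subst hrm
    interval_cases e <;> first
      | omega
      | (revert hodd; decide)
  · have h3 : e ≤ 5 := by omega
    subst hrm
    interval_cases e <;> first
      | omega
      | (revert hodd; decide)
  · rw [hrm] at hr
    norm_num at hr

/-- **The irreducible case.** -/
theorem irr_case (hH : (Nat.card H : E) ≠ 0) (σ : Representation E H V) (hσ : Irr σ) (A R : Subgroup H) [A.Normal]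
    (hAR : A ⊔ R = ⊤) {r q m : ℕ} (hr : r.Prime) (hrm : r = 2 ^ m + 1) (hR : Nat.card R = r) (hidx : A.index = r)
    (hq : q.Prime) (hq2 : q ≠ 2) (hqr : r ≠ q) (hA : IsPGroup q A) (hcomm : ⁅A, R⁆ = A)
    (h1 : ∀ x ∈ A, ∀ y ∈ A, ∀ z ∈ A, σ ⁅⁅x, y⁆, z⁆ = 1)
    (h2 : ∀ x ∈ A, ∀ y ∈ A, σ ⁅x ^ q, y⁆ = 1)
    (hrE : (r : E) ≠ 0) (hqE : (q : E) ≠ 0) (hne : ∃ x ∈ A, σ x ≠ 1)
    (hdim : finrank E V ≤ finrank E (fix σ R) + 2 * m) :
    Odd (finrank E V) ∧ finrank E (fix σ R) + 2 * m ≤ finrank E V := by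
  have hRA : R ≤ normalizer (A : Set H) := by rw [normalizer_eq_top A]; exact le_top
  by_cases hF : Irr (σ.comp A.subtype)
  · exfalso
    have hqf : Fact q.Prime := ⟨hq⟩
    have hRD := rd_img hr hq hqr hR hA hRA hcomm h1 h2 hrE hqE hF hne
    obtain ⟨-, hm2⟩ := mult hRD
    rw [fix_eq_range] at hm2
    have ho := hRD.card_orbits
    rw [hRD.card_eq] at ho
    have hodd : Odd (finrank E V) := by
      obtain ⟨n, hn⟩ := hRD.hF.exists_card_eq
      have h4 : finrank E V ^ 2 ∣ q ^ n := by
        rw [← hn, ← hRD.card_eq]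
        exact Subgroup.card_quotient_dvd_card _
      obtain ⟨k, -, hk⟩ := (Nat.dvd_prime_pow hq).mp ((dvd_pow_self _ (by norm_num)).trans h4)
      rw [hk]
      exact (hq.odd_of_ne_two hq2).pow
    exact arith_irr hr hrm (two_le hRD) hodd ho hm2 hdim
  · obtain ⟨t, ht, hfin, hfix⟩ := exists_ind hH σ hσ A R (by rw [hidx]; exact hr) (by rw [hidx, hR]) hAR hF
    rw [hidx] at hfin
    have h3 : 2 ^ m * t ≤ 2 * m := by
      rw [hfin, hrm] at hdim
      nlinarith
    have hm2 : m ≤ 2 := by
      by_contra hc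
      push Not at hc
      have h4 : 2 * m < 2 ^ m := by
        obtain ⟨i, rfl⟩ : ∃ i, m = i + 3 := ⟨m - 3, by omega⟩
        clear * -
        induction i with
        | zero => norm_num
        | succ i ih =>
          have h5 : 2 ^ (i + 1 + 3) = 2 * 2 ^ (i + 3) := by ring
          rw [h5]
          omega
      have h5 : 2 ^ m * 1 ≤ 2 ^ m * t := Nat.mul_le_mul_left _ ht
      omega
    have key : t = 1 ∧ 2 * m = 2 ^ m := by
      interval_cases m
      · simp at h3; omega
      · simp at h3 ⊢; omega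
      · simp at h3 ⊢; omega
    obtain ⟨rfl, hkey⟩ := key
    rw [mul_one] at hfin
    rw [hfin, hrm, ← hkey]
    refine ⟨⟨m, rfl⟩, ?_⟩
    omega

/-- **The case of an algebraically closed field.** -/
theorem closed (ρ : Representation E H V) [Nontrivial V] (A R : Subgroup H) [hAn : A.Normal]
    (hAR : A ⊔ R = ⊤) {r q m : ℕ} (hr : r.Prime) (hrm : r = 2 ^ m + 1) (hR : Nat.card R = r)
    (hq : q.Prime) (hq2 : q ≠ 2) (hqr : r ≠ q) (hA : IsPGroup q A) (hcomm : ⁅A, R⁆ = A)
    (h1 : ∀ x ∈ A, ∀ y ∈ A, ∀ z ∈ A, ρ ⁅⁅x, y⁆, z⁆ = 1)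
    (h2 : ∀ x ∈ A, ∀ y ∈ A, ρ ⁅x ^ q, y⁆ = 1)
    (hrE : (r : E) ≠ 0) (hqE : (q : E) ≠ 0) (hC : fix ρ A = ⊥) (heven : Even (finrank E V))
    (hdim : finrank E V ≤ finrank E (fix ρ R) + 2 * m) : False := by
  have hqf : Fact q.Prime := ⟨hq⟩
  obtain ⟨k, hk⟩ := hA.exists_card_eq
  have hcop : (Nat.card R).Coprime (Nat.card A) := by
    rw [hR, hk]
    exact Nat.Coprime.pow_right _ ((Nat.coprime_primes hr hq).mpr hqr)
  have hidx : A.index = r := by
    have hcomp : Subgroup.IsComplement' A R := by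
      refine Subgroup.isComplement'_of_disjoint_and_mul_eq_univ
        (Subgroup.disjoint_of_coprime_natCard hcop.symm) ?_
      rw [← Subgroup.normal_mul, hAR, Subgroup.coe_top]
    rw [hcomp.symm.index_eq_card, hR]
  have hHE : (Nat.card H : E) ≠ 0 := by
    rw [← A.card_mul_index, hidx, Nat.cast_mul, hk, Nat.cast_pow]
    exact mul_ne_zero (pow_ne_zero _ hqE) hrE
  obtain ⟨W, hW, hirr⟩ := Cfsg.Agent.H575.ExtraFix.exists_irr ρ
  obtain ⟨T, hT1, hT2, hT3⟩ := exists_proj ρ hHE W hW
  obtain ⟨σ, hσ⟩ : ∃ σ, σ = Cfsg.Agent.H575.Dim.sub ρ (MonoidHom.id H) W hW := ⟨_, rfl⟩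
  have hσc : ∀ (h : H) (w : W), ((σ h w : W) : V) = ρ h w := by
    intro h w
    rw [hσ]
    rfl
  rw [← hσ] at hirr
  obtain ⟨U, hU⟩ : ∃ U, U = LinearMap.ker T := ⟨_, rfl⟩
  have hUm : ∀ v, v ∈ U ↔ T v = 0 := fun v => by rw [hU, LinearMap.mem_ker]
  have hUi : ∀ h : H, ∀ u ∈ U, ρ h u ∈ U := by
    intro h u hu
    rw [hUm] at hu ⊢
    rw [hT1, hu, map_zero]
  have hrange : LinearMap.range T = W := by
    apply le_antisymm
    · rintro _ ⟨v, rfl⟩
      exact hT3 v
    · intro w hw
      exact ⟨w, hT2 w hw⟩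
  have hfr : finrank E W + finrank E U = finrank E V := by
    rw [← hrange, hU]
    exact LinearMap.finrank_range_add_finrank_ker T
  -- the fixed points
  have hfix : fix ρ R ≤ (W ⊓ fix ρ R) ⊔ (U ⊓ fix ρ R) := by
    intro v hv
    have h3 : T v ∈ fix ρ R := fun a ha => by rw [← hT1, hv a ha]
    have h4 : v - T v ∈ U := by rw [hUm, map_sub, hT2 _ (hT3 v), sub_self]
    have h5 : v = T v + (v - T v) := by abel
    rw [h5]
    exact Submodule.add_mem_sup ⟨hT3 v, h3⟩ ⟨h4, (fix ρ R).sub_mem hv h3⟩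
  have hfixle : finrank E (fix ρ R) ≤ finrank E (W ⊓ fix ρ R : Submodule E V) +
      finrank E (U ⊓ fix ρ R : Submodule E V) :=
    (Submodule.finrank_mono hfix).trans (Submodule.finrank_add_le_finrank_add_finrank _ _)
  have hfixW : finrank E (W ⊓ fix ρ R : Submodule E V) = finrank E (fix σ R) := by
    have h3 : (fix σ R).map W.subtype = W ⊓ fix ρ R := by
      ext v
      constructor
      · rintro ⟨w, hw, rfl⟩
        refine ⟨w.2, fun a ha => ?_⟩
        have h4 := congrArg Subtype.val (hw a ha)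
        rw [hσc] at h4
        exact h4
      · rintro ⟨hv, hv'⟩
        refine ⟨⟨v, hv⟩, fun a ha => Subtype.ext ?_, rfl⟩
        rw [hσc]
        exact hv' a ha
    rw [← h3]
    exact Submodule.finrank_map_subtype_eq W (fix σ R)
  have hfixU : finrank E (U ⊓ fix ρ R : Submodule E V) ≤ finrank E U := Submodule.finrank_mono inf_le_left
  have hne : ∃ x ∈ A, σ x ≠ 1 := by
    by_contra hcon
    push Not at hcon
    have hnt := hirr.1
    obtain ⟨w, hw⟩ := exists_ne (0 : W)
    apply hw
    have h3 : (w : V) ∈ fix ρ A := by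
      intro a ha
      rw [← hσc, hcon a ha, Module.End.one_apply]
    rw [hC, Submodule.mem_bot] at h3
    exact Subtype.ext h3
  have hone : ∀ g : H, ρ g = 1 → σ g = 1 := by
    intro g hg
    apply LinearMap.ext
    intro w
    apply Subtype.ext
    rw [hσc, hg, Module.End.one_apply, Module.End.one_apply]
  obtain ⟨hodd, hge⟩ := irr_case hHE σ hirr A R hAR hr hrm hR hidx hq hq2 hqr hA hcomm
    (fun x hx y hy z hz => hone _ (h1 x hx y hy z hz)) (fun x hx y hy => hone _ (h2 x hx y hy)) hrE hqE hne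
    (by rw [hfixW] at hfixle; omega)
  -- `R` is trivial on `U`
  have hUR : U ≤ fix ρ R := by
    have h3 : (U ⊓ fix ρ R : Submodule E V) = U :=
      Submodule.eq_of_le_of_finrank_le inf_le_left (by rw [hfixW] at hfixle; omega)
    rw [← h3]
    exact inf_le_right
  have hUA : U ≤ fix ρ A := by
    intro u hu a ha
    let K : Subgroup H :=
      { carrier := {g | ∀ u ∈ U, ρ g u = u}
        one_mem' := fun u _ => by rw [map_one, Module.End.one_apply]
        mul_mem' := fun {a b} ha hb u hu => by rw [mul_apply', hb u hu, ha u hu]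
        inv_mem' := fun {a} ha u hu => by
          have h3 := ha (ρ a⁻¹ u) (hUi _ u hu)
          rw [apply_inv] at h3
          exact h3.symm }
    have hle : ⁅A, R⁆ ≤ K := by
      rw [Subgroup.commutator_le]
      intro x _ b hb u hu
      rw [commutatorElement_def, mul_apply', mul_apply', mul_apply', hUR hu b⁻¹ (R.inv_mem hb),
        hUR (hUi _ u hu) b hb, apply_inv]
    rw [hcomm] at hle
    exact hle ha u hu
  have hU0 : finrank E U = 0 := by
    rw [hC, le_bot_iff] at hUA
    rw [hUA, finrank_bot]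
  rw [hU0, add_zero] at hfr
  rw [hfr] at hodd
  exact (Nat.not_even_iff_odd.2 hodd) heven

end Closed

open TensorProduct in
/-- **The general case.** -/
theorem ha_core {k : Type*} [Field k] {G Y : Type*} [Group G] [Finite G] [AddCommGroup Y]
    [Module k Y] [FiniteDimensional k Y] [Nontrivial Y] (ρ : Representation k G Y)
    (A R : Subgroup G) {r q m : ℕ} (hr : r.Prime) (hrm : r = 2 ^ m + 1) (hR : Nat.card R = r)
    (hq : q.Prime) (hq2 : q ≠ 2) (hqr : r ≠ q) (hA : IsPGroup q A)
    (hRA : R ≤ normalizer (A : Set G)) (hcomm : ⁅A, R⁆ = A)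
    (h1 : ∀ x ∈ A, ∀ y ∈ A, ∀ z ∈ A, ρ ⁅⁅x, y⁆, z⁆ = 1)
    (h2 : ∀ x ∈ A, ∀ y ∈ A, ρ ⁅x ^ q, y⁆ = 1)
    (hrk : (r : k) ≠ 0) (hqk : (q : k) ≠ 0) (hC : fix ρ A = ⊥)
    (heven : Even (finrank k Y)) (hdim : finrank k Y ≤ finrank k (fix ρ R) + 2 * m) : False := by
  classical
  let E := AlgebraicClosure k
  let K : Subgroup G := A ⊔ R
  let W := TensorProduct k E Y
  have hqf : Fact q.Prime := ⟨hq⟩
  have hAK : A ≤ K := le_sup_left
  have hRK : R ≤ K := le_sup_right
  have hcast : ∀ n : ℕ, (n : k) ≠ 0 → (n : E) ≠ 0 := by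
    intro n hn h0
    apply hn
    have : algebraMap k E (n : k) = 0 := by
      rw [map_natCast]
      exact h0
    exact (map_eq_zero _).mp this
  let π : Representation E K W :=
    { toFun := fun g => (ρ g).baseChange E
      map_one' := by
        rw [Subgroup.coe_one, map_one]
        exact LinearMap.baseChange_id
      map_mul' := by
        intro a b
        rw [Subgroup.coe_mul, map_mul]
        exact LinearMap.baseChange_comp _ _ }
  have hπ : ∀ g, π g = (ρ (g : G)).baseChange E := fun g => rfl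
  have hπ1 : ∀ g : K, ρ (g : G) = 1 → π g = 1 := by
    intro g hg
    rw [hπ, hg]
    exact LinearMap.baseChange_id
  have hfW : finrank E W = finrank k Y := Module.finrank_baseChange
  have hntW : Nontrivial W := by
    have h2 : 0 < finrank k Y := finrank_pos
    exact Module.nontrivial_of_finrank_pos (R := E) (by rw [hfW]; exact h2)
  have hAn : (A.subgroupOf K).Normal := by
    rw [Subgroup.normal_subgroupOf_iff_le_normalizer le_sup_left]
    exact sup_le Subgroup.le_normalizer hRA
  have hAR : A.subgroupOf K ⊔ R.subgroupOf K = ⊤ := by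
    rw [← Subgroup.subgroupOf_sup hAK hRK, Subgroup.subgroupOf_self]
  refine closed π (A.subgroupOf K) (R.subgroupOf K) hAR hr hrm ?_ hq hq2 hqr
    (hA.comap_of_injective _ K.subtype_injective) ?_ ?_ ?_ (hcast r hrk) (hcast q hqk) ?_ (by rw [hfW]; exact heven) ?_
  · rw [Nat.card_congr (Subgroup.subgroupOfEquivOfLe hRK).toEquiv, hR]
  · apply Subgroup.map_injective K.subtype_injective
    rw [Subgroup.map_commutator, Subgroup.subgroupOf_map_subtype, Subgroup.subgroupOf_map_subtype,
      inf_of_le_left hAK, inf_of_le_left hRK, hcomm]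
  · intro x hx y hy z hz
    exact hπ1 _ (h1 x hx y hy z hz)
  · intro x hx y hy
    exact hπ1 _ (h2 x hx y hy)
  · -- the fixed points of `A`
    have : Fintype A := Fintype.ofFinite A
    obtain ⟨n, hn⟩ := hA.exists_card_eq
    have hAE : (Nat.card A : E) ≠ 0 := by
      rw [hn, Nat.cast_pow]; exact pow_ne_zero _ (hcast q hqk)
    rw [eq_bot_iff]
    intro w hw
    rw [Submodule.mem_bot]
    have h3 : ∑ h : A, ρ (h : G) = 0 := by
      apply LinearMap.ext
      intro v
      rw [LinearMap.zero_apply, ← Submodule.mem_bot k, ← hC]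
      intro g hg
      rw [LinearMap.sum_apply, map_sum]
      refine Fintype.sum_bijective (fun y => ⟨g, hg⟩ * y) (Group.mulLeft_bijective _) _ _ fun y => ?_
      rw [← mul_apply']
      rfl
    have h4 : ∑ h : A, π ⟨h, hAK h.2⟩ w = 0 := by
      have h5 : ∑ h : A, π ⟨h, hAK h.2⟩ = (∑ h : A, ρ (h : G)).baseChange E := by
        simp only [hπ]
        exact (map_sum (LinearMap.baseChangeHom k E Y Y) _ _).symm
      rw [← LinearMap.sum_apply, h5, h3, LinearMap.baseChange_zero, LinearMap.zero_apply]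
    have h5 : ∑ h : A, π ⟨h, hAK h.2⟩ w = (Nat.card A : E) • w := by
      rw [Nat.card_eq_fintype_card, Nat.cast_smul_eq_nsmul, ← Finset.card_univ, ← Finset.sum_const]
      exact Finset.sum_congr rfl fun h _ => hw _ h.2
    rw [h4] at h5
    exact (smul_eq_zero.mp h5.symm).resolve_left hAE
  · -- the fixed points of `R`
    rw [hfW]
    refine hdim.trans (Nat.add_le_add_right ?_ _)
    have h3 : finrank E (TensorProduct k E (fix ρ R)) = finrank k (fix ρ R) := Module.finrank_baseChange
    rw [← h3]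
    let L : TensorProduct k E (fix ρ R) →ₗ[E] W := (fix ρ R).subtype.baseChange E
    have hL : Function.Injective L :=
      Module.Flat.lTensor_preserves_injective_linearMap (M := E) (fix ρ R).subtype (Submodule.subtype_injective _)
    have hLf : ∀ t, L t ∈ fix π (R.subgroupOf K) := by
      intro t a ha
      have h4 : (ρ (a : G)) ∘ₗ (fix ρ R).subtype = (fix ρ R).subtype := by
        apply LinearMap.ext
        intro v
        exact v.2 _ ha
      have h5 : (π a) ∘ₗ L = L := by
        show (ρ (a : G)).baseChange E ∘ₗ (fix ρ R).subtype.baseChange E = (fix ρ R).subtype.baseChange E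
        rw [← LinearMap.baseChange_comp, h4]
      exact LinearMap.congr_fun h5 t
    exact LinearMap.finrank_le_finrank_of_injective (f := L.codRestrict _ hLf)
      (fun a b hab => hL (congrArg Subtype.val hab))

end Cfsg.Agent.H813.TurullHa
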