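import Cfsg.Agent.H848.OctBase
import Cfsg.Prelude.Def_Classical

/-!
# Lattice vectors supported on an octad

In the coordinates given by an enumeration of the octad: `LL`, the integer vectors of length 8 with coordinates
of the same parity and sum divisible by four; `emb e : LL →+ leechLattice`.  The commutators `W8 o` of the sign change
are the classes of the vectors supported on the octad.
-/

set_option autoImplicit false

namespace Cfsg.Agent.H813.OctLat

open Cfsg
open Cfsg.Agent.SporadicA.Co0Mono hiding smul_add smul_sub smul_neg smul_zero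
open Cfsg.Agent.SporadicA.Co1Simple
open Cfsg.Agent.SporadicStructure.Co0Base (e8 e8_coe)
open Cfsg.Agent.SporadicStructure.LeechBase (red)
open Cfsg.Agent.CoOneType.SignFacts
open Cfsg.Agent.CoOneType.CoOneE (pr pr_surjective E mem_E)
open Cfsg.Agent.MonsterU.Lam2
open Cfsg.Agent.MonsterU.CoFrame
open Cfsg.Agent.MonsterU.CoFrameAct
open Cfsg.Agent.MonsterU.CoFrameL2
open Cfsg.Agent.H848.Dual (B sub perp mem_perp card_perp perp_perp exists_bf)
open Cfsg.Agent.H848.Oct
open Cfsg.Spor (Co1)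
open scoped Pointwise Matrix

/-! ### the lattice in coordinates -/

/-- coordinates of the same parity, sum divisible by four -/
def LL : AddSubgroup (Fin 8 → ℤ) where
  carrier := {f | (∀ i, (2 : ℤ) ∣ f i - f 0) ∧ (4 : ℤ) ∣ ∑ i, f i}
  zero_mem' := ⟨fun i => by simp, by simp⟩
  add_mem' := by
    rintro a b ⟨ha, ha'⟩ ⟨hb, hb'⟩
    refine ⟨fun i => ?_, ?_⟩
    · have := ha i
      have := hb i
      show (2 : ℤ) ∣ (a i + b i) - (a 0 + b 0)
      omega
    · show (4 : ℤ) ∣ ∑ i, (a i + b i)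
      rw [Finset.sum_add_distrib]
      exact dvd_add ha' hb'
  neg_mem' := by
    rintro a ⟨ha, ha'⟩
    refine ⟨fun i => ?_, ?_⟩
    · have := ha i
      show (2 : ℤ) ∣ (-a i) - (-a 0)
      omega
    · show (4 : ℤ) ∣ ∑ i, (-a i)
      rw [Finset.sum_neg_distrib]
      exact (dvd_neg).2 ha'

theorem mem_LL {f : Fin 8 → ℤ} : f ∈ LL ↔ (∀ i, (2 : ℤ) ∣ f i - f 0) ∧ (4 : ℤ) ∣ ∑ i, f i := Iff.rfl

/-- half of the difference to the first coordinate -/
theorem exists_half {f : Fin 8 → ℤ} (hf : f ∈ LL) :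
    ∃ x : Fin 8 → ℤ, (∀ i, f i = f 0 + 2 * x i) ∧ (2 : ℤ) ∣ ∑ i, x i := by
  choose x hx using hf.1
  have h1 : ∀ i, f i = f 0 + 2 * x i := fun i => by have := hx i; omega
  refine ⟨x, h1, ?_⟩
  have h2 : ∑ i, f i = 8 * f 0 + 2 * ∑ i, x i := by
    rw [Finset.sum_congr rfl (fun i _ => h1 i), Finset.sum_add_distrib, Finset.sum_const, Finset.mul_sum]
    simp
  have h3 := hf.2
  omega

theorem four_dvd_dot {f g : Fin 8 → ℤ} (hf : f ∈ LL) (hg : g ∈ LL) : (4 : ℤ) ∣ ∑ i, f i * g i := by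
  obtain ⟨x, hx, hx2⟩ := exists_half hf
  obtain ⟨y, hy, hy2⟩ := exists_half hg
  have h : ∑ i, f i * g i = 8 * (f 0 * g 0) + 2 * (f 0) * (∑ i, y i) + 2 * (g 0) * (∑ i, x i) +
      4 * ∑ i, x i * y i := by
    have h1 : ∀ i, f i * g i = f 0 * g 0 + 2 * f 0 * y i + 2 * g 0 * x i + 4 * (x i * y i) := by
      intro i
      rw [hx i, hy i]; ring
    rw [Finset.sum_congr rfl (fun i _ => h1 i), Finset.sum_add_distrib, Finset.sum_add_distrib,
      Finset.sum_add_distrib, Finset.sum_const, Finset.mul_sum, Finset.mul_sum, Finset.mul_sum]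
    simp
  obtain ⟨a, ha⟩ := hx2
  obtain ⟨b, hb⟩ := hy2
  rw [h, ha, hb]
  exact ⟨2 * (f 0 * g 0) + f 0 * b + g 0 * a + ∑ i, x i * y i, by ring⟩

theorem eight_dvd_norm {f : Fin 8 → ℤ} (hf : f ∈ LL) : (8 : ℤ) ∣ ∑ i, f i ^ 2 := by
  obtain ⟨x, hx, hx2⟩ := exists_half hf
  have h : ∑ i, f i ^ 2 = 8 * (f 0 ^ 2) + 4 * (f 0) * (∑ i, x i) + 4 * ∑ i, x i ^ 2 := by
    have h1 : ∀ i, f i ^ 2 = f 0 ^ 2 + 4 * f 0 * x i + 4 * (x i ^ 2) := by
      intro i
      rw [hx i]; ring
    rw [Finset.sum_congr rfl (fun i _ => h1 i), Finset.sum_add_distrib, Finset.sum_add_distrib,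
      Finset.sum_const, Finset.mul_sum, Finset.mul_sum]
    simp
  have h3 : (2 : ℤ) ∣ ∑ i, x i ^ 2 := by
    have h4 : (2 : ℤ) ∣ ∑ i, (x i ^ 2 - x i) := by
      apply Finset.dvd_sum
      intro i _
      have h5 : x i ^ 2 - x i = x i * (x i - 1) := by ring
      rw [h5]
      exact (Int.even_mul_pred_self (x i)).two_dvd
    rw [Finset.sum_sub_distrib] at h4
    omega
  obtain ⟨a, ha⟩ := hx2
  obtain ⟨b, hb⟩ := h3
  rw [h, ha, hb]
  exact ⟨f 0 ^ 2 + f 0 * a + b, by ring⟩

/-! ### extension by zero -/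

section
variable {o : golayCode} (e : Fin 8 ≃ {p // p ∈ sup o})

/-- extension by zero -/
def ext (f : Fin 8 → ℤ) : GolayPt → ℤ := fun p => if h : p ∈ sup o then f (e.symm ⟨p, h⟩) else 0

theorem ext_apply (f : Fin 8 → ℤ) (i : Fin 8) : ext e f (e i) = f i := by
  unfold ext
  rw [dif_pos (e i).2]
  congr 1
  exact e.symm_apply_apply i

theorem ext_out (f : Fin 8 → ℤ) {p : GolayPt} (h : p ∉ sup o) : ext e f p = 0 := by
  unfold ext
  rw [dif_neg h]

theorem ext_add (f g : Fin 8 → ℤ) (p : GolayPt) : ext e (f + g) p = ext e f p + ext e g p := by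
  unfold ext
  split_ifs
  · rfl
  · rfl

theorem sum_out (F : GolayPt → ℤ) (hF : ∀ p, p ∉ sup o → F p = 0) : ∑ p, F p = ∑ i, F (e i) := by
  classical
  rw [← Finset.sum_subset (Finset.subset_univ (sup o)) (fun p _ hp => hF p hp), ← Finset.sum_coe_sort (sup o) F]
  exact (Equiv.sum_comp e (fun p : {p // p ∈ sup o} => F p)).symm

theorem ext_mem {f : Fin 8 → ℤ} (hf : f ∈ LL) : (fun p => 2 * ext e f p) ∈ leechLattice := by
  apply Cfsg.Agent.SporadicStructure.Co0Base.two_mul_mem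
  · have h : red (ext e f) = ((f 0 : ℤ) : ZMod 2) • (o : GolayPt → ZMod 2) := by
      funext p
      rw [Cfsg.Agent.SporadicStructure.LeechBase.red_apply, Pi.smul_apply, smul_eq_mul]
      by_cases hp : p ∈ sup o
      · rw [(mem_sup o p).1 hp, mul_one]
        have h1 : ext e f p = f (e.symm ⟨p, hp⟩) := dif_pos hp
        rw [h1, ZMod.intCast_eq_intCast_iff_dvd_sub]
        have h2 := hf.1 (e.symm ⟨p, hp⟩)
        push_cast
        omega
      · rw [ext_out e f hp, (notMem_sup o p).1 hp, mul_zero]; rfl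
    rw [h]
    exact golayCode.smul_mem _ o.2
  · rw [sum_out e _ (fun p hp => ext_out e f hp)]
    simp only [ext_apply]
    exact hf.2

/-- the lattice vector -/
def emb : LL →+ leechLattice where
  toFun f := ⟨fun p => 2 * ext e f.1 p, ext_mem e f.2⟩
  map_zero' := by
    apply Subtype.ext
    funext p
    show 2 * ext e 0 p = 0
    unfold ext
    split_ifs <;> rfl
  map_add' := by
    intro f g
    apply Subtype.ext
    funext p
    show 2 * ext e (f.1 + g.1) p = 2 * ext e f.1 p + 2 * ext e g.1 p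
    rw [ext_add]; ring

theorem emb_coe (f : LL) (p : GolayPt) : (emb e f : GolayPt → ℤ) p = 2 * ext e f.1 p := rfl

theorem emb_apply (f : LL) (i : Fin 8) : (emb e f : GolayPt → ℤ) (e i) = 2 * f.1 i := by
  rw [emb_coe, ext_apply]

theorem emb_out (f : LL) {p : GolayPt} (h : p ∉ sup o) : (emb e f : GolayPt → ℤ) p = 0 := by
  rw [emb_coe, ext_out e _ h, mul_zero]

theorem dot_out (v w : GolayPt → ℤ) (hv : ∀ p, p ∉ sup o → v p = 0) :
    dotInt v w = ∑ i, v (e i) * w (e i) := by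
  unfold dotInt
  exact sum_out e _ (fun p hp => by rw [hv p hp, zero_mul])

theorem dot_emb (f g : LL) :
    dotInt (emb e f : GolayPt → ℤ) (emb e g : GolayPt → ℤ) = 4 * ∑ i, f.1 i * g.1 i := by
  rw [dot_out e _ _ (fun p hp => emb_out e f hp), Finset.mul_sum]
  refine Finset.sum_congr rfl fun i _ => ?_
  rw [emb_apply, emb_apply]; ring

theorem norm_emb (f : LL) : sqNorm (emb e f : GolayPt → ℤ) = 4 * ∑ i, f.1 i ^ 2 := by
  have h : sqNorm (emb e f : GolayPt → ℤ) = dotInt (emb e f : GolayPt → ℤ) (emb e f : GolayPt → ℤ) := by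
    unfold sqNorm dotInt
    exact Finset.sum_congr rfl fun i _ => sq _
  rw [h, dot_emb]
  congr 1
  exact Finset.sum_congr rfl fun i _ => (sq _).symm

theorem exists_emb (ho : wt o = 8) {v : leechLattice} (h : ∀ i, i ∉ sup o → (v : GolayPt → ℤ) i = 0) :
    ∃ f : LL, emb e f = v := by
  classical
  obtain ⟨p, hp⟩ : ∃ p, p ∉ sup o := by
    by_contra hc
    push Not at hc
    have h1 : sup o = Finset.univ := Finset.eq_univ_iff_forall.2 hc
    rw [wt, h1] at ho
    revert ho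
    decide
  obtain ⟨z, hz, hz4, hzv⟩ := Cfsg.Agent.Leech.FrameAux.even_form v.2 (i := p) (by rw [h p hp]; exact dvd_zero _)
  have hz0 : ∀ i, i ∉ sup o → z i = 0 := by
    intro i hi
    have := hzv i
    rw [h i hi] at this
    omega
  let c : golayCode := ⟨red z, hz⟩
  have hc : ∀ i, i ∈ sup c ↔ ¬ (2 : ℤ) ∣ z i := by
    intro i
    rw [← not_iff_not, notMem_sup, not_not]
    show ((z i : ℤ) : ZMod 2) = 0 ↔ _
    rw [ZMod.intCast_zmod_eq_zero_iff_dvd]
    push_cast
    rfl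
  have hsub : sup c ⊆ sup o := by
    intro i hi
    by_contra hi'
    rw [hc, hz0 i hi'] at hi
    exact hi (dvd_zero _)
  have hcard : wt c ≤ 8 := by
    rw [← ho]
    exact Finset.card_le_card hsub
  have hpar : ∀ i, (2 : ℤ) ∣ z (e i) - z (e 0) := by
    have h2 : (∀ i, i ∈ sup o → (2 : ℤ) ∣ z i) ∨ (∀ i, i ∈ sup o → ¬ (2 : ℤ) ∣ z i) := by
      rcases wt_cases c with h3 | h3 | h3 | h3 | h3
      · left
        intro i _
        have h4 : sup c = ∅ := Finset.card_eq_zero.1 h3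
        by_contra h5
        have h6 := (hc i).2 h5
        rw [h4] at h6
        exact absurd h6 (Finset.notMem_empty _)
      · right
        intro i hi
        have h4 : sup c = sup o := Finset.eq_of_subset_of_card_le hsub (by
          show wt o ≤ wt c
          rw [ho, h3])
        rw [← h4, hc] at hi
        exact hi
      · omega
      · omega
      · omega
    intro i
    rcases h2 with h2 | h2
    · exact dvd_sub (h2 _ (e i).2) (h2 _ (e 0).2)
    · have h3 := h2 _ (e i).2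
      have h4 := h2 _ (e 0).2
      omega
  refine ⟨⟨fun i => z (e i), hpar, ?_⟩, ?_⟩
  · rw [sum_out e z hz0] at hz4
    exact hz4
  · apply Subtype.ext
    funext q
    rw [hzv q]
    by_cases hq : q ∈ sup o
    · obtain ⟨i, hi⟩ := e.surjective ⟨q, hq⟩
      have hq' : (e i : GolayPt) = q := congrArg Subtype.val hi
      rw [← hq', emb_apply]
    · rw [emb_out e _ hq, hz0 q hq, mul_zero]

theorem emb_injective : Function.Injective (emb e) := by
  intro f g h
  apply Subtype.ext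
  funext i
  have h1 : (emb e f : GolayPt → ℤ) (e i) = (emb e g : GolayPt → ℤ) (e i) := by rw [h]
  rw [emb_apply, emb_apply] at h1
  omega

theorem cl_emb_eq_zero (ho : wt o = 8) {f : LL} : cl (emb e f) = 0 ↔ ∃ g : LL, f = 2 • g := by
  rw [cl_eq_zero]
  constructor
  · rintro ⟨u, hu⟩
    have h1 : ∀ p, p ∉ sup o → (u : GolayPt → ℤ) p = 0 := by
      intro p hp
      have h2 : (emb e f : GolayPt → ℤ) p = 2 * (u : GolayPt → ℤ) p := by
        rw [hu, two_nsmul]
        show (u : GolayPt → ℤ) p + (u : GolayPt → ℤ) p = _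
        ring
      rw [emb_out e f hp] at h2
      omega
    obtain ⟨g, rfl⟩ := exists_emb e ho h1
    refine ⟨g, emb_injective e ?_⟩
    rw [hu, map_nsmul]
  · rintro ⟨g, rfl⟩
    exact ⟨emb e g, map_nsmul _ _ _⟩

end

/-! ### the commutators of the sign change -/

theorem exists_enum {o : golayCode} (ho : wt o = 8) : Nonempty (Fin 8 ≃ {p // p ∈ sup o}) :=
  ⟨(Finset.equivFinOfCardEq ho).symm⟩

/-- the commutators are classes of vectors supported on the octad -/
theorem exists_supp {o : golayCode} {x : L2} (hx : x ∈ W8 o) :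
    ∃ v : leechLattice, (∀ i, i ∉ sup o → (v : GolayPt → ℤ) i = 0) ∧ cl v = x := by
  obtain ⟨y, rfl⟩ := hx
  obtain ⟨w, rfl⟩ := cl_surjective y
  refine ⟨signCo0 o • w - w, ?_, ?_⟩
  · intro i hi
    rw [coe_sub', sign_coe, if_neg hi]
    ring
  · rw [cl_sub]
    rfl

/-- the classes of vectors supported on the octad are commutators -/
theorem mem_W8_of_supp {o : golayCode} (ho : wt o = 8) {v : leechLattice}
    (h : ∀ i, i ∉ sup o → (v : GolayPt → ℤ) i = 0) : cl v ∈ W8 o := by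
  obtain ⟨e⟩ := exists_enum ho
  rw [← perp_W16, mem_perp]
  intro x hx
  obtain ⟨w, rfl⟩ := cl_surjective x
  rw [mem_W16] at hx
  have h1 : cl (signCo0 o • w) = cl w := hx
  obtain ⟨u, hu⟩ := cl_eq.1 h1
  have h2 : ∀ i, (if i ∈ sup o then -(w : GolayPt → ℤ) i else (w : GolayPt → ℤ) i) - (w : GolayPt → ℤ) i =
      2 * (u : GolayPt → ℤ) i := by
    intro i
    have h3 : ((signCo0 o • w - w : leechLattice) : GolayPt → ℤ) i = ((2 • u : leechLattice) : GolayPt → ℤ) i := by
      rw [hu]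
    rw [coe_sub', sign_coe, two_nsmul, coe_add'] at h3
    rw [h3]; ring
  have hu0 : ∀ i, i ∉ sup o → (u : GolayPt → ℤ) i = 0 := by
    intro i hi
    have h3 := h2 i
    rw [if_neg hi] at h3
    omega
  have hu1 : ∀ i, i ∈ sup o → (u : GolayPt → ℤ) i = - (w : GolayPt → ℤ) i := by
    intro i hi
    have h3 := h2 i
    rw [if_pos hi] at h3
    omega
  obtain ⟨f, rfl⟩ := exists_emb e ho h
  obtain ⟨g, hg⟩ := exists_emb e ho hu0
  rw [bf_cl_eq_zero]
  have h4 : dotInt (emb e f : GolayPt → ℤ) (w : GolayPt → ℤ) = - dotInt (emb e f : GolayPt → ℤ) (emb e g : GolayPt → ℤ) := by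
    rw [dot_out e _ _ (fun p hp => emb_out e f hp), dot_out e _ _ (fun p hp => emb_out e f hp),
      ← Finset.sum_neg_distrib]
    refine Finset.sum_congr rfl fun i _ => ?_
    rw [hg, hu1 _ (e i).2]
    ring
  rw [h4, dot_emb]
  obtain ⟨a, ha⟩ := four_dvd_dot f.2 g.2
  rw [ha]
  exact ⟨-a, by ring⟩

theorem mem_W8_iff {o : golayCode} (ho : wt o = 8) (e : Fin 8 ≃ {p // p ∈ sup o}) {x : L2} :
    x ∈ W8 o ↔ ∃ f : LL, cl (emb e f) = x := by
  constructor
  · intro hx
    obtain ⟨v, hv, rfl⟩ := exists_supp hx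
    obtain ⟨f, rfl⟩ := exists_emb e ho hv
    exact ⟨f, rfl⟩
  · rintro ⟨f, rfl⟩
    exact mem_W8_of_supp ho (fun i hi => emb_out e f hi)

/-- the classes are of type 0, 2, 4 -/
theorem type_W8 {o : golayCode} (ho : wt o = 8) {x : L2} (hx : x ∈ W8 o) : x = 0 ∨ IsType 2 x ∨ IsType 4 x := by
  obtain ⟨e⟩ := exists_enum ho
  obtain ⟨f, rfl⟩ := (mem_W8_iff ho e).1 hx
  have h1 : qf (cl (emb e f)) = 0 := by
    rw [qf_cl_eq_zero, norm_emb]
    obtain ⟨a, ha⟩ := eight_dvd_norm f.2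
    rw [ha]
    exact ⟨a, by ring⟩
  rcases type_cases (cl (emb e f)) with h | h | h | h
  · exact Or.inl h
  · exact Or.inr (Or.inl h)
  · exfalso
    obtain ⟨v, hv, hv'⟩ := h
    rw [← hv', qf_cl_eq_zero, hv] at h1
    norm_num at h1
  · exact Or.inr (Or.inr h)

end Cfsg.Agent.H813.OctLat
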