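import Cfsg.Agent.H813.OctLat

/-!
# The quadratic form on the commutators of the sign change on an octad

`q8 (cl (emb e f)) = (∑ f i ^ 2) / 8` modulo two, by descent.
-/

set_option autoImplicit false

namespace Cfsg.Agent.H813.OctQuad

open Cfsg
open Cfsg.Agent.CoOneType.SignFacts
open Cfsg.Agent.MonsterU.Lam2
open Cfsg.Agent.MonsterU.CoFrame
open Cfsg.Agent.MonsterU.CoFrameAct
open Cfsg.Agent.MonsterU.CoFrameL2
open Cfsg.Agent.H848.Oct
open Cfsg.Agent.H813.OctLat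
open Cfsg.Spor (Co1)

/-! ### types 2 and 4 are different -/

theorem sqNorm_eq (v : GolayPt → ℤ) : sqNorm v = dotInt v v := by
  unfold sqNorm dotInt
  exact Finset.sum_congr rfl fun i _ => sq _

theorem norm_zero_or (v : leechLattice) : v = 0 ∨ 32 ≤ sqNorm (v : GolayPt → ℤ) := by
  by_cases h : (v : GolayPt → ℤ) = 0
  · exact Or.inl (Subtype.ext h)
  · exact Or.inr (Cfsg.Agent.S0391.result _ v.2 h)

theorem not_isType_two_zero : ¬ IsType 2 (0 : L2) := by
  rintro ⟨v, hv, hv0⟩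
  obtain ⟨u, hu⟩ := cl_eq_zero.1 hv0
  have h1 : sqNorm (v : GolayPt → ℤ) = 4 * sqNorm (u : GolayPt → ℤ) := by
    rw [hu, two_nsmul, sqNorm_eq, sqNorm_eq, AddSubgroup.coe_add]
    unfold dotInt
    rw [Finset.mul_sum]
    refine Finset.sum_congr rfl fun i _ => ?_
    rw [Pi.add_apply]; ring
  have h2 := dvd_norm u
  omega

theorem norm_add_sub (a b : GolayPt → ℤ) : sqNorm (a + b) + sqNorm (a - b) = 2 * sqNorm a + 2 * sqNorm b := by
  unfold sqNorm
  rw [Finset.mul_sum, Finset.mul_sum, ← Finset.sum_add_distrib, ← Finset.sum_add_distrib]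
  refine Finset.sum_congr rfl fun i _ => ?_
  rw [Pi.add_apply, Pi.sub_apply]; ring

theorem norm_two (u : leechLattice) : sqNorm ((2 • u : leechLattice) : GolayPt → ℤ) = 4 * sqNorm (u : GolayPt → ℤ) := by
  rw [two_nsmul, sqNorm_eq, sqNorm_eq, AddSubgroup.coe_add]
  unfold dotInt
  rw [Finset.mul_sum]
  refine Finset.sum_congr rfl fun i _ => ?_
  rw [Pi.add_apply]; ring

theorem not_two_and_four {x : L2} (h2 : IsType 2 x) (h4 : IsType 4 x) : False := by
  obtain ⟨v, hv, rfl⟩ := h2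
  obtain ⟨w, hw, hwv⟩ := h4
  obtain ⟨u, hu⟩ := cl_eq.1 hwv
  have hplus : w + v = 2 • (u + v) := by
    rw [nsmul_add, ← hu, two_nsmul]; abel
  have h1 := norm_add_sub (w : GolayPt → ℤ) (v : GolayPt → ℤ)
  rw [← AddSubgroup.coe_add, ← AddSubgroup.coe_sub, hplus, hu, norm_two, norm_two, hv, hw] at h1
  rcases norm_zero_or u with h | h
  · rw [h, smul_zero, sub_eq_zero] at hu
    rw [hu, hv] at hw
    norm_num at hw
  · rcases norm_zero_or (u + v) with h' | h'
    · rw [h', smul_zero] at hplus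
      have h3 : w = -v := eq_neg_of_add_eq_zero_left hplus
      have h4 : sqNorm (w : GolayPt → ℤ) = sqNorm (v : GolayPt → ℤ) := by
        rw [h3]
        unfold sqNorm
        refine Finset.sum_congr rfl fun i _ => ?_
        show (-(v : GolayPt → ℤ) i) ^ 2 = _
        ring
      rw [h4, hv] at hw
      norm_num at hw
    · omega

/-! ### descent -/

theorem sum_sub_two (f g : Fin 8 → ℤ) :
    ∑ i, (f i - 2 * g i) ^ 2 = ∑ i, f i ^ 2 - 4 * ∑ i, f i * g i + 4 * ∑ i, g i ^ 2 := by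
  rw [Finset.mul_sum, Finset.mul_sum, ← Finset.sum_sub_distrib, ← Finset.sum_add_distrib]
  exact Finset.sum_congr rfl fun i _ => by ring

/-- the sign -/
def sg (a : ℤ) : ℤ := if 0 ≤ a then 1 else -1

theorem sg_cases (a : ℤ) : sg a = 1 ∨ sg a = -1 := by
  unfold sg; split_ifs <;> simp

theorem mul_sg (a : ℤ) : a * sg a = |a| := by
  unfold sg
  split_ifs with h
  · rw [mul_one, abs_of_nonneg h]
  · rw [abs_of_neg (not_le.1 h)]; ring

theorem sg_sq (a : ℤ) : sg a ^ 2 = 1 := by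
  rcases sg_cases a with h | h <;> rw [h] <;> norm_num

theorem descent {f : Fin 8 → ℤ} (hf : f ∈ LL) (h : 16 < ∑ i, f i ^ 2) :
    ∃ g ∈ LL, ∑ i, (f i - 2 * g i) ^ 2 < ∑ i, f i ^ 2 := by
  by_cases h1 : ∃ i j, i ≠ j ∧ 4 < |f i| + |f j|
  · obtain ⟨i, j, hij, h2⟩ := h1
    refine ⟨Pi.single i (2 * sg (f i)) + Pi.single j (2 * sg (f j)), ⟨?_, ?_⟩, ?_⟩
    · intro k
      rw [Pi.add_apply, Pi.add_apply, Pi.single_apply, Pi.single_apply, Pi.single_apply, Pi.single_apply]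
      split_ifs <;> omega
    · have h3 : ∑ k, (Pi.single i (2 * sg (f i)) + Pi.single j (2 * sg (f j)) : Fin 8 → ℤ) k =
          2 * sg (f i) + 2 * sg (f j) := by
        simp only [Pi.add_apply]
        rw [Finset.sum_add_distrib, Finset.sum_pi_single', Finset.sum_pi_single']
        simp
      rw [h3]
      rcases sg_cases (f i) with h4 | h4 <;> rcases sg_cases (f j) with h5 | h5 <;> rw [h4, h5] <;> norm_num
    · rw [sum_sub_two]
      have h3 : ∑ k, f k * (Pi.single i (2 * sg (f i)) + Pi.single j (2 * sg (f j)) : Fin 8 → ℤ) k =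
          2 * |f i| + 2 * |f j| := by
        simp only [Pi.add_apply, Pi.single_apply, mul_add, mul_ite, mul_zero]
        rw [Finset.sum_add_distrib]
        simp only [Finset.sum_ite_eq', Finset.mem_univ, if_true]
        rw [← mul_sg (f i), ← mul_sg (f j)]; ring
      have h4 : ∑ k, (Pi.single i (2 * sg (f i)) + Pi.single j (2 * sg (f j)) : Fin 8 → ℤ) k ^ 2 = 8 := by
        have h5 : ∀ k, (Pi.single i (2 * sg (f i)) + Pi.single j (2 * sg (f j)) : Fin 8 → ℤ) k ^ 2 =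
            (if k = i then 4 else 0) + (if k = j then 4 else 0) := by
          intro k
          simp only [Pi.add_apply, Pi.single_apply]
          by_cases hki : k = i
          · have hkj : k ≠ j := fun hc => hij (hki.symm.trans hc)
            rw [if_pos hki, if_neg hkj, if_pos hki, if_neg hkj, add_zero, add_zero, mul_pow, sg_sq]; norm_num
          · by_cases hkj : k = j
            · rw [if_neg hki, if_pos hkj, if_neg hki, if_pos hkj, zero_add, zero_add, mul_pow, sg_sq]; norm_num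
            · rw [if_neg hki, if_neg hkj, if_neg hki, if_neg hkj]; norm_num
        rw [Finset.sum_congr rfl (fun k _ => h5 k), Finset.sum_add_distrib]
        simp only [Finset.sum_ite_eq', Finset.mem_univ, if_true]
        norm_num
      rw [h3, h4]
      omega
  · push Not at h1
    -- all coordinates are at most two in absolute value
    have h2 : ∀ i, |f i| ≤ 2 := by
      intro i
      by_contra hc
      push Not at hc
      have h3 : ∑ j, f j ^ 2 = f i ^ 2 + ∑ j ∈ Finset.univ.erase i, f j ^ 2 :=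
        (Finset.add_sum_erase _ _ (Finset.mem_univ i)).symm
      have h4 : ∀ j, |f j| ≤ 4 := by
        intro j
        by_cases hji : j = i
        · subst hji
          obtain ⟨k, hk⟩ : ∃ k, k ≠ j := exists_ne j
          have := h1 k j hk
          have := abs_nonneg (f k)
          omega
        · have := h1 j i hji
          have := abs_nonneg (f i)
          omega
      have h5 : |f i| = 3 ∨ |f i| = 4 := by
        have := h4 i
        omega
      have hpar : ∀ j, (2 : ℤ) ∣ f j - f i := by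
        intro j
        have := hf.1 j
        have := hf.1 i
        omega
      rcases h5 with h5 | h5
      · have h6 : ∑ j ∈ Finset.univ.erase i, f j ^ 2 ≤ ∑ j ∈ Finset.univ.erase i, 1 := by
          apply Finset.sum_le_sum
          intro j hj
          have hji := Finset.ne_of_mem_erase hj
          have h7 := h1 j i hji
          rw [sq_le_one_iff_abs_le_one]
          omega
        rw [Finset.sum_const, Finset.card_erase_of_mem (Finset.mem_univ i), Finset.card_univ, Fintype.card_fin] at h6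
        have h7 : f i ^ 2 = 9 := by rw [← sq_abs, h5]; norm_num
        rw [h3, h7] at h
        norm_num at h6
        omega
      · have h6 : ∑ j ∈ Finset.univ.erase i, f j ^ 2 = 0 := by
          apply Finset.sum_eq_zero
          intro j hj
          have hji := Finset.ne_of_mem_erase hj
          have h7 := h1 j i hji
          have h8 : f j = 0 := abs_eq_zero.1 (le_antisymm (by omega) (abs_nonneg _))
          rw [h8]; norm_num
        have h7 : f i ^ 2 = 16 := by rw [← sq_abs, h5]; norm_num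
        rw [h3, h7, h6] at h
        omega
    -- the coordinates are even
    have h3 : ∀ i, (2 : ℤ) ∣ f i := by
      by_contra hc
      push Not at hc
      obtain ⟨i, hi⟩ := hc
      have h4 : ∑ j, f j ^ 2 ≤ ∑ j : Fin 8, 1 := by
        apply Finset.sum_le_sum
        intro j _
        rw [sq_le_one_iff_abs_le_one]
        have h5 := h2 j
        have h6 := hf.1 j
        have h7 := hf.1 i
        have h8 : ¬ (2 : ℤ) ∣ f j := by omega
        rw [abs_le] at h5 ⊢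
        omega
      rw [Finset.sum_const, Finset.card_univ, Fintype.card_fin] at h4
      norm_num at h4
      omega
    have h4 : ∀ i, f i = 0 ∨ |f i| = 2 := by
      intro i
      have h5 := h2 i
      have h6 := h3 i
      rcases abs_cases (f i) with ⟨h7, h8⟩ | ⟨h7, h8⟩ <;> omega
    have h5 : ∀ i, f i ^ 2 = 2 * |f i| := by
      intro i
      rcases h4 i with h6 | h6
      · rw [h6]; norm_num
      · rw [← sq_abs, h6]; norm_num
    have h6 : ∑ i, f i ^ 2 = 2 * ∑ i, |f i| := by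
      rw [Finset.mul_sum]
      exact Finset.sum_congr rfl fun i _ => h5 i
    have h7 : ∑ i, f i * sg (f i) = ∑ i, |f i| := Finset.sum_congr rfl fun i _ => mul_sg _
    have h8 : ∑ i, sg (f i) ^ 2 = 8 := by
      rw [Finset.sum_congr rfl fun i _ => sg_sq (f i)]
      simp
    have h9 : ∀ a : ℤ, ∃ t : ℤ, sg a = 1 - 2 * t := by
      intro a
      rcases sg_cases a with h | h
      · exact ⟨0, by omega⟩
      · exact ⟨1, by omega⟩
    have h8' := eight_dvd_norm hf
    have hsum2 : (2 : ℤ) ∣ ∑ i, sg (f i) := by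
      choose t ht using fun i => h9 (f i)
      rw [Finset.sum_congr rfl fun i _ => ht i, Finset.sum_sub_distrib, ← Finset.mul_sum]
      simp only [Finset.sum_const, Finset.card_univ, Fintype.card_fin]
      refine dvd_sub ?_ (dvd_mul_right _ _)
      norm_num
    by_cases h10 : (4 : ℤ) ∣ ∑ i, sg (f i)
    · refine ⟨fun i => sg (f i), ⟨fun i => ?_, h10⟩, ?_⟩
      · obtain ⟨t, ht⟩ := h9 (f i)
        obtain ⟨s, hs⟩ := h9 (f 0)
        show (2 : ℤ) ∣ sg (f i) - sg (f 0)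
        omega
      · rw [sum_sub_two, h7, h8]
        omega
    · -- flip one coordinate
      have key : ∀ k, (16 + 32 + 8 * |f k| - 16 < 2 * ∑ i, f i ^ 2) →
          ∃ g ∈ LL, ∑ i, (f i - 2 * g i) ^ 2 < ∑ i, f i ^ 2 := by
        intro k hk
        refine ⟨fun i => sg (f i) - 2 * (Pi.single k (sg (f k)) : Fin 8 → ℤ) i, ⟨fun i => ?_, ?_⟩, ?_⟩
        · obtain ⟨t, ht⟩ := h9 (f i)
          obtain ⟨s, hs⟩ := h9 (f 0)
          show (2 : ℤ) ∣ (sg (f i) - 2 * (Pi.single k (sg (f k)) : Fin 8 → ℤ) i) -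
            (sg (f 0) - 2 * (Pi.single k (sg (f k)) : Fin 8 → ℤ) 0)
          omega
        · show (4 : ℤ) ∣ ∑ i, (sg (f i) - 2 * (Pi.single k (sg (f k)) : Fin 8 → ℤ) i)
          rw [Finset.sum_sub_distrib, ← Finset.mul_sum, Finset.sum_pi_single']
          simp only [Finset.mem_univ, if_true]
          obtain ⟨s, hs⟩ := h9 (f k)
          omega
        · rw [sum_sub_two]
          have h11 : ∑ i, f i * (sg (f i) - 2 * (Pi.single k (sg (f k)) : Fin 8 → ℤ) i) =
              ∑ i, |f i| - 2 * |f k| := by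
            simp only [mul_sub, Finset.sum_sub_distrib]
            rw [h7]
            congr 1
            simp only [Pi.single_apply, mul_ite, mul_zero, Finset.sum_ite_eq', Finset.mem_univ, if_true]
            rw [← mul_sg]; ring
          have h12 : ∑ i, (sg (f i) - 2 * (Pi.single k (sg (f k)) : Fin 8 → ℤ) i) ^ 2 = 8 := by
            have h13 : ∀ i, (sg (f i) - 2 * (Pi.single k (sg (f k)) : Fin 8 → ℤ) i) ^ 2 = 1 := by
              intro i
              rw [Pi.single_apply]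
              split_ifs with hik
              · rw [hik]
                have := sg_sq (f k)
                linear_combination this
              · rw [mul_zero, sub_zero, sg_sq]
            rw [Finset.sum_congr rfl fun i _ => h13 i]
            simp
          rw [h11, h12]
          omega
      by_cases h11 : ∃ k, f k = 0
      · obtain ⟨k, hk⟩ := h11
        refine key k ?_
        rw [hk, abs_zero]
        omega
      · push Not at h11
        have h12 : ∑ i, f i ^ 2 = 32 := by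
          have h13 : ∀ i, f i ^ 2 = 4 := by
            intro i
            rcases h4 i with h6 | h6
            · exact absurd h6 (h11 i)
            · rw [← sq_abs, h6]; norm_num
          rw [Finset.sum_congr rfl fun i _ => h13 i]
          simp
        refine key 0 ?_
        have := h2 0
        omega

/-! ### the value of the characteristic function -/

/-- the form in coordinates -/
def qL (f : Fin 8 → ℤ) : ZMod 2 := (((∑ i, f i ^ 2) / 8 : ℤ) : ZMod 2)

theorem qL_eq {f : Fin 8 → ℤ} {a : ℤ} (h : ∑ i, f i ^ 2 = 8 * a) : qL f = a := by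
  rw [qL, h, Int.mul_ediv_cancel_left _ (by norm_num)]

theorem qL_sub_two {f g : Fin 8 → ℤ} (hf : f ∈ LL) (hg : g ∈ LL) :
    qL (fun i => f i - 2 * g i) = qL f := by
  obtain ⟨a, ha⟩ := eight_dvd_norm hf
  obtain ⟨b, hb⟩ := eight_dvd_norm hg
  obtain ⟨c, hc⟩ := four_dvd_dot hf hg
  have h := sum_sub_two f g
  rw [ha, hb, hc] at h
  rw [qL_eq ha, qL_eq (a := a - 2 * c + 4 * b) (by rw [h]; ring), ZMod.intCast_eq_intCast_iff_dvd_sub]
  exact ⟨c - 2 * b, by push_cast; ring⟩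

theorem q8_eq_one {x : L2} (h : IsType 2 x) : q8 x = 1 := if_pos h

theorem q8_eq_zero {x : L2} (h : ¬ IsType 2 x) : q8 x = 0 := if_neg h

/-- **The characteristic function of the classes of type 2.** -/
theorem q8_cl_emb {o : golayCode} (e : Fin 8 ≃ {p // p ∈ sup o}) (f : LL) : q8 (cl (emb e f)) = qL f.1 := by
  obtain ⟨n, hn⟩ : ∃ n : ℕ, n = (∑ i, f.1 i ^ 2).toNat := ⟨_, rfl⟩
  induction n using Nat.strong_induction_on generalizing f with
  | _ n ih =>
    have hpos : 0 ≤ ∑ i, f.1 i ^ 2 := Finset.sum_nonneg fun i _ => sq_nonneg _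
    by_cases h16 : 16 < ∑ i, f.1 i ^ 2
    · obtain ⟨g, hg, hlt⟩ := descent f.2 h16
      let G : LL := ⟨g, hg⟩
      have h1 : ∀ i, (f - 2 • G).1 i = f.1 i - 2 * g i := by
        intro i
        rw [two_nsmul]
        show f.1 i - (g i + g i) = _
        ring
      have h2 : ∑ i, (f - 2 • G).1 i ^ 2 = ∑ i, (f.1 i - 2 * g i) ^ 2 :=
        Finset.sum_congr rfl fun i _ => by rw [h1 i]
      have h3 := ih ((∑ i, (f - 2 • G).1 i ^ 2).toNat) (by
        rw [h2, hn]
        have : 0 ≤ ∑ i, (f.1 i - 2 * g i) ^ 2 := Finset.sum_nonneg fun i _ => sq_nonneg _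
        omega) (f - 2 • G) rfl
      have h4 : cl (emb e (f - 2 • G)) = cl (emb e f) := by
        rw [map_sub, map_sub, map_nsmul, cl_two, sub_zero]
      rw [h4] at h3
      rw [h3, ← qL_sub_two f.2 hg]
      exact congrArg qL (funext h1)
    · obtain ⟨a, ha⟩ := eight_dvd_norm f.2
      have hnorm := norm_emb e f
      have h3 : a = 0 ∨ a = 1 ∨ a = 2 := by omega
      rw [qL_eq ha]
      rcases h3 with rfl | rfl | rfl
      · have h4 : (emb e f) = 0 := by
          rcases norm_zero_or (emb e f) with h5 | h5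
          · exact h5
          · rw [hnorm, ha] at h5
            norm_num at h5
        rw [h4, map_zero, q8_eq_zero not_isType_two_zero]
        rfl
      · rw [q8_eq_one ⟨emb e f, by rw [hnorm, ha]; norm_num, rfl⟩]
        rfl
      · rw [q8_eq_zero fun h5 => not_two_and_four h5 ⟨emb e f, by rw [hnorm, ha]; norm_num, rfl⟩]
        rfl

/-! ### the hyperbolic basis -/

/-- the basis -/
def bA : Fin 4 → Fin 8 → ℤ :=
  ![![4, 0, 0, 0, 0, 0, 0, 0], ![2, 2, 2, 2, 0, 0, 0, 0], ![2, 2, 0, 0, 2, 2, 0, 0], ![2, 0, 2, 0, 2, 0, 2, 0]]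

/-- the dual basis -/
def bB : Fin 4 → Fin 8 → ℤ :=
  ![![1, 1, 1, 1, 1, 1, 1, -3], ![2, 2, 2, 0, 0, 0, 0, 2], ![2, 2, 0, 0, 0, 2, 2, 0], ![2, 0, 0, 2, 0, 2, 0, 2]]

theorem bA_mem : ∀ i, bA i ∈ LL := by
  intro i
  fin_cases i <;> exact ⟨by decide, by decide⟩

theorem bB_mem : ∀ i, bB i ∈ LL := by
  intro i
  fin_cases i <;> exact ⟨by decide, by decide⟩

/-- the basis, as elements of the lattice -/
def bas : Fin 4 ⊕ Fin 4 → LL := Sum.elim (fun i => ⟨bA i, bA_mem i⟩) (fun i => ⟨bB i, bB_mem i⟩)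

theorem ev {g0 g : ℤ} (a0 : (8:ℤ) ∣ 4 * g0) (p : (2:ℤ) ∣ g - g0) : ∃ h, g = 2 * h := by
  have : (2:ℤ) ∣ g := by omega
  exact this

theorem four_eight {a b c d : ℤ} (h : (8:ℤ) ∣ 2 * (2 * a) + 2 * (2 * b) + 2 * (2 * c) + 2 * (2 * d)) :
    (2:ℤ) ∣ a + b + c + d := by
  obtain ⟨k, hk⟩ := h
  exact ⟨k, by omega⟩

theorem two_of {s t a b : ℤ} (hs : (2:ℤ) ∣ s) (ht : (2:ℤ) ∣ t) (u : ℤ) (h : a - b = s + t + 2 * u) :
    (2:ℤ) ∣ a - b := by
  rw [h]
  exact dvd_add (dvd_add hs ht) (dvd_mul_right _ _)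

theorem int_half (g0 g1 g2 g3 g4 g5 g6 g7 : ℤ) 
  (p1 : (2:ℤ) ∣ g1 - g0) (p2 : (2:ℤ) ∣ g2 - g0) (p3 : (2:ℤ) ∣ g3 - g0) (p4 : (2:ℤ) ∣ g4 - g0)
  (p5 : (2:ℤ) ∣ g5 - g0) (p6 : (2:ℤ) ∣ g6 - g0) (p7 : (2:ℤ) ∣ g7 - g0)
  (a0 : (8:ℤ) ∣ 4 * g0) (a1 : (8:ℤ) ∣ 2 * g0 + 2 * g1 + 2 * g2 + 2 * g3) (a2 : (8:ℤ) ∣ 2 * g0 + 2 * g1 + 2 * g4 + 2 * g5)
  (a3 : (8:ℤ) ∣ 2 * g0 + 2 * g2 + 2 * g4 + 2 * g6) (b0 : (8:ℤ) ∣ g0 + g1 + g2 + g3 + g4 + g5 + g6 - 3 * g7)
  (b1 : (8:ℤ) ∣ 2 * g0 + 2 * g1 + 2 * g2 + 2 * g7) (b2 : (8:ℤ) ∣ 2 * g0 + 2 * g1 + 2 * g5 + 2 * g6)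
  (b3 : (8:ℤ) ∣ 2 * g0 + 2 * g3 + 2 * g5 + 2 * g7) :
  (∃ h0 h1 h2 h3 h4 h5 h6 h7 : ℤ, g0 = 2 * h0 ∧ g1 = 2 * h1 ∧ g2 = 2 * h2 ∧ g3 = 2 * h3 ∧ g4 = 2 * h4 ∧ g5 = 2 * h5 ∧ 
    g6 = 2 * h6 ∧ g7 = 2 * h7 ∧ 2 ∣ h1 - h0 ∧ 2 ∣ h2 - h0 ∧ 2 ∣ h3 - h0 ∧ 2 ∣ h4 - h0 ∧ 2 ∣ h5 - h0 ∧ 2 ∣ h6 - h0 ∧ 
    2 ∣ h7 - h0 ∧ 4 ∣ h0 + h1 + h2 + h3 + h4 + h5 + h6 + h7) := by
  obtain ⟨h0, rfl⟩ := ev a0 (show (2:ℤ) ∣ g0 - g0 by rw [sub_self]; exact dvd_zero _)
  obtain ⟨h1, rfl⟩ := ev a0 p1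
  obtain ⟨h2, rfl⟩ := ev a0 p2
  obtain ⟨h3, rfl⟩ := ev a0 p3
  obtain ⟨h4, rfl⟩ := ev a0 p4
  obtain ⟨h5, rfl⟩ := ev a0 p5
  obtain ⟨h6, rfl⟩ := ev a0 p6
  obtain ⟨h7, rfl⟩ := ev a0 p7
  have e1 := four_eight a1
  have e2 := four_eight a2
  have e3 := four_eight a3
  have e4 := four_eight b1
  have e5 := four_eight b2
  have e6 := four_eight b3
  clear p1 p2 p3 p4 p5 p6 p7 a0 a1 a2 a3 b1 b2 b3
  have f1 : (2:ℤ) ∣ h3 - h7 := two_of e1 e4 (- (h0 + h1 + h2 + h7)) (by ring)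
  have f2 : (2:ℤ) ∣ h4 - h6 := two_of e2 e5 (- (h0 + h1 + h5 + h6)) (by ring)
  have f3 : (2:ℤ) ∣ h0 - h5 := two_of e6 f1 (- h3 - h5) (by ring)
  have f4 : (2:ℤ) ∣ h0 - h2 := two_of e3 f2 (- h4 - h2) (by ring)
  have f5 : (2:ℤ) ∣ h1 - h3 := two_of e1 f4 (- h3 - h0) (by ring)
  have f6 : (2:ℤ) ∣ h1 - h4 := two_of e2 f3 (- h4 - h0) (by ring)
  have e7 : (4:ℤ) ∣ h0 + h1 + h2 + h3 + h4 + h5 + h6 + h7 := by
    obtain ⟨k, hk⟩ := b0
    exact ⟨k + h7, by omega⟩
  clear b0 e1 e2 e3 e4 e5 e6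
  have e8 : (2:ℤ) ∣ h0 + h1 + h2 + h3 + h4 + h5 + h6 + h7 := dvd_trans (by norm_num) e7
  have f7 : (2:ℤ) ∣ h1 - h7 := by clear e7 e8 f2 f3 f4 f6; omega
  have f8 : (2:ℤ) ∣ h1 - h6 := by clear e7 e8 f1 f3 f4 f5; omega
  have f9 : (2:ℤ) ∣ h1 - h0 := by
    obtain ⟨a, ha⟩ := f3
    obtain ⟨b, hb⟩ := f4
    obtain ⟨c, hc⟩ := f5
    obtain ⟨d, hd⟩ := f6
    obtain ⟨x, hx⟩ := f7
    obtain ⟨y, hy⟩ := f8
    obtain ⟨z, hz⟩ := e8
    exact ⟨z - 2 * h1 - 2 * h0 + a + b + c + d + x + y, by linarith⟩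
  refine ⟨h0, h1, h2, h3, h4, h5, h6, h7, rfl, rfl, rfl, rfl, rfl, rfl, rfl, rfl, f9, ?_, ?_, ?_, ?_, ?_, ?_, e7⟩
  · exact (dvd_sub_comm).1 f4
  · exact two_of f9 f5 (-(h1 - h3)) (by ring)
  · exact two_of f9 f6 (-(h1 - h4)) (by ring)
  · exact (dvd_sub_comm).1 f3
  · exact two_of f9 f8 (-(h1 - h6)) (by ring)
  · exact two_of f9 f7 (-(h1 - h7)) (by ring)

/-- half of a vector orthogonal to the basis -/
theorem half_of_orth {g : Fin 8 → ℤ} (hg : g ∈ LL) (hA : ∀ k, (8 : ℤ) ∣ ∑ i, g i * bA k i)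
    (hB : ∀ k, (8 : ℤ) ∣ ∑ i, g i * bB k i) : ∃ h ∈ LL, ∀ i, g i = 2 * h i := by
  have a0 := hA 0
  have a1 := hA 1
  have a2 := hA 2
  have a3 := hA 3
  have b0 := hB 0
  have b1 := hB 1
  have b2 := hB 2
  have b3 := hB 3
  have hp := hg.1
  rw [Fin.sum_univ_eight] at a0 a1 a2 a3 b0 b1 b2 b3
  obtain ⟨h0, h1, h2, h3, h4, h5, h6, h7, e0, e1, e2, e3, e4, e5, e6, e7, f1, f2, f3, f4, f5, f6, f7, hs⟩ :=
    int_half (g 0) (g 1) (g 2) (g 3) (g 4) (g 5) (g 6) (g 7) (hp 1) (hp 2) (hp 3) (hp 4) (hp 5) (hp 6) (hp 7)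
      (by convert a0 using 1; simp [bA]; ring) (by convert a1 using 1; simp [bA]; ring)
      (by convert a2 using 1; simp [bA]; ring) (by convert a3 using 1; simp [bA]; ring)
      (by convert b0 using 1; simp [bB]; ring) (by convert b1 using 1; simp [bB]; ring)
      (by convert b2 using 1; simp [bB]; ring) (by convert b3 using 1; simp [bB]; ring)
  refine ⟨![h0, h1, h2, h3, h4, h5, h6, h7], ⟨?_, ?_⟩, ?_⟩
  · intro i
    fin_cases i
    exacts [by simp, f1, f2, f3, f4, f5, f6, f7]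
  · rw [Fin.sum_univ_eight]
    exact hs
  · intro i
    fin_cases i
    exacts [e0, e1, e2, e3, e4, e5, e6, e7]

/-- the combinations of the basis -/
def comb (x y : Fin 4 → ZMod 2) (i : Fin 8) : ℤ :=
  ∑ k, ((x k).val : ℤ) * bA k i + ∑ k, ((y k).val : ℤ) * bB k i

theorem comb_norm : ∀ x y : Fin 4 → ZMod 2, qL (comb x y) = ∑ k, x k * y k := by
  decide +kernel

theorem comb_A : ∀ (x y : Fin 4 → ZMod 2) (k : Fin 4),
    (8 : ℤ) ∣ ∑ i, comb x y i * bA k i - 4 * ((y k).val : ℤ) := by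
  decide +kernel

theorem comb_B : ∀ (x y : Fin 4 → ZMod 2) (k : Fin 4),
    (8 : ℤ) ∣ ∑ i, comb x y i * bB k i - 4 * ((x k).val : ℤ) := by
  decide +kernel

end Cfsg.Agent.H813.OctQuad
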