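import Cfsg.Agent.H938.Sax.Base

/-!
# Abstract part of the row `PSp_4(2^f)` (helper813, for S2498, S2528)
-/

set_option autoImplicit false

namespace Cfsg.Agent.H813.SaxSp

open Subgroup Cfsg.Agent.H938.Sax

/-- An element order of a group is an element order of a subgroup without order gap. -/
theorem exists_of_not_ordGap {T : Type*} [Group T] {M : Subgroup T} (h : ¬ OrdGap T M) {z : T} {n : ℕ}
    (hz : orderOf z = n) : ∃ w ∈ M, orderOf w = n := by
  obtain ⟨w, hw, ho⟩ := exists_order_of_not_ordGap h z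
  exact ⟨w, hw, ho.trans hz⟩

/-- **The missing class.** `g` has order `r ^ a` and commutes with no involution, there is an element of order `2 r ^ a`
and the order of `M` is not divisible by `r ^ (a + 1)`. -/
theorem not_mem_of {T : Type*} [Group T] [Finite T] {M : Subgroup T} (hOG : ¬ OrdGap T M) {r a : ℕ} (hr : r.Prime)
    (hr2 : r ≠ 2) {g z : T} (hg : orderOf g = r ^ a) (hgc : ∀ y : T, y ^ 2 = 1 → y * g = g * y → y = 1)
    (hz : orderOf z = 2 * r ^ a) (hM : ¬ r ^ (a + 1) ∣ Nat.card M) : g ∉ M := by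
  intro hgM
  have hrf : Fact r.Prime := ⟨hr⟩
  obtain ⟨w, hwM, hw⟩ := exists_of_not_ordGap hOG hz
  have hodd : Odd (r ^ a) := (hr.odd_of_ne_two hr2).pow
  have hra : 0 < r ^ a := Nat.pow_pos hr.pos
  -- `w ^ 2` has order `r ^ a`
  have hy : orderOf (w ^ 2) = r ^ a := by
    rw [orderOf_pow_of_dvd two_ne_zero ⟨_, hw⟩, hw, Nat.mul_div_cancel_left _ two_pos]
  have hi : orderOf (w ^ (r ^ a)) = 2 := by
    rw [orderOf_pow_of_dvd hra.ne' ⟨2, by rw [hw, mul_comm]⟩, hw, Nat.mul_div_cancel _ hra]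
  -- two Sylow `r`-subgroups
  have hcard : ∀ x : M, orderOf x = r ^ a → ∃ P : Sylow r M, (P : Subgroup M) = zpowers x := by
    intro x hx
    have hpg : IsPGroup r (zpowers x) := IsPGroup.of_card (n := a) (by rw [Nat.card_zpowers, hx])
    obtain ⟨P, hP⟩ := hpg.exists_le_sylow
    obtain ⟨k, hk⟩ := (P.2).exists_card_eq
    refine ⟨P, ?_⟩
    symm
    apply Subgroup.eq_of_le_of_card_ge hP
    rw [Nat.card_zpowers, hx]
    have hk' : Nat.card (P : Subgroup M) = r ^ k := hk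
    rw [hk']
    apply Nat.pow_le_pow_right hr.pos
    by_contra hc
    push Not at hc
    apply hM
    have h1 : r ^ k ∣ Nat.card M := hk' ▸ Subgroup.card_subgroup_dvd_card (P : Subgroup M)
    exact (pow_dvd_pow r hc).trans h1
  obtain ⟨P, hP⟩ := hcard ⟨g, hgM⟩ (by rw [Subgroup.orderOf_mk, hg])
  obtain ⟨Q, hQ⟩ := hcard (⟨w, hwM⟩ ^ 2) (by
    rw [← hy, ← Subgroup.orderOf_coe]
    rfl)
  obtain ⟨m, hm⟩ := MulAction.exists_smul_eq M Q P
  -- the conjugate involution commutes with `g`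
  have h1 : (⟨g, hgM⟩ : M) ∈ (m • Q : Sylow r M) := by
    rw [hm]
    show (⟨g, hgM⟩ : M) ∈ (P : Subgroup M)
    rw [hP]
    exact mem_zpowers _
  have h2 : m⁻¹ * (⟨g, hgM⟩ : M) * m ∈ (Q : Subgroup M) := by
    have h3 : (⟨g, hgM⟩ : M) ∈ (Q : Subgroup M).map (MulAut.conj m).toMonoidHom := h1
    obtain ⟨u, hu, hug⟩ := h3
    have h4 : m * u * m⁻¹ = ⟨g, hgM⟩ := hug
    rw [← h4]
    have : m⁻¹ * (m * u * m⁻¹) * m = u := by group
    rw [this]
    exact hu
  rw [hQ] at h2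
  obtain ⟨k, hk⟩ := h2
  have hk' : ((w ^ 2) ^ k : T) = (m : T)⁻¹ * g * m := congrArg Subtype.val hk
  have hcomm : Commute (w ^ (r ^ a)) ((m : T)⁻¹ * g * m) := by
    rw [← hk']
    exact ((Commute.refl w).pow_pow _ _).zpow_right k
  have h5 := hgc ((m : T) * w ^ (r ^ a) * (m : T)⁻¹) (by
    rw [conj_pow, ← hi, pow_orderOf_eq_one, mul_one, mul_inv_cancel]) (by
    have h6 : g = (m : T) * ((m : T)⁻¹ * g * m) * (m : T)⁻¹ := by group
    calc (m : T) * w ^ (r ^ a) * (m : T)⁻¹ * g = (m : T) * (w ^ (r ^ a) * ((m : T)⁻¹ * g * m)) * (m : T)⁻¹ := by group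
      _ = (m : T) * (((m : T)⁻¹ * g * m) * w ^ (r ^ a)) * (m : T)⁻¹ := by rw [hcomm.eq]
      _ = g * ((m : T) * w ^ (r ^ a) * (m : T)⁻¹) := by group)
  have h7 : w ^ (r ^ a) = 1 := by
    have h8 : (m : T) * w ^ (r ^ a) = m := by rwa [mul_inv_eq_one] at h5
    exact mul_eq_left.1 h8
  rw [h7, orderOf_one] at hi
  omega

theorem miss_of {T : Type*} [Group T] [Finite T] {M : Subgroup T} {r a : ℕ} (hr : r.Prime)
    (hr2 : r ≠ 2) {g z : T} (hg : orderOf g = r ^ a) (hgc : ∀ y : T, y ^ 2 = 1 → y * g = g * y → y = 1)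
    (hz : orderOf z = 2 * r ^ a) (hM : ¬ OrdGap T M → ¬ r ^ (a + 1) ∣ Nat.card M) : Miss T M := by
  by_cases hOG : OrdGap T M
  · exact hOG.miss
  refine ⟨g, fun φ => ?_⟩
  refine not_mem_of hOG hr hr2 (g := φ g) (z := z) (by rw [orderOf_mulEquiv, hg]) (fun y hy hyg => ?_) hz (hM hOG)
  apply φ.symm.injective
  rw [map_one]
  apply hgc
  · rw [← map_pow, hy, map_one]
  · apply φ.injective
    rw [map_mul, map_mul, φ.apply_symm_apply, hyg]

/-- **Sections.** `q = 2 ^ f`; `s` is a primitive prime divisor of `2 ^ (4 f) - 1`. -/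
theorem section_of {T : Type*} [Group T] [Finite T] {f s : ℕ} (hs : s.Prime)
    (hs2 : ∀ j, s ∣ 2 ^ j - 1 ↔ 4 * f ∣ j) (hf : 1 < f)
    (hodd : ∀ v k : ℕ, v.Prime → v ≠ 2 → v ^ k ∣ (2 ^ f) ^ 4 - 1 → ∃ x : T, orderOf x = v ^ k)
    (hsc : ∀ x : T, orderOf x = s → ∀ y : T, y ^ 2 = 1 → y * x = x * y → y = 1)
    (hmax : ∀ M : Subgroup T, IsCoatom M → ¬ OrdGap T M → Nat.card M ∣ 2 * (2 ^ f) ^ 2 * ((2 ^ f) ^ 4 - 1))
    (L : Subgroup T) (hL : L ≠ ⊤) (K : Subgroup ↥L) [K.Normal]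
    (h : Set.range (orderOf : (↥L ⧸ K) → ℕ) = Set.range (orderOf : T → ℕ)) : K = ⊥ := by
  have hsf : Fact s.Prime := ⟨hs⟩
  have hLO := not_ordGap_of_range L K h
  obtain ⟨M, hM, hLM⟩ := (eq_top_or_exists_le_coatom L).resolve_left hL
  have hMc := hmax M hM (fun h' => hLO (h'.mono hLM))
  have hLc : Nat.card L ∣ 2 * (2 ^ f) ^ 2 * ((2 ^ f) ^ 4 - 1) := (Subgroup.card_dvd_of_le hLM).trans hMc
  have hcK := Subgroup.card_eq_card_quotient_mul_card_subgroup K
  have hq : 1 < (2 ^ f) ^ 4 := Nat.one_lt_pow (by norm_num) (Nat.one_lt_pow (by omega) (by norm_num))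
  -- no odd primes
  have hK2 : ∀ v : ℕ, v.Prime → v ∣ Nat.card K → v = 2 := by
    intro v hv hvK
    by_contra hv2
    have hvc : Nat.Coprime v 2 := (Nat.coprime_primes hv Nat.prime_two).2 hv2
    -- the full power
    obtain ⟨k, hk1, hk2⟩ : ∃ k, v ^ k ∣ (2 ^ f) ^ 4 - 1 ∧ ¬ v ^ (k + 1) ∣ (2 ^ f) ^ 4 - 1 := by
      refine ⟨((2 ^ f) ^ 4 - 1).factorization v, Nat.ordProj_dvd _ _, ?_⟩
      exact Nat.pow_succ_factorization_not_dvd (by omega) hv
    obtain ⟨x, hx⟩ := hodd v k hv hv2 hk1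
    have h1 : orderOf x ∈ Set.range (orderOf : (↥L ⧸ K) → ℕ) := by rw [h]; exact ⟨x, rfl⟩
    obtain ⟨y, hy⟩ := h1
    have h2 : v ^ k ∣ Nat.card (L ⧸ K) := by
      rw [← hx, ← hy]
      exact orderOf_dvd_natCard y
    have h3 : v ^ (k + 1) ∣ Nat.card L := by
      rw [hcK, pow_succ]
      exact Nat.mul_dvd_mul h2 hvK
    have h4 := h3.trans hLc
    rw [show 2 * (2 ^ f) ^ 2 * ((2 ^ f) ^ 4 - 1) = 2 ^ (2 * f + 1) * ((2 ^ f) ^ 4 - 1) by
      rw [pow_succ 2 (2 * f), ← pow_mul, mul_comm f 2]; ring] at h4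
    exact hk2 ((Nat.Coprime.pow _ _ hvc).dvd_of_dvd_mul_left h4)
  -- `K` is a 2-group
  obtain ⟨j, hj⟩ : ∃ j, Nat.card K = 2 ^ j := by
    refine ⟨(Nat.card K).primeFactorsList.length, ?_⟩
    exact Nat.eq_prime_pow_of_unique_prime_dvd Nat.card_pos.ne' fun {d} hd hdv => hK2 d hd hdv
  have hjle : j ≤ 2 * f + 1 := by
    have h1 : 2 ^ j ∣ 2 ^ (2 * f + 1) * ((2 ^ f) ^ 4 - 1) := by
      rw [← hj]
      refine (Subgroup.card_subgroup_dvd_card K).trans (hLc.trans ?_)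
      rw [pow_succ 2 (2 * f), ← pow_mul, mul_comm f 2]
      exact dvd_of_eq (by ring)
    have h2 : Nat.Coprime (2 ^ j) ((2 ^ f) ^ 4 - 1) := by
      apply Nat.Coprime.pow_left
      rw [Nat.coprime_two_left, ← Nat.not_even_iff_odd]
      intro he
      have h3 : Even ((2 ^ f) ^ 4) := by
        apply Nat.even_pow.2
        exact ⟨Nat.even_pow.2 ⟨even_two, by omega⟩, by norm_num⟩
      rw [Nat.even_sub hq.le] at he
      exact absurd (he.1 h3) (by decide)
    exact (Nat.pow_dvd_pow_iff_le_right (by norm_num)).1 (h2.dvd_of_dvd_mul_right h1)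
  -- an element of order `s`
  have hsd : s ∣ (2 ^ f) ^ 4 - 1 := by
    rw [← pow_mul, hs2]
    exact ⟨1, by ring⟩
  have hs2' : s ≠ 2 := by
    rintro rfl
    have := (hs2 1).1
    have h1 : (2 : ℕ) ∣ 2 ^ (4 * f) - 1 := (hs2 _).2 dvd_rfl
    have h2 : 2 ∣ 2 ^ (4 * f) := dvd_pow_self 2 (by omega)
    have h3 : 1 ≤ 2 ^ (4 * f) := Nat.one_le_two_pow
    omega
  obtain ⟨x, hx⟩ := hodd s 1 hs hs2' (by rwa [pow_one])
  rw [pow_one] at hx
  obtain ⟨w, hwL, hw⟩ := exists_of_not_ordGap hLO hx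
  -- its action on `K`
  let W : Subgroup L := zpowers ⟨w, hwL⟩
  have hWc : Nat.card W = s ^ 1 := by rw [Nat.card_zpowers, Subgroup.orderOf_mk, hw, pow_one]
  have hWp : IsPGroup s W := IsPGroup.of_card hWc
  let act : MulAction W K := MulAction.compHom K ((MulAut.conjNormal : L →* MulAut K).comp W.subtype)
  have hfix : Nat.card (MulAction.fixedPoints W K) = 1 := by
    rw [Nat.card_eq_one_iff_unique]
    refine ⟨⟨?_⟩, ⟨⟨1, fun g => ?_⟩⟩⟩
    · rintro ⟨y, hy⟩ ⟨y', hy'⟩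
      have key : ∀ y : K, y ∈ MulAction.fixedPoints W K → y = 1 := by
        intro y hy
        by_contra hy1
        have hc : (⟨w, hwL⟩ : L) * y * (⟨w, hwL⟩ : L)⁻¹ = y :=
          congrArg Subtype.val (hy ⟨⟨w, hwL⟩, mem_zpowers _⟩)
        have hc2 : Commute (⟨w, hwL⟩ : L) (y : L) := mul_inv_eq_iff_eq_mul.1 hc
        -- an involution
        obtain ⟨i, -, hi⟩ := (Nat.dvd_prime_pow Nat.prime_two).1 (hj ▸ orderOf_dvd_natCard y)
        have hi0 : i ≠ 0 := by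
          rintro rfl
          rw [pow_zero, orderOf_eq_one_iff] at hi
          exact hy1 hi
        obtain ⟨i, rfl⟩ := Nat.exists_eq_succ_of_ne_zero hi0
        have h1 : orderOf (y ^ (2 ^ i)) = 2 := by
          rw [orderOf_pow_of_dvd (by positivity) ⟨2, by rw [hi, pow_succ]⟩, hi, pow_succ,
            Nat.mul_div_cancel_left _ (by positivity)]
        have h2 : ((((y ^ (2 ^ i) : K) : L) : T)) = 1 := by
          refine hsc w hw _ ?_ ?_
          · have := pow_orderOf_eq_one (y ^ (2 ^ i))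
            rw [h1] at this
            exact congrArg (fun u : K => ((u : L) : T)) this
          · have h3 := (hc2.pow_right (2 ^ i)).symm.eq
            exact congrArg Subtype.val h3
        have h3 : y ^ (2 ^ i) = 1 := Subtype.ext (Subtype.ext h2)
        rw [h3, orderOf_one] at h1
        omega
      apply Subtype.ext
      show y = y'
      rw [key y hy, key y' hy']
    · show (MulAut.conjNormal (g : L) : MulAut K) 1 = 1
      exact map_one (MulAut.conjNormal (g : L) : MulAut K)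
  have hmod := hWp.card_modEq_card_fixedPoints K
  rw [hfix, hj] at hmod
  have h1 : s ∣ 2 ^ j - 1 := (Nat.modEq_iff_dvd' Nat.one_le_two_pow).1 hmod.symm
  have h2 := (hs2 j).1 h1
  have h3 : j = 0 := by
    rcases Nat.eq_zero_or_pos j with h0 | h0
    · exact h0
    · have := Nat.le_of_dvd h0 h2
      omega
  rw [h3, pow_zero] at hj
  exact Subgroup.card_eq_one.1 hj

end Cfsg.Agent.H813.SaxSp
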