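import Cfsg.Agent.H813.SaxAbs
import Cfsg.Agent.H813.SaxSpM
import Cfsg.Agent.S0270

/-!
# The row `PSp_4(2^f)`, `f ≥ 2`, of S2498 and S2528 (helper813)
-/

set_option autoImplicit false

namespace Cfsg.Agent.H813.SaxSp

open Cfsg Cfsg.Agent.H938.Sax Cfsg.Agent.H262.El

variable {F : Type*} [Field F] [Fintype F] [CharP F 2]

theorem exists_f (h4 : 4 ≤ Fintype.card F) : ∃ f : ℕ, 2 ≤ f ∧ Fintype.card F = 2 ^ f := by
  obtain ⟨f, -, hf⟩ := FiniteField.card F 2
  refine ⟨f, ?_, hf⟩
  by_contra hc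
  have h1 : (f : ℕ) ≤ 1 := by omega
  have h2 : 2 ^ (f : ℕ) ≤ 2 ^ 1 := Nat.pow_le_pow_right (by norm_num) h1
  omega

/-- `Sp_4(q)` -/
theorem missMax_sp (h4 : 4 ≤ Fintype.card F) : MissMax (Matrix.symplecticGroup (Fin 2) F) := by
  obtain ⟨f, hf, hF⟩ := exists_f h4
  intro M hM
  obtain ⟨r, n, g, z, hr, hr2, hg, hgc, hz, hnd⟩ := exists_data hf hF
  exact miss_of hr hr2 hg hgc hz fun hOG h => hnd (h.trans (max_card hf hF M hM hOG))

/-- **Every maximal subgroup of `PSp_4(2^f)`, `f ≥ 2`, misses an automorphism class.** -/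
theorem sp4e_miss (h4 : 4 ≤ Fintype.card F) : MissMax (PSp 2 F) :=
  (missMax_sp h4).congr (Cfsg.Agent.GpSp.Row.toPSp F 2)

theorem section_sp (h4 : 4 ≤ Fintype.card F) (L : Subgroup (Matrix.symplecticGroup (Fin 2) F)) (hL : L ≠ ⊤)
    (K : Subgroup ↥L) [K.Normal]
    (h : Set.range (orderOf : (↥L ⧸ K) → ℕ) = Set.range (orderOf : Matrix.symplecticGroup (Fin 2) F → ℕ)) : K = ⊥ := by
  obtain ⟨f, hf, hF⟩ := exists_f h4
  obtain ⟨s, hs⟩ := Cfsg.Agent.H163.PG.Ppd.exists (p := 2) (n := f * 4) le_rfl (by omega) (by omega)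
  have hod : Od (Fintype.card F) 4 s := by
    rw [hF]
    exact Od.of_ppd Nat.prime_two (by omega) (by norm_num) hs
  refine section_of (f := f) (s := s) hs.prime (fun j => ?_) (by omega) (fun v k hv hv2 hd => ?_)
    (fun x hx y hy hc => cent_irr hod hx hy hc) (fun M hM hOG => max_card hf hF M hM hOG) L hL K h
  · rw [mul_comm 4 f]
    exact hs.dvd_iff (by norm_num) j
  · exact exists_odd hv hv2 (by rw [hF]; exact hd)

theorem range_congr {T S : Type*} [Group T] [Group S] (e : T ≃* S) :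
    Set.range (orderOf : T → ℕ) = Set.range (orderOf : S → ℕ) := by
  ext n
  constructor
  · rintro ⟨x, rfl⟩
    exact ⟨e x, orderOf_mulEquiv e x⟩
  · rintro ⟨x, rfl⟩
    exact ⟨e.symm x, orderOf_mulEquiv e.symm x⟩

/-- Transport of the statement on sections. -/
theorem section_congr {T S : Type*} [Group T] [Group S] (e : T ≃* S)
    (hT : ∀ (L : Subgroup T) (K : Subgroup ↥L) [K.Normal],
      Set.range (orderOf : (↥L ⧸ K) → ℕ) = Set.range (orderOf : T → ℕ) → K = ⊥)
    (L : Subgroup S) (K : Subgroup ↥L) [hK : K.Normal]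
    (h : Set.range (orderOf : (↥L ⧸ K) → ℕ) = Set.range (orderOf : S → ℕ)) : K = ⊥ := by
  let L' : Subgroup T := L.comap e.toMonoidHom
  let eL : L' ≃* L :=
    { toFun := fun x => ⟨e x, x.2⟩
      invFun := fun y => ⟨e.symm y, by
        show e (e.symm (y : S)) ∈ L
        rw [e.apply_symm_apply]; exact y.2⟩
      left_inv := fun x => Subtype.ext (e.symm_apply_apply _)
      right_inv := fun y => Subtype.ext (e.apply_symm_apply _)
      map_mul' := fun x y => Subtype.ext (map_mul e _ _) }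
  let K' : Subgroup L' := K.comap eL.toMonoidHom
  have hK' : K'.Normal := hK.comap _
  have e1 : L' ⧸ K' ≃* L ⧸ K := QuotientGroup.congr K' K eL (Subgroup.map_comap_eq_self_of_surjective eL.surjective K)
  have h1 : K' = ⊥ := hT L' K' (by rw [range_congr e1, h, range_congr e])
  have h2 : K'.map eL.toMonoidHom = K := Subgroup.map_comap_eq_self_of_surjective eL.surjective K
  rw [← h2, h1, Subgroup.map_bot]

theorem section_top {G : Type*} [Group G] [Finite G] [IsSimpleGroup G] (L : Subgroup G) (hL : L = ⊤) (K : Subgroup ↥L)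
    [hK : K.Normal] (h : Set.range (orderOf : (↥L ⧸ K) → ℕ) = Set.range (orderOf : G → ℕ)) : K = ⊥ := by
  subst hL
  have h1 : (K.map (Subgroup.topEquiv (G := G)).toMonoidHom).Normal :=
    hK.map _ (Subgroup.topEquiv (G := G)).surjective
  rcases h1.eq_bot_or_eq_top with h2 | h2
  · rwa [Subgroup.map_eq_bot_iff_of_injective _ (Subgroup.topEquiv (G := G)).injective] at h2
  · exfalso
    have h3 : K = ⊤ := by
      rw [eq_top_iff]
      intro x _
      have : (Subgroup.topEquiv (G := G)) x ∈ K.map (Subgroup.topEquiv (G := G)).toMonoidHom := by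
        rw [h2]; trivial
      obtain ⟨y, hy, hyx⟩ := this
      have : y = x := (Subgroup.topEquiv (G := G)).injective hyx
      rwa [← this]
    subst h3
    obtain ⟨g, hg⟩ := exists_ne (1 : G)
    have h4 : orderOf g ∈ Set.range (orderOf : (↥(⊤ : Subgroup G) ⧸ (⊤ : Subgroup ↥(⊤ : Subgroup G))) → ℕ) := by
      rw [h]; exact ⟨g, rfl⟩
    obtain ⟨x, hx⟩ := h4
    have h5 : x = 1 := by
      obtain ⟨y, rfl⟩ := QuotientGroup.mk_surjective x
      exact (QuotientGroup.eq_one_iff y).2 (Subgroup.mem_top y)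
    rw [h5, orderOf_one] at hx
    exact hg (orderOf_eq_one_iff.1 hx.symm)

/-- **Sections of `PSp_4(2^f)`, `f ≥ 2`, with the same element orders.** -/
theorem sp4e_section (h4 : 4 ≤ Fintype.card F) (L : Subgroup (PSp 2 F)) (K : Subgroup ↥L) [K.Normal]
    (h : Set.range (orderOf : (↥L ⧸ K) → ℕ) = Set.range (orderOf : PSp 2 F → ℕ)) : K = ⊥ := by
  have hsimp : IsSimpleGroup (PSp 2 F) := Cfsg.Agent.S0270.result 2 le_rfl (by omega)
  have e := Cfsg.Agent.GpSp.Row.toPSp F 2
  have hnt : Nontrivial (Matrix.symplecticGroup (Fin 2) F) := e.toEquiv.nontrivial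
  have hsimp' : IsSimpleGroup (Matrix.symplecticGroup (Fin 2) F) := by
    exact IsSimpleGroup.isSimpleGroup_of_surjective e.symm.toMonoidHom e.symm.surjective
  refine section_congr e (fun L K _ h => ?_) L K h
  by_cases hL : L = ⊤
  · exact section_top L hL K h
  · exact section_sp h4 L hL K h

end Cfsg.Agent.H813.SaxSp
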