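import Cfsg.Agent.H262.ElSympPSp
import Cfsg.Agent.H931.PspDuo
import Cfsg.Agent.S2678
import Cfsg.Agent.S0262
import Cfsg.Agent.ClassicalGeometry.PSL2Basic

/-!
# Elements of `Sp_4(q)`, `q` even (helper813, for S2498, S2528)
-/

set_option autoImplicit false

namespace Cfsg.Agent.H813.SaxSp

open Matrix Cfsg.Agent.H931.PspDuo Cfsg.Agent.H262.El Cfsg.Agent.H876
open scoped MatrixGroups

universe u

section SL2

variable {F : Type*} [Field F]

/-- elements of prime power order of `SL₂` -/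
theorem exists_order [Fintype F] {v n : ℕ} (hv : v.Prime) (hv2 : v ≠ 2) (h3 : (v : F) ≠ 0)
    (hn : v ^ n ∣ Fintype.card F ^ 2 - 1) : ∃ y : Matrix.SpecialLinearGroup (Fin 2) F, orderOf y = v ^ n := by
  have : Fact v.Prime := ⟨hv⟩
  obtain ⟨p, hp⟩ := CharP.exists F
  have hpp : p.Prime := (CharP.char_is_prime_or_zero F p).resolve_right (CharP.char_ne_zero_of_finite F p)
  have : Fact p.Prime := ⟨hpp⟩
  have hp3 : v ≠ p := by
    rintro rfl
    exact h3 (by exact_mod_cast CharP.cast_eq_zero F v)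
  let P : Sylow v (Matrix.SpecialLinearGroup (Fin 2) F) := default
  have hc : IsCyclic (P : Subgroup (Matrix.SpecialLinearGroup (Fin 2) F)) :=
    Cfsg.Agent.S0262.result p v hv2 hp3 P
  obtain ⟨g, hg⟩ := hc.exists_generator
  have hcard : orderOf g = Nat.card (P : Subgroup (Matrix.SpecialLinearGroup (Fin 2) F)) :=
    orderOf_eq_card_of_forall_mem_zpowers hg
  have hd : v ^ n ∣ orderOf g := by
    rw [hcard]
    refine P.pow_dvd_card_of_pow_dvd_card ?_
    rw [Cfsg.Agent.ClassicalGeometry.PSL2Basic.card_SL2]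
    exact dvd_mul_of_dvd_right hn _
  obtain ⟨m, hm⟩ := hd
  have hg0 : 0 < orderOf g := orderOf_pos g
  refine ⟨(g : Matrix.SpecialLinearGroup (Fin 2) F) ^ m, ?_⟩
  have hm0 : m ≠ 0 := by
    rintro rfl
    omega
  rw [orderOf_pow' _ hm0]
  rw [Subgroup.orderOf_coe, hm, Nat.gcd_mul_left_left, Nat.mul_div_cancel _ (Nat.pos_of_ne_zero hm0)]

variable [CharP F 2]

theorem sq_of_trace {A : Matrix (Fin 2) (Fin 2) F} (hdet : A.det = 1) (htr : A 0 0 + A 1 1 = 0) : A * A = 1 := by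
  have h2 : (2 : F) = 0 := CharTwo.two_eq_zero
  rw [det_fin_two] at hdet
  have h1 : A 1 1 = -A 0 0 := by linear_combination htr
  ext i j
  rw [Matrix.mul_apply, Fin.sum_univ_two]
  fin_cases i <;> fin_cases j
  · show A 0 0 * A 0 0 + A 0 1 * A 1 0 = 1
    rw [h1] at hdet
    linear_combination -hdet - h2
  · show A 0 0 * A 0 1 + A 0 1 * A 1 1 = 0
    linear_combination A 0 1 * htr
  · show A 1 0 * A 0 0 + A 1 1 * A 1 0 = 0
    linear_combination A 1 0 * htr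
  · show A 1 0 * A 0 1 + A 1 1 * A 1 1 = 1
    rw [h1] at hdet ⊢
    linear_combination -hdet - h2

/-- an involution commuting with `A ∈ SL₂`, `A² ≠ 1`, is trivial -/
theorem eq_one_of_comm {A P : Matrix (Fin 2) (Fin 2) F} (hdet : A.det = 1) (hA : A * A ≠ 1) (hP : P * P = 1)
    (hc : P * A = A * P) : P = 1 := by
  have h2 : (2 : F) = 0 := CharTwo.two_eq_zero
  have htr : A 0 0 + A 1 1 ≠ 0 := fun h => hA (sq_of_trace hdet h)
  have e := fun i j => congrFun (congrFun hP i) j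
  have e00 : P 0 0 * P 0 0 + P 0 1 * P 1 0 = 1 := by
    have := e 0 0
    rwa [Matrix.mul_apply, Fin.sum_univ_two] at this
  have e01 : P 0 0 * P 0 1 + P 0 1 * P 1 1 = 0 := by
    have := e 0 1
    rwa [Matrix.mul_apply, Fin.sum_univ_two] at this
  have e10 : P 1 0 * P 0 0 + P 1 1 * P 1 0 = 0 := by
    have := e 1 0
    rwa [Matrix.mul_apply, Fin.sum_univ_two] at this
  have e11 : P 1 0 * P 0 1 + P 1 1 * P 1 1 = 1 := by
    have := e 1 1
    rwa [Matrix.mul_apply, Fin.sum_univ_two] at this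
  have c := fun i j => congrFun (congrFun hc i) j
  have c01 : P 0 0 * A 0 1 + P 0 1 * A 1 1 = A 0 0 * P 0 1 + A 0 1 * P 1 1 := by
    have := c 0 1
    rwa [Matrix.mul_apply, Matrix.mul_apply, Fin.sum_univ_two, Fin.sum_univ_two] at this
  have c10 : P 1 0 * A 0 0 + P 1 1 * A 1 0 = A 1 0 * P 0 0 + A 1 1 * P 1 0 := by
    have := c 1 0
    rwa [Matrix.mul_apply, Matrix.mul_apply, Fin.sum_univ_two, Fin.sum_univ_two] at this
  -- the diagonal entries agree
  have hsum : (P 0 0 + P 1 1) * (P 0 0 + P 1 1) = 0 := by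
    linear_combination e00 + e11 + h2 * (P 0 0 * P 1 1) + h2 - h2 * (P 0 1 * P 1 0)
  have hd : P 0 0 + P 1 1 = 0 := by simpa using hsum
  have hd' : P 1 1 = P 0 0 := by linear_combination hd - P 0 0 * h2
  have h01 : P 0 1 = 0 := by
    have h3 : P 0 1 * (A 0 0 + A 1 1) = 0 := by
      linear_combination c01 - A 0 1 * (hd - P 1 1 * h2) + h2 * (A 0 0 * P 0 1)
    exact (mul_eq_zero.1 h3).resolve_right htr
  have h10 : P 1 0 = 0 := by
    have h3 : P 1 0 * (A 0 0 + A 1 1) = 0 := by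
      linear_combination c10 - A 1 0 * (hd - P 0 0 * h2) + h2 * (A 1 1 * P 1 0)
    exact (mul_eq_zero.1 h3).resolve_right htr
  have h00 : (P 0 0 - 1) * (P 0 0 - 1) = 0 := by
    rw [h01] at e00
    linear_combination e00 - (P 0 0 - 1) * h2
  have h00' : P 0 0 = 1 := by
    have := mul_self_eq_zero.1 h00
    linear_combination this
  ext i j
  fin_cases i <;> fin_cases j
  · exact h00'
  · exact h01
  · exact h10
  · exact hd'.trans h00'

end SL2

section Sp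

variable {F : Type*} [Field F]

/-- the product of two copies of `SL₂` -/
noncomputable def mkHom (F : Type*) [Field F] :
    Matrix.SpecialLinearGroup (Fin 2) F × Matrix.SpecialLinearGroup (Fin 2) F →* Matrix.symplecticGroup (Fin 2) F where
  toFun x := mk x.1 x.2
  map_one' := mk_one
  map_mul' _ _ := (mk_mul _ _ _ _).symm

theorem mkHom_injective : Function.Injective (mkHom F) := by
  rintro ⟨a, b⟩ ⟨a', b'⟩ h
  obtain ⟨h1, h2⟩ := mk_inj h
  exact Prod.ext h1 h2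

/-- a matrix commuting with the second projector is block diagonal -/
theorem eq_bl {y : Matrix (Fin 2 ⊕ Fin 2) (Fin 2 ⊕ Fin 2) F} (h : y * bl 0 1 = bl 0 1 * y) :
    ∃ P Q : Matrix (Fin 2) (Fin 2) F, y = bl P Q := by
  refine ⟨!![y (Sum.inl 0) (Sum.inl 0), y (Sum.inl 0) (Sum.inr 0); y (Sum.inr 0) (Sum.inl 0), y (Sum.inr 0) (Sum.inr 0)],
    !![y (Sum.inl 1) (Sum.inl 1), y (Sum.inl 1) (Sum.inr 1); y (Sum.inr 1) (Sum.inl 1), y (Sum.inr 1) (Sum.inr 1)], ?_⟩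
  have he : ∀ i j, (y * bl (0 : Matrix (Fin 2) (Fin 2) F) 1 : Matrix (Fin 2 ⊕ Fin 2) (Fin 2 ⊕ Fin 2) F) i j =
      (bl (0 : Matrix (Fin 2) (Fin 2) F) 1 * y) i j := fun i j => by rw [h]
  have h01 := he (Sum.inl 0) (Sum.inl 1)
  have h10 := he (Sum.inl 1) (Sum.inl 0)
  have k01 := he (Sum.inl 0) (Sum.inr 1)
  have k10 := he (Sum.inl 1) (Sum.inr 0)
  have l01 := he (Sum.inr 0) (Sum.inl 1)
  have l10 := he (Sum.inr 1) (Sum.inl 0)
  have m01 := he (Sum.inr 0) (Sum.inr 1)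
  have m10 := he (Sum.inr 1) (Sum.inr 0)
  simp [bl, Matrix.mul_apply, Fintype.sum_sum_type, fromBlocks, diagonal] at h01 h10 k01 k10 l01 l10 m01 m10
  rw [eq_comm] at h10 k10 l10 m10
  ext i j
  rcases i with i | i <;> rcases j with j | j <;> fin_cases i <;> fin_cases j <;>
    simp [bl, fromBlocks, diagonal, *]

theorem bl_add (A B A' B' : Matrix (Fin 2) (Fin 2) F) : bl A B + bl A' B' = bl (A + A') (B + B') := by
  simp only [bl, fromBlocks_add, diagonal_add]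
  congr 1 <;> congr 1 <;> funext k <;> fin_cases k <;> simp

theorem bl_smul (c : F) (A B : Matrix (Fin 2) (Fin 2) F) : c • bl A B = bl (c • A) (c • B) := by
  simp only [bl, fromBlocks_smul, ← diagonal_smul]
  congr 1 <;> congr 1 <;> funext k <;> fin_cases k <;> simp

variable [CharP F 2]

theorem cayley (A : Matrix (Fin 2) (Fin 2) F) (hdet : A.det = 1) : A * A + (A 0 0 + A 1 1) • A + 1 = 0 := by
  have h2 : (2 : F) = 0 := CharTwo.two_eq_zero
  rw [det_fin_two] at hdet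
  ext i j
  rw [Matrix.add_apply, Matrix.add_apply, Matrix.mul_apply, Fin.sum_univ_two, Matrix.smul_apply, smul_eq_mul]
  fin_cases i <;> fin_cases j
  · show A 0 0 * A 0 0 + A 0 1 * A 1 0 + (A 0 0 + A 1 1) * A 0 0 + 1 = 0
    linear_combination (A 0 0 * A 0 0 + A 0 1 * A 1 0 + 1) * h2 + hdet
  · show A 0 0 * A 0 1 + A 0 1 * A 1 1 + (A 0 0 + A 1 1) * A 0 1 + 0 = 0
    linear_combination (A 0 0 * A 0 1 + A 0 1 * A 1 1) * h2
  · show A 1 0 * A 0 0 + A 1 1 * A 1 0 + (A 0 0 + A 1 1) * A 1 0 + 0 = 0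
    linear_combination (A 1 0 * A 0 0 + A 1 1 * A 1 0) * h2
  · show A 1 0 * A 0 1 + A 1 1 * A 1 1 + (A 0 0 + A 1 1) * A 1 1 + 1 = 0
    linear_combination (A 1 0 * A 0 1 + A 1 1 * A 1 1 + 1) * h2 + hdet

/-- **The class with centralizer of odd order.** -/
theorem cent_mk {a : Matrix.SpecialLinearGroup (Fin 2) F} {n : ℕ} (ha : orderOf a = n) (h5 : 5 ≤ n)
    {y : Matrix.symplecticGroup (Fin 2) F} (hy : y ^ 2 = 1) (hyg : y * mk a (a ^ 2) = mk a (a ^ 2) * y) : y = 1 := by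
  have h2 : (2 : F) = 0 := CharTwo.two_eq_zero
  obtain ⟨A, hA⟩ : ∃ A : Matrix (Fin 2) (Fin 2) F, A = (a : Matrix (Fin 2) (Fin 2) F) := ⟨_, rfl⟩
  have hdet : A.det = 1 := by rw [hA]; exact a.2
  have hpow : ∀ k : ℕ, ((a ^ k : Matrix.SpecialLinearGroup (Fin 2) F) : Matrix (Fin 2) (Fin 2) F) = A ^ k := by
    intro k
    rw [hA]
    exact Matrix.SpecialLinearGroup.coe_pow a k
  have hne : ∀ k : ℕ, 0 < k → k < n → A ^ k ≠ 1 := by
    intro k hk hkn h
    have h1 : a ^ k = 1 := Subtype.ext (by rw [hpow, h]; rfl)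
    have := Nat.le_of_dvd hk (orderOf_dvd_of_pow_eq_one h1)
    omega
  have hAn : A ^ n = 1 := by
    rw [← hpow, ← ha, pow_orderOf_eq_one]
    rfl
  -- the trace
  obtain ⟨τ, hτ⟩ : ∃ τ, τ = A 0 0 + A 1 1 := ⟨_, rfl⟩
  have hcay := cayley A hdet
  rw [← hτ] at hcay
  have hτ0 : τ ≠ 0 := by
    intro h0
    rw [hτ] at h0
    exact hne 2 (by norm_num) (by omega) (by rw [sq]; exact sq_of_trace hdet h0)
  have hτ1 : τ ≠ 1 := by
    intro h1
    rw [h1, one_smul] at hcay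
    apply hne 3 (by norm_num) (by omega)
    have h3 : A * A = -A - 1 := by
      rw [← sub_eq_zero, ← hcay]
      abel
    rw [pow_succ, sq, h3, sub_mul, neg_mul, h3, one_mul]
    abel
  -- `B = A ^ 2`
  have hB : (A ^ 2).det = 1 := by rw [det_pow, hdet, one_pow]
  have hcayB := cayley (A ^ 2) hB
  have hτB : (A ^ 2) 0 0 + (A ^ 2) 1 1 = τ * τ := by
    rw [sq, Matrix.mul_apply, Matrix.mul_apply, Fin.sum_univ_two, Fin.sum_univ_two, hτ]
    rw [det_fin_two] at hdet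
    linear_combination (-2 : F) * hdet - h2 + 0 * h2
  obtain ⟨c, hc⟩ : ∃ c : F, c = τ - τ * τ := ⟨_, rfl⟩
  have hc0 : c ≠ 0 := by
    intro h0
    rw [hc] at h0
    have h3 : τ * (1 - τ) = 0 := by linear_combination h0
    rcases mul_eq_zero.1 h3 with h4 | h4
    · exact hτ0 h4
    · exact hτ1 (by linear_combination -h4)
  obtain ⟨G, hG⟩ : ∃ G : Matrix (Fin 2 ⊕ Fin 2) (Fin 2 ⊕ Fin 2) F, G = bl A (A ^ 2) := ⟨_, rfl⟩
  have hGpow : ∀ k : ℕ, G ^ k = bl (A ^ k) ((A ^ 2) ^ k) := by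
    intro k
    induction k with
    | zero => rw [pow_zero, pow_zero, pow_zero, bl_one]
    | succ k ih => rw [pow_succ, ih, hG, bl_mul, ← pow_succ, ← pow_succ]
  have hE1 : G * G + τ • G + 1 = bl 0 (c • A ^ 2) := by
    rw [hG, bl_mul, bl_smul, ← bl_one, bl_add, bl_add, hcay]
    congr 1
    rw [hτB] at hcayB
    have h3 : A ^ 2 * A ^ 2 + 1 = -((τ * τ) • A ^ 2) := by
      rw [← sub_eq_zero, ← hcayB]
      abel
    calc A ^ 2 * A ^ 2 + τ • A ^ 2 + 1 = (A ^ 2 * A ^ 2 + 1) + τ • A ^ 2 := by abel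
      _ = c • A ^ 2 := by rw [h3, hc, sub_smul]; abel
  have hE : bl (0 : Matrix (Fin 2) (Fin 2) F) 1 = c⁻¹ • ((G * G + τ • G + 1) * G ^ (n - 1)) := by
    rw [hE1, hGpow, bl_mul, bl_smul, Matrix.zero_mul, smul_zero, Matrix.smul_mul, smul_smul, inv_mul_cancel₀ hc0, one_smul]
    congr 1
    rw [← pow_succ', show n - 1 + 1 = n by omega, ← pow_mul, mul_comm, pow_mul, hAn, one_pow]
  -- `y` commutes with `G`
  obtain ⟨Y, hY⟩ : ∃ Y : Matrix (Fin 2 ⊕ Fin 2) (Fin 2 ⊕ Fin 2) F, Y = (y : Matrix _ _ F) := ⟨_, rfl⟩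
  have hYG : Y * G = G * Y := by
    have h3 := congrArg Subtype.val hyg
    have h4 : (mk a (a ^ 2) : Matrix (Fin 2 ⊕ Fin 2) (Fin 2 ⊕ Fin 2) F) = G := by
      rw [hG, ← hpow 2, hA]
      rfl
    rw [← h4, hY]
    exact h3
  have hYY : Y * Y = 1 := by
    have h3 := congrArg Subtype.val hy
    rw [hY, ← sq]
    exact h3
  have hcomm : Commute Y G := hYG
  have hYE : Y * bl 0 1 = bl 0 1 * Y := by
    rw [hE, mul_smul_comm, smul_mul_assoc]
    congr 1
    refine Commute.mul_right ?_ (hcomm.pow_right _)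
    exact ((hcomm.mul_right hcomm).add_right (hcomm.smul_right τ)).add_right (Commute.one_right _)
  obtain ⟨P, Q, hPQ⟩ := eq_bl hYE
  rw [hPQ, bl_mul, ← bl_one] at hYY
  obtain ⟨hP, hQ⟩ := bl_inj hYY
  rw [hPQ, hG, bl_mul, bl_mul] at hYG
  obtain ⟨hPA, hQA⟩ := bl_inj hYG
  have hP1 := eq_one_of_comm hdet (by rw [← sq]; exact hne 2 (by norm_num) (by omega)) hP hPA
  have hQ1 := eq_one_of_comm hB (by rw [← sq, ← pow_mul]; exact hne 4 (by norm_num) (by omega)) hQ hQA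
  apply Subtype.ext
  rw [← hY, hPQ, hP1, hQ1, bl_one]
  rfl

/-- elements acting irreducibly -/
theorem cent_irr [Fintype F] {s : ℕ} (hod : Od (Fintype.card F) 4 s) {x : Matrix.symplecticGroup (Fin 2) F}
    (hx : orderOf x = s) {y : Matrix.symplecticGroup (Fin 2) F} (hy : y ^ 2 = 1) (hc : y * x = x * y) : y = 1 := by
  have hι : Fintype.card (Fin 2 ⊕ Fin 2) = 4 := by simp
  have h2 : (2 : F) = 0 := CharTwo.two_eq_zero
  obtain ⟨X, hX⟩ : ∃ X : GL (Fin 2 ⊕ Fin 2) F, X = spToGL 2 F x := ⟨_, rfl⟩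
  obtain ⟨Y, hY⟩ : ∃ Y : GL (Fin 2 ⊕ Fin 2) F, Y = spToGL 2 F y := ⟨_, rfl⟩
  have hXs : X ^ s = 1 := by rw [hX, ← map_pow, ← hx, pow_orderOf_eq_one, map_one]
  have hX1 : X ≠ 1 := by
    intro h
    have h1 : x = 1 := spToGL_injective (by rw [← hX, h, map_one])
    rw [h1, orderOf_one] at hx
    exact hod.prime.one_lt.ne hx
  have hYY : (Y : Matrix (Fin 2 ⊕ Fin 2) (Fin 2 ⊕ Fin 2) F) * Y = 1 := by
    rw [← Units.val_mul, ← sq, hY, ← map_pow, hy, map_one]
    rfl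
  have hYX : (Y : Matrix (Fin 2 ⊕ Fin 2) (Fin 2 ⊕ Fin 2) F) * X = X * Y := by
    rw [← Units.val_mul, ← Units.val_mul, hY, hX, ← map_mul, hc, map_mul]
  rcases irr_of_od (by rw [hι]; exact hod) hXs hX1 (fixS Y) (fun v hv => by
    rw [mem_fixS] at hv ⊢
    rw [Matrix.mulVec_mulVec, hYX, ← Matrix.mulVec_mulVec, hv]) with h | h
  · exfalso
    -- the image of `Y - 1` is fixed
    have key : ∀ v : Fin 2 ⊕ Fin 2 → F, (Y : Matrix (Fin 2 ⊕ Fin 2) (Fin 2 ⊕ Fin 2) F) *ᵥ v = v := by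
      intro v
      have h1 : (Y : Matrix (Fin 2 ⊕ Fin 2) (Fin 2 ⊕ Fin 2) F) *ᵥ v + v ∈ fixS Y := by
        rw [mem_fixS, Matrix.mulVec_add, Matrix.mulVec_mulVec, hYY, Matrix.one_mulVec, add_comm]
      rw [h, Submodule.mem_bot] at h1
      have h3 : v + v = 0 := by rw [← two_smul F v, h2, zero_smul]
      calc (Y : Matrix (Fin 2 ⊕ Fin 2) (Fin 2 ⊕ Fin 2) F) *ᵥ v
          = ((Y : Matrix (Fin 2 ⊕ Fin 2) (Fin 2 ⊕ Fin 2) F) *ᵥ v + v) + v - (v + v) := by abel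
        _ = v := by rw [h1, h3]; simp
    have h4 : (Pi.single (Sum.inl 0) 1 : Fin 2 ⊕ Fin 2 → F) ∈ fixS Y := mem_fixS.2 (key _)
    rw [h, Submodule.mem_bot] at h4
    have := congrFun h4 (Sum.inl 0)
    simp at this
  · have h1 := fixS_eq_top h
    apply spToGL_injective
    rw [← hY, h1, map_one]

/-- odd prime power orders -/
theorem exists_odd [Fintype F] {v k : ℕ} (hv : v.Prime) (hv2 : v ≠ 2) (hd : v ^ k ∣ Fintype.card F ^ 4 - 1) :
    ∃ x : Matrix.symplecticGroup (Fin 2) F, orderOf x = v ^ k := by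
  obtain ⟨f, -, hf⟩ := FiniteField.card F 2
  have hq1 : 1 ≤ Fintype.card F ^ 2 := Nat.one_le_pow _ _ Fintype.card_pos
  have hfac : Fintype.card F ^ 4 - 1 = (Fintype.card F ^ 2 - 1) * (Fintype.card F ^ 2 + 1) := by
    obtain ⟨c, hc⟩ : ∃ c, Fintype.card F ^ 2 = c + 1 := ⟨_, (Nat.sub_add_cancel hq1).symm⟩
    rw [show Fintype.card F ^ 4 = (Fintype.card F ^ 2) ^ 2 by rw [← pow_mul], hc]
    have : (c + 1) ^ 2 = c * (c + 1 + 1) + 1 := by ring
    rw [this]
    simp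
  have hvF : ∀ (K : Type) [Field K] [CharP K 2], (v : K) ≠ 0 := by
    intro K _ _ h0
    have h1 := (CharP.cast_eq_zero_iff K 2 v).1 h0
    exact hv2 ((Nat.prime_dvd_prime_iff_eq Nat.prime_two hv).1 h1).symm
  have hvF' : (v : F) ≠ 0 := by
    intro h0
    have h1 := (CharP.cast_eq_zero_iff F 2 v).1 h0
    exact hv2 ((Nat.prime_dvd_prime_iff_eq Nat.prime_two hv).1 h1).symm
  by_cases h : v ∣ Fintype.card F ^ 2 - 1
  · have h1 : ¬ v ∣ Fintype.card F ^ 2 + 1 := by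
      intro h'
      have h3 : v ∣ 2 := by
        have h4 := Nat.dvd_sub h' h
        have h5 : Fintype.card F ^ 2 + 1 - (Fintype.card F ^ 2 - 1) = 2 := by omega
        rwa [h5] at h4
      exact hv2 ((Nat.prime_dvd_prime_iff_eq hv Nat.prime_two).1 h3)
    have h3 : v ^ k ∣ Fintype.card F ^ 2 - 1 := by
      rw [hfac] at hd
      exact ((Nat.Prime.coprime_iff_not_dvd hv).2 h1).pow_left k |>.dvd_of_dvd_mul_right hd
    obtain ⟨a, ha⟩ := exists_order hv hv2 hvF' h3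
    refine ⟨mkHom F (a, 1), ?_⟩
    rw [orderOf_injective _ mkHom_injective, Prod.orderOf_mk, orderOf_one, Nat.lcm_one_right, ha]
  · -- the extension field
    have hfin : Fintype (GaloisField 2 (2 * f)) := Fintype.ofFinite _
    have hK : Fintype.card (GaloisField 2 (2 * f)) = Fintype.card F ^ 2 := by
      rw [← Nat.card_eq_fintype_card, GaloisField.card 2 (2 * f) (by have := f.pos; omega), hf, ← pow_mul, mul_comm]
    obtain ⟨a, ha⟩ := exists_order (F := GaloisField 2 (2 * f)) hv hv2 (hvF _) (n := k) (by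
      rw [hK, ← pow_mul]
      exact hd)
    obtain ⟨φ, hφ⟩ := Cfsg.Agent.S2678.result (K := GaloisField 2 (2 * f)) (F := F) hK rfl 1
    have hsl : Function.Injective (slHom (F := GaloisField 2 (2 * f)) 1) := by
      intro A B hAB
      have h1 := congrArg Subtype.val hAB
      have h3 : sl 1 (A : Matrix (Fin 2) (Fin 2) (GaloisField 2 (2 * f))) = sl 1 (B : Matrix (Fin 2) (Fin 2) _) := h1
      rw [sl, sl, fromBlocks_inj] at h3
      obtain ⟨e1, e2, e3, e4⟩ := h3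
      have e : ∀ {c d : GaloisField 2 (2 * f)}, c • (1 : Matrix (Fin 1) (Fin 1) (GaloisField 2 (2 * f))) = d • 1 → c = d :=
        fun h => by simpa using congrFun (congrFun h 0) 0
      apply Subtype.ext
      ext i j
      fin_cases i <;> fin_cases j
      · exact e e1
      · exact e e2
      · exact e e3
      · exact e e4
    refine ⟨φ (slHom 1 a), ?_⟩
    have h1 : orderOf (φ (slHom 1 a)) = v ^ k := by
      rw [orderOf_injective φ hφ, orderOf_injective _ hsl, ha]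
    exact h1

/-- a prime `r ≥ 5` dividing `q² - 1` -/
theorem exists_prime {f : ℕ} (hf : 2 ≤ f) : ∃ r : ℕ, r.Prime ∧ 5 ≤ r ∧ r ∣ (2 ^ f) ^ 2 - 1 := by
  by_cases h3 : f = 3
  · subst h3
    exact ⟨7, by norm_num, by norm_num, by norm_num⟩
  · obtain ⟨r, hr⟩ := Cfsg.Agent.H163.PG.Ppd.exists (p := 2) (n := 2 * f) le_rfl (by omega) (by omega)
    have hrf := Fact.mk hr.prime
    have hord := hr.ord
    have h2 : (2 : ZMod r) ≠ 0 := by
      intro h0
      have h1 : orderOf ((2 : ℕ) : ZMod r) = 0 := by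
        rw [Nat.cast_ofNat, h0]
        rw [orderOf_eq_zero_iff']
        intro k hk
        rw [zero_pow hk.ne']
        exact zero_ne_one
      omega
    have h1 : 2 * f ∣ r - 1 := by
      rw [← hord]
      apply orderOf_dvd_of_pow_eq_one
      rw [Nat.cast_ofNat]
      exact ZMod.pow_card_sub_one_eq_one h2
    have h4 := Nat.le_of_dvd (by have := hr.prime.one_lt; omega) h1
    refine ⟨r, hr.prime, by omega, ?_⟩
    rw [← pow_mul, mul_comm, ← ZMod.natCast_eq_zero_iff, Nat.cast_sub Nat.one_le_two_pow]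
    push_cast
    rw [sub_eq_zero]
    have := pow_orderOf_eq_one ((2 : ℕ) : ZMod r)
    rwa [hord, Nat.cast_ofNat] at this

/-- **The data for the missing class.** -/
theorem exists_data [Fintype F] {f : ℕ} (hf : 2 ≤ f) (hF : Fintype.card F = 2 ^ f) :
    ∃ (r n : ℕ) (g z : Matrix.symplecticGroup (Fin 2) F), r.Prime ∧ r ≠ 2 ∧ orderOf g = r ^ n ∧
      (∀ y : Matrix.symplecticGroup (Fin 2) F, y ^ 2 = 1 → y * g = g * y → y = 1) ∧ orderOf z = 2 * r ^ n ∧
      ¬ r ^ (n + 1) ∣ 2 * (2 ^ f) ^ 2 * ((2 ^ f) ^ 4 - 1) := by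
  obtain ⟨r, hr, hr5, hrd⟩ := exists_prime hf
  have hr2 : r ≠ 2 := by omega
  have hq : 1 < (2 ^ f) ^ 2 := Nat.one_lt_pow (by norm_num) (Nat.one_lt_pow (by omega) (by norm_num))
  obtain ⟨n, hn⟩ : ∃ n, n = ((2 ^ f) ^ 2 - 1).factorization r := ⟨_, rfl⟩
  have hn1 : r ^ n ∣ (2 ^ f) ^ 2 - 1 := by rw [hn]; exact Nat.ordProj_dvd _ _
  have hn2 : ¬ r ^ (n + 1) ∣ (2 ^ f) ^ 2 - 1 := by
    rw [hn]
    exact Nat.pow_succ_factorization_not_dvd (by omega) hr
  have hn0 : n ≠ 0 := by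
    rintro rfl
    exact hn2 (by simpa using hrd)
  have hrF : (r : F) ≠ 0 := by
    intro h0
    have h1 := (CharP.cast_eq_zero_iff F 2 r).1 h0
    exact hr2 ((Nat.prime_dvd_prime_iff_eq Nat.prime_two hr).1 h1).symm
  obtain ⟨a, ha⟩ := exists_order (F := F) hr hr2 hrF (n := n) (by rw [hF]; exact hn1)
  have hrn5 : 5 ≤ r ^ n := hr5.trans (Nat.le_self_pow hn0 r)
  -- an involution
  have hev : 2 ∣ Nat.card (Matrix.SpecialLinearGroup (Fin 2) F) := by
    rw [Cfsg.Agent.ClassicalGeometry.PSL2Basic.card_SL2]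
    exact Dvd.dvd.mul_right (by rw [hF]; exact dvd_pow_self 2 (by omega)) _
  have : Fact (Nat.Prime 2) := ⟨Nat.prime_two⟩
  obtain ⟨t, ht⟩ := exists_prime_orderOf_dvd_card' (G := Matrix.SpecialLinearGroup (Fin 2) F) 2 hev
  refine ⟨r, n, mk a (a ^ 2), mk a t, hr, hr2, ?_, ?_, ?_, ?_⟩
  · have h1 : orderOf (mkHom F (a, a ^ 2)) = r ^ n := by
      rw [orderOf_injective _ mkHom_injective, Prod.orderOf_mk, ha]
      exact Nat.lcm_eq_left (ha ▸ orderOf_pow_dvd 2)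
    exact h1
  · exact fun y hy hyg => cent_mk ha hrn5 hy hyg
  · have h1 : orderOf (mkHom F (a, t)) = 2 * r ^ n := by
      rw [orderOf_injective _ mkHom_injective, Prod.orderOf_mk, ha, ht, mul_comm]
      exact Nat.Coprime.lcm_eq_mul (Nat.Coprime.pow_left n ((Nat.coprime_primes hr Nat.prime_two).2 hr2))
    exact h1
  · intro h
    have hc2 : Nat.Coprime (r ^ (n + 1)) (2 ^ (2 * f + 1)) :=
      Nat.Coprime.pow _ _ ((Nat.coprime_primes hr Nat.prime_two).2 hr2)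
    have h1 : r ^ (n + 1) ∣ (2 ^ f) ^ 4 - 1 := by
      rw [show 2 * (2 ^ f) ^ 2 * ((2 ^ f) ^ 4 - 1) = 2 ^ (2 * f + 1) * ((2 ^ f) ^ 4 - 1) by
        rw [pow_succ 2 (2 * f), ← pow_mul, mul_comm f 2]; ring] at h
      exact hc2.dvd_of_dvd_mul_left h
    have hfac : (2 ^ f) ^ 4 - 1 = ((2 ^ f) ^ 2 - 1) * ((2 ^ f) ^ 2 + 1) := by
      obtain ⟨c, hc⟩ : ∃ c, (2 ^ f) ^ 2 = c + 1 := ⟨_, (Nat.sub_add_cancel hq.le).symm⟩
      rw [show (2 ^ f) ^ 4 = ((2 ^ f) ^ 2) ^ 2 by ring, hc]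
      have : (c + 1) ^ 2 = c * (c + 1 + 1) + 1 := by ring
      rw [this]
      simp
    have h2 : ¬ r ∣ (2 ^ f) ^ 2 + 1 := by
      intro h'
      have h3 : r ∣ 2 := by
        have h4 := Nat.dvd_sub h' hrd
        have h5 : (2 ^ f) ^ 2 + 1 - ((2 ^ f) ^ 2 - 1) = 2 := by omega
        rwa [h5] at h4
      exact hr2 ((Nat.prime_dvd_prime_iff_eq hr Nat.prime_two).1 h3)
    rw [hfac] at h1
    exact hn2 (((Nat.Prime.coprime_iff_not_dvd hr).2 h2).pow_left (n + 1) |>.dvd_of_dvd_mul_right h1)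

end Sp

end Cfsg.Agent.H813.SaxSp
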